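import Cfsg.Agent.SolvBase.Prim

/-!
A soluble completely reducible linear group has three vectors with trivial common stabiliser.
-/

set_option autoImplicit false
set_option linter.style.haveILetI false
set_option linter.unusedSectionVars false

universe u

namespace CfsgLib.SolvBase

open OddBase

/-- Every module size is good for triples. -/
theorem triGood : ∀ n, TriGood.{u} n := by
  intro n
  induction n using Nat.strong_induction_on with
  | _ n ih =>
    intro V _ _ hn A hsol hcr
    subst hn
    rcases subsingleton_or_nontrivial V with hV | hV
    · exact ⟨(0, 0, 0), fun a _ _ _ _ => aut_ext fun v => Subsingleton.elim _ _⟩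
    by_cases hirr : Irr A
    · by_cases hB : Nonempty (Blocks A)
      · obtain ⟨Bk⟩ := hB
        exact blocks_hasTriple Bk hsol hirr ih
      · exact prim_hasTriple hsol
          (fun B hBn hBc => (blocks_or_field hirr hBn hBc).resolve_left hB)
    · unfold Irr at hirr
      push Not at hirr
      obtain ⟨U, hU, hU0, hU1⟩ := hirr
      obtain ⟨W, hW, hd, hs⟩ := hcr U hU
      have hlt : ∀ X : AddSubgroup V, X ≠ ⊤ → Nat.card X < Nat.card V := fun X hX =>
        lt_of_le_of_ne (Nat.card_le_card_of_injective _ Subtype.val_injective)
          (fun e => hX (AddSubgroup.eq_top_of_card_eq X e))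
      have hW1 : W ≠ ⊤ := by rintro rfl; rw [inf_top_eq] at hd; exact hU0 hd
      exact hasTriple_sum hU hW hd hs
        (ih _ (hlt U hU1) U rfl _ (solvable_range _ hsol) (hcr.res hU))
        (ih _ (hlt W hW1) W rfl _ (solvable_range _ hsol) (hcr.res hW))

end CfsgLib.SolvBase
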