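import Cfsg.Agent.SolvBase.Leftover
import Cfsg.Agent.SolvBase.Main

/-!
Counting pairs: many classes of order two.
-/

set_option autoImplicit false
set_option linter.style.haveILetI false
set_option linter.unusedSectionVars false

universe u

namespace CfsgLib.SolvBase

open OddBase
open scoped commutatorElement

variable {V : Type u} [AddCommGroup V] [Finite V]

/-- A small group with small fixed spaces has a pair. -/
lemma hasPair_of_small {A : Subgroup (Aut V)}
    (hfix : ∀ g ∈ A, g ≠ 1 → Nat.card (fixA g) ^ 4 ≤ Nat.card V ^ 3)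
    (hA : Nat.card A ^ 2 < Nat.card V) : HasPair A := by
  classical
  have := Fintype.ofFinite V
  have := Fintype.ofFinite A
  by_contra h
  simp only [HasPair, not_exists, not_forall, exists_prop] at h
  let s := Nat.sqrt (Nat.card V ^ 3)
  have hsub : (Finset.univ : Finset (V × V)) ⊆ (Finset.univ.filter fun g : A => g ≠ 1).biUnion
      fun g => Finset.univ.filter fun p => (g : Aut V) • p.1 = p.1 ∧ (g : Aut V) • p.2 = p.2 := by
    rintro ⟨v, w⟩ -
    obtain ⟨a, ha, h1, h2, hne⟩ := h v w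
    simp only [Finset.mem_biUnion, Finset.mem_filter, Finset.mem_univ, true_and]
    exact ⟨⟨a, ha⟩, fun e => hne (congrArg Subtype.val e), h1, h2⟩
  have h1 : Nat.card V ^ 2 ≤ Nat.card A * s := by
    calc Nat.card V ^ 2 = (Finset.univ : Finset (V × V)).card := by
          rw [Finset.card_univ, Fintype.card_prod, Nat.card_eq_fintype_card, sq]
      _ ≤ _ := Finset.card_le_card hsub
      _ ≤ ∑ g ∈ Finset.univ.filter (fun g : A => g ≠ 1), s := by
          refine Finset.card_biUnion_le.trans (Finset.sum_le_sum fun g hg => ?_)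
          rw [Finset.mem_filter] at hg
          refine Nat.le_sqrt'.mpr ?_
          refine le_trans ?_ (hfix g g.2 fun e => hg.2 (Subtype.ext e))
          rw [show 4 = 2 * 2 from rfl, pow_mul]
          refine Nat.pow_le_pow_left ?_ 2
          rw [sq, ← Nat.card_prod, ← Fintype.card_subtype, ← Nat.card_eq_fintype_card]
          exact Nat.card_le_card_of_injective
            (fun p => ((⟨p.1.1, p.2.1⟩ : fixA (g : Aut V)), (⟨p.1.2, p.2.2⟩ : fixA (g : Aut V))))
            fun p q e => by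
              simp only [Prod.mk.injEq] at e
              exact Subtype.ext (Prod.ext (congrArg Subtype.val e.1) (congrArg Subtype.val e.2))
      _ ≤ Nat.card A * s := by
          rw [Finset.sum_const, smul_eq_mul, Nat.card_eq_fintype_card (α := A)]
          exact Nat.mul_le_mul_right _ ((Finset.card_filter_le _ _).trans_eq Finset.card_univ)
  have hVpos : 0 < Nat.card V := Nat.card_pos
  have h2 := Nat.pow_le_pow_left h1 2
  rw [mul_pow, ← pow_mul] at h2
  have h3 : Nat.card V ^ 4 < Nat.card V ^ 4 :=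
    calc Nat.card V ^ (2 * 2) ≤ Nat.card A ^ 2 * s ^ 2 := h2
      _ ≤ Nat.card A ^ 2 * Nat.card V ^ 3 := Nat.mul_le_mul_left _ (Nat.sqrt_le' _)
      _ < Nat.card V * Nat.card V ^ 3 := Nat.mul_lt_mul_of_pos_right hA (by positivity)
      _ = Nat.card V ^ 4 := by ring
  exact lt_irrefl _ h3

/-- The numerical inequality. -/
lemma count_ineq {N m : ℕ} (hN : N = 2 ∨ N = 4 ∨ N = 8) (hm : 64 ≤ m) :
    N ^ 4 * m ^ 16 < (N + 1) ^ m := by
  induction m, hm using Nat.le_induction with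
  | base => rcases hN with rfl | rfl | rfl <;> norm_num
  | succ m hm ih =>
    have h1 : (64 * (m + 1)) ^ 16 ≤ (65 * m) ^ 16 := Nat.pow_le_pow_left (by omega) 16
    rw [mul_pow, mul_pow] at h1
    have h2 : (m + 1) ^ 16 ≤ 3 * m ^ 16 := by
      refine Nat.le_of_mul_le_mul_left ?_ (show 0 < 64 ^ 16 by norm_num)
      calc 64 ^ 16 * (m + 1) ^ 16 ≤ 65 ^ 16 * m ^ 16 := h1
        _ ≤ (64 ^ 16 * 3) * m ^ 16 := Nat.mul_le_mul_right _ (by norm_num)
        _ = _ := by ring
    calc N ^ 4 * (m + 1) ^ 16 ≤ N ^ 4 * (3 * m ^ 16) := Nat.mul_le_mul_left _ h2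
      _ = 3 * (N ^ 4 * m ^ 16) := by ring
      _ < 3 * (N + 1) ^ m := by omega
      _ ≤ (N + 1) * (N + 1) ^ m := Nat.mul_le_mul_right _ (by omega)
      _ = _ := by ring

variable [Nontrivial V] {S : Setup (Aut V)}

lemma fix_bound (hC : S.C = S.A ⊓ Subgroup.centralizer (S.A0 : Set (Aut V))) (hf : Fpf S)
    {g : Aut V} (hg : g ∈ S.A) (hg1 : g ≠ 1) :
    Nat.card (fixA g) ^ 4 ≤ Nat.card V ^ 3 := by
  have hVpos : 1 ≤ Nat.card V := Nat.card_pos
  have hsq : ∀ (g : Aut V) (y : Aut V), ⁅g, y⁆ ∈ S.A0 → ⁅g, y⁆ ≠ 1 →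
      Nat.card (fixA g) ^ 2 ≤ Nat.card V := fun g y h1 h2 => by
    have h := card_fix_sq g y
    rwa [fixA_eq_bot_of_fpf (hf _ h1 h2), AddSubgroup.card_bot, mul_one] at h
  have hfixE : ∀ g ∈ S.E, g ≠ 1 → Nat.card (fixA g) ^ 2 ≤ Nat.card V := by
    intro g hg hg1
    by_cases hgA : g ∈ S.A0
    · rw [fixA_eq_bot_of_fpf (hf g hgA hg1), AddSubgroup.card_bot, one_pow]
      exact hVpos
    · obtain ⟨y, hy, hne⟩ : ∃ y ∈ S.E, g * y ≠ y * g := by
        by_contra h
        push Not at h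
        exact hgA (S.dle g (S.e_le hg) h)
      exact hsq g y (S.comm g hg y hy)
        (fun e => hne (commutatorElement_eq_one_iff_mul_comm.mp e))
  have hsquare : ∀ g : Aut V, Nat.card (fixA g) ^ 2 ≤ Nat.card V →
      Nat.card (fixA g) ^ 4 ≤ Nat.card V ^ 3 := fun g h =>
    calc Nat.card (fixA g) ^ 4 = (Nat.card (fixA g) ^ 2) ^ 2 := by ring
      _ ≤ Nat.card V ^ 2 := Nat.pow_le_pow_left h 2
      _ ≤ Nat.card V ^ 3 := Nat.pow_le_pow_right hVpos (by norm_num)
  by_cases hgC : g ∈ S.C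
  swap
  · obtain ⟨a, ha, hne⟩ : ∃ a ∈ S.A0, g * a ≠ a * g := by
      by_contra h
      push Not at h
      exact hgC (hC ▸ ⟨hg, Subgroup.mem_centralizer_iff.mpr fun a ha => (h a ha).symm⟩)
    refine hsquare g (hsq g a ?_ (fun e => hne (commutatorElement_eq_one_iff_mul_comm.mp e)))
    rw [commutatorElement_def]
    exact S.A0.mul_mem (S.a0_norm g hg a ha) (S.A0.inv_mem ha)
  by_cases hgE : g ∈ S.E
  · exact hsquare g (hfixE g hgE hg1)
  obtain ⟨y, hy, hne⟩ : ∃ y ∈ S.E, g * y ≠ y * g := by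
    by_contra h
    push Not at h
    exact hgE (S.a0_le (S.dle g hgC h))
  have hcE : ⁅g, y⁆ ∈ S.E := by
    rw [commutatorElement_def]
    exact S.E.mul_mem (S.e_norm g hg y hy) (S.E.inv_mem hy)
  calc Nat.card (fixA g) ^ 4 = (Nat.card (fixA g) ^ 2) ^ 2 := by ring
    _ ≤ (Nat.card V * Nat.card (fixA ⁅g, y⁆)) ^ 2 := Nat.pow_le_pow_left (card_fix_sq g y) 2
    _ = Nat.card V ^ 2 * Nat.card (fixA ⁅g, y⁆) ^ 2 := by ring
    _ ≤ Nat.card V ^ 2 * Nat.card V :=
        Nat.mul_le_mul_left _ (hfixE _ hcE fun e => hne (commutatorElement_eq_one_iff_mul_comm.mp e))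
    _ = _ := by ring

lemma card_A_le (hsol : Group.IsSolvable S.A)
    (hC : S.C = S.A ⊓ Subgroup.centralizer (S.A0 : Set (Aut V))) :
    Nat.card S.A ≤ Nat.card S.A0 ^ 2 * Nat.card S.U ^ 4 := by
  haveI := S.cyc
  obtain ⟨γ, hγ⟩ := IsCyclic.exists_zpow_surjective (G := S.A0)
  let C' := S.C.subgroupOf S.A
  have h1 : Nat.card (S.A ⧸ C') ≤ Nat.card S.A0 := by
    refine Nat.card_le_card_of_injective
      (fun c => (⟨(Quotient.out c : S.A) * γ * ((Quotient.out c : S.A) : Aut V)⁻¹,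
        S.a0_norm _ (Quotient.out c : S.A).2 _ γ.2⟩ : S.A0)) fun c d h => ?_
    set a : S.A := Quotient.out c with ha
    set b : S.A := Quotient.out d with hb
    have h' : (a : Aut V) * γ * (a : Aut V)⁻¹ = (b : Aut V) * γ * (b : Aut V)⁻¹ := congrArg Subtype.val h
    have hcomm : Commute ((a : Aut V)⁻¹ * b) (γ : Aut V) := by
      show (a : Aut V)⁻¹ * b * γ = γ * ((a : Aut V)⁻¹ * b)
      calc (a : Aut V)⁻¹ * b * γ = (a : Aut V)⁻¹ * ((b : Aut V) * γ * (b : Aut V)⁻¹) * b := by group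
        _ = (a : Aut V)⁻¹ * ((a : Aut V) * γ * (a : Aut V)⁻¹) * b := by rw [h']
        _ = _ := by group
    rw [← Quotient.out_eq' c, ← Quotient.out_eq' d]
    refine QuotientGroup.eq.mpr ?_
    show ((a⁻¹ * b : S.A) : Aut V) ∈ S.C
    rw [hC]
    refine ⟨(a⁻¹ * b).2, Subgroup.mem_centralizer_iff.mpr fun z hz => ?_⟩
    obtain ⟨j, hj⟩ := hγ ⟨z, hz⟩
    have hz' : (γ : Aut V) ^ j = z := by simpa using congrArg Subtype.val hj
    rw [← hz', Subgroup.coe_mul, Subgroup.coe_inv]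
    exact ((hcomm.zpow_right j).eq).symm
  have h2 : Nat.card (S.act.comp (Subgroup.inclusion S.c_le)).range ≤ Nat.card S.U ^ 3 := by
    haveI := hsol
    obtain ⟨t, ht⟩ := triGood _ (Additive S.U) rfl S.act.range (solvable_range _ hsol) S.cr_act
    set H := (S.act.comp (Subgroup.inclusion S.c_le)).range
    have hle : H ≤ S.act.range := by
      rintro _ ⟨c, rfl⟩
      exact ⟨_, rfl⟩
    refine le_trans (Nat.card_le_card_of_injective
      (fun h : H => ((h : Aut (Additive S.U)) • t.1, (h : Aut (Additive S.U)) • t.2.1,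
        (h : Aut (Additive S.U)) • t.2.2)) fun h h' e => ?_) ?_
    · simp only [Prod.mk.injEq] at e
      obtain ⟨e1, e2, e3⟩ := e
      refine Subtype.ext (inv_mul_eq_one.mp (ht _ (hle (H.mul_mem (H.inv_mem h'.2) h.2)) ?_ ?_ ?_)).symm
      · rw [mul_smul, e1, inv_smul_smul]
      · rw [mul_smul, e2, inv_smul_smul]
      · rw [mul_smul, e3, inv_smul_smul]
    · rw [Nat.card_prod, Nat.card_prod]
      exact le_of_eq (by rw [show Nat.card (Additive S.U) = Nat.card S.U from rfl]; ring)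
  calc Nat.card S.A = Nat.card (S.A ⧸ C') * Nat.card C' :=
        Subgroup.card_eq_card_quotient_mul_card_subgroup _
    _ = Nat.card (S.A ⧸ C') * Nat.card S.C := by
        rw [Nat.card_congr (Subgroup.subgroupOfEquivOfLe S.c_le).toEquiv]
    _ ≤ Nat.card S.A0 * (Nat.card S.U * Nat.card S.A0 * Nat.card S.U ^ 3) := by
        rw [S.card_C, S.card_E]
        exact Nat.mul_le_mul h1 (Nat.mul_le_mul_left _ h2)
    _ = _ := by ring

variable (F : Frame S)

lemma card_InW_pow_le (hf : Fpf S) :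
    Nat.card {v : V // InW F.K v} ^ Nat.card (S.U ⧸ F.D) ≤ Nat.card V := by
  classical
  have := Fintype.ofFinite (S.U ⧸ F.D)
  choose R hR using F.qc_surjective
  rw [← Nat.card_fun]
  refine Nat.card_le_card_of_injective
    (fun φ : (S.U ⧸ F.D) → {v : V // InW F.K v} => ∑ q, (R q : Aut V) • (φ q : V)) fun φ ψ h => ?_
  let sup' := fun φ : (S.U ⧸ F.D) → {v : V // InW F.K v} =>
    Finset.univ.filter fun q => (φ q : V) ≠ 0
  have hsum : ∀ φ, ∑ q ∈ sup' φ, (R q : Aut V) • (φ q : V) = ∑ q, (R q : Aut V) • (φ q : V) := by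
    intro φ
    refine Finset.sum_subset (Finset.subset_univ _) fun q _ hq => ?_
    simp only [sup', Finset.mem_filter, Finset.mem_univ, true_and, not_not] at hq
    rw [hq, smul_zero]
  have hne : ∀ φ, ∀ q ∈ sup' φ, (R q : Aut V) • (φ q : V) ≠ 0 := fun φ q hq e =>
    (Finset.mem_filter.mp hq).2 ((smul_eq_zero_iff_eq _).mp e)
  obtain ⟨hT, hv⟩ := F.comp_unique hf (T := sup' φ) (T' := sup' ψ)
    (v := fun q => (R q : Aut V) • (φ q : V)) (v' := fun q => (R q : Aut V) • (ψ q : V))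
    (fun q _ => ⟨R q, hR q, _, (φ q).2, rfl⟩) (fun q _ => ⟨R q, hR q, _, (ψ q).2, rfl⟩)
    (hne φ) (hne ψ) (by rw [hsum, hsum]; exact h)
  funext q
  refine Subtype.ext ?_
  by_cases hq : q ∈ sup' φ
  · exact smul_left_cancel _ (hv q hq)
  · have hq' : q ∉ sup' ψ := hT ▸ hq
    simp only [sup', Finset.mem_filter, Finset.mem_univ, true_and, not_not] at hq hq'
    rw [hq, hq']

variable {F}

lemma card_InW_ge (hfull : Full S) (W : Witness F) :
    Nat.card S.A0 + 1 ≤ Nat.card {v : V // InW F.K v} ∧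
      (¬ F.D ≤ F.X → (Nat.card S.A0 + 1) ^ 2 ≤ Nat.card {v : V // InW F.K v}) := by
  classical
  have hL : Nat.card S.A0 + 1 ≤ Nat.card (spanRing S.A0) := by
    rw [← Finite.card_option]
    refine Nat.card_le_card_of_injective
      (fun o : Option S.A0 => (o.elim 0 (toRing S.A0) : spanRing S.A0)) ?_
    rintro (_ | a) (_ | b) h
    · rfl
    · exact absurd (DFunLike.congr_fun (congrArg Subtype.val h) W.x) (fun e => W.x_ne
        ((smul_eq_zero_iff_eq (b : Aut V)).mp e.symm))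
    · exact absurd (DFunLike.congr_fun (congrArg Subtype.val h) W.x) (fun e => W.x_ne
        ((smul_eq_zero_iff_eq (a : Aut V)).mp e))
    · exact congrArg some (toRing_injective _ h)
  have hW : ∀ (z : spanRing S.A0) (v : V), InW F.K v → InW F.K ((z : AddMonoid.End V) v) := by
    intro z v hv
    by_cases h0 : (z : AddMonoid.End V) = 0
    · intro k _
      rw [h0]
      show k • (0 : V) = 0
      exact smul_zero k
    · obtain ⟨a, ha, hz⟩ := hfull _ z.2 h0
      rw [← hz]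
      exact F.inW_A0 ha hv
  have hinj : ∀ (z : spanRing S.A0) (v : V), v ≠ 0 → (z : AddMonoid.End V) v = 0 → z = 0 := by
    intro z v hv h
    by_contra h0
    obtain ⟨a, ha, hz⟩ := hfull _ z.2 fun e => h0 (Subtype.ext e)
    rw [← hz] at h
    exact hv ((smul_eq_zero_iff_eq a).mp h)
  refine ⟨hL.trans (Nat.card_le_card_of_injective
    (fun z => (⟨_, hW z W.x W.x_W⟩ : {v : V // InW F.K v})) fun z z' h => ?_), fun hDX => ?_⟩
  · have h' : ((z - z' : spanRing S.A0) : AddMonoid.End V) W.x = 0 :=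
      sub_eq_zero.mpr (congrArg Subtype.val h)
    exact sub_eq_zero.mp (hinj _ _ W.x_ne h')
  · rw [sq]
    refine (Nat.mul_le_mul hL hL).trans ?_
    rw [← Nat.card_prod]
    have hm1 : InW F.K ((W.m1 : Aut V) • W.x) := F.inW_smul W.m1_D W.x_W
    refine Nat.card_le_card_of_injective
      (fun p => (⟨(p.1 : AddMonoid.End V) W.x + (p.2 : AddMonoid.End V) ((W.m1 : Aut V) • W.x),
        fun k hk => by rw [smul_add, hW p.1 _ W.x_W k hk, hW p.2 _ hm1 k hk]⟩ :
          {v : V // InW F.K v})) fun p p' h => ?_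
    have h' : ((p.1 - p'.1 : spanRing S.A0) : AddMonoid.End V) W.x +
        ((p.2 - p'.2 : spanRing S.A0) : AddMonoid.End V) ((W.m1 : Aut V) • W.x) = 0 := by
      have h0 := congrArg Subtype.val h
      show ((p.1 : AddMonoid.End V) W.x - (p'.1 : AddMonoid.End V) W.x) +
        ((p.2 : AddMonoid.End V) ((W.m1 : Aut V) • W.x) -
          (p'.2 : AddMonoid.End V) ((W.m1 : Aut V) • W.x)) = 0
      rw [sub_add_sub_comm, sub_eq_zero]
      exact h0
    generalize hz : p.1 - p'.1 = z, hz2 : p.2 - p'.2 = z2 at h'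
    suffices hboth : z = 0 ∧ z2 = 0 by
      exact Prod.ext (sub_eq_zero.mp (hz.trans hboth.1)) (sub_eq_zero.mp (hz2.trans hboth.2))
    by_cases h2 : z2 = 0
    · rw [h2] at h'
      change (z : AddMonoid.End V) W.x + 0 = 0 at h'
      rw [add_zero] at h'
      exact ⟨hinj z _ W.x_ne h', h2⟩
    exfalso
    obtain ⟨a, ha, hza⟩ := hfull _ z2.2 fun e => h2 (Subtype.ext e)
    by_cases h1 : z = 0
    · rw [h1] at h'
      change (0 : V) + (z2 : AddMonoid.End V) ((W.m1 : Aut V) • W.x) = 0 at h'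
      rw [zero_add] at h'
      exact h2 (hinj z2 _ (fun e => W.x_ne ((smul_eq_zero_iff_eq _).mp e)) h')
    obtain ⟨b, hb, hzb⟩ := hfull _ (-z).2 fun e => h1 (neg_eq_zero.mp (Subtype.ext e))
    have hab : a • (W.m1 : Aut V) • W.x = b • W.x := by
      show (a : AddMonoid.End V) ((W.m1 : Aut V) • W.x) = (b : AddMonoid.End V) W.x
      rw [hza, hzb]
      exact eq_neg_of_add_eq_zero_right h'
    let e : S.E := ⟨b⁻¹ * a, S.a0_le (S.A0.mul_mem (S.A0.inv_mem hb) ha)⟩ * W.m1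
    have hex : (e : Aut V) • W.x = W.x := by
      show (b⁻¹ * a * (W.m1 : Aut V)) • W.x = W.x
      rw [mul_smul, mul_smul, hab, inv_smul_smul]
    refine (witness_notMem W hDX).1 ⟨e, F.max W.x W.x_ne W.x_W _ e.2 hex, ?_⟩
    rw [map_mul, mul_eq_right, cl_eq_one]
    exact S.A0.mul_mem (S.A0.inv_mem hb) ha

lemma card_D_le (hN : Nat.card S.A0 = 2 ∨ Nat.card S.A0 = 4 ∨ Nat.card S.A0 = 8) (W : Witness F) :
    Nat.card F.D ≤ 4 * Nat.card F.X := by
  classical
  have hsq : ∀ u : S.U, u * u = 1 := fun u => by rw [← sq]; exact sq_eq_one_of_small hN u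
  have hpow : ∀ (u : S.U) (i : ℤ), ∃ b : Bool, u ^ i = if b then u else 1 := fun u i => by
    rcases Int.even_or_odd' i with ⟨l, rfl | rfl⟩
    · exact ⟨false, by rw [zpow_mul, zpow_two, hsq, one_zpow]; simp⟩
    · exact ⟨true, by rw [zpow_add, zpow_mul, zpow_two, hsq, one_zpow, one_mul, zpow_one]; simp⟩
  have hex : ∀ z : F.D, ∃ p : F.X × Bool × Bool, (z : S.U) =
      p.1 * ((if p.2.1 then cl S W.m1 else 1) * (if p.2.2 then cl S W.m2 else 1)) := by
    intro z
    obtain ⟨a, ha, b, hb, hab⟩ := Subgroup.mem_sup.mp (W.gen z.2)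
    obtain ⟨i, j, rfl⟩ := Subgroup.mem_closure_pair.mp hb
    obtain ⟨b1, h1⟩ := hpow (cl S W.m1) i
    obtain ⟨b2, h2⟩ := hpow (cl S W.m2) j
    exact ⟨(⟨a, ha⟩, b1, b2), by rw [← hab, h1, h2]⟩
  choose φ hφ using hex
  refine (Nat.card_le_card_of_injective φ fun z z' h => Subtype.ext (by rw [hφ z, hφ z', h])).trans ?_
  rw [Nat.card_prod, Nat.card_prod, show Nat.card Bool = 2 by simp]
  omega

/-- Pairs by counting. -/
theorem hasPair_count (hsol : Group.IsSolvable S.A)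
    (hC : S.C = S.A ⊓ Subgroup.centralizer (S.A0 : Set (Aut V))) (hf : Fpf S) (hfull : Full S)
    (W : Witness F) (hN : Nat.card S.A0 = 2 ∨ Nat.card S.A0 = 4 ∨ Nat.card S.A0 = 8)
    (h : 64 ≤ Nat.card (S.U ⧸ F.D) ∨ ¬ F.D ≤ F.X ∧ 32 ≤ Nat.card (S.U ⧸ F.D)) : HasPair S.A := by
  refine hasPair_of_small (fun g hg hg1 => fix_bound hC hf hg hg1) ?_
  set N := Nat.card S.A0
  set Q := Nat.card (S.U ⧸ F.D)
  obtain ⟨hW1, hW2⟩ := card_InW_ge hfull W
  obtain ⟨m, hm, hU, hV⟩ : ∃ m, 64 ≤ m ∧ Nat.card S.U ≤ m ^ 2 ∧ (N + 1) ^ m ≤ Nat.card V := by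
    by_cases hDX : F.D ≤ F.X
    · refine ⟨Q, h.resolve_right fun h' => h'.1 hDX, ?_, ?_⟩
      · rw [card_U F, sq]
        refine Nat.mul_le_mul_left _ ?_
        rw [show Q = Nat.card F.X from (card_X F).symm]
        exact Subgroup.card_le_of_le hDX
      · exact (Nat.pow_le_pow_left hW1 Q).trans (card_InW_pow_le F hf)
    · refine ⟨2 * Q, by omega, ?_, ?_⟩
      · rw [card_U F, show (2 * Q) ^ 2 = Q * (4 * Q) by ring]
        refine Nat.mul_le_mul_left _ ?_
        rw [show Q = Nat.card F.X from (card_X F).symm]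
        exact card_D_le hN W
      · rw [pow_mul]
        exact (Nat.pow_le_pow_left (hW2 hDX) Q).trans (card_InW_pow_le F hf)
  calc Nat.card S.A ^ 2 ≤ (N ^ 2 * Nat.card S.U ^ 4) ^ 2 := Nat.pow_le_pow_left (card_A_le hsol hC) 2
    _ ≤ (N ^ 2 * (m ^ 2) ^ 4) ^ 2 :=
        Nat.pow_le_pow_left (Nat.mul_le_mul_left _ (Nat.pow_le_pow_left hU 4)) 2
    _ = N ^ 4 * m ^ 16 := by ring
    _ < (N + 1) ^ m := count_ineq hN hm
    _ ≤ _ := hV

end CfsgLib.SolvBase
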