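import Mathlib

/-!
Two finite sets acted on by a finite group with the same numbers of fixed points of every subgroup
have the same numbers of pairs of points with a given common stabiliser.
-/

set_option autoImplicit false

namespace CfsgLib.SolvBase

variable {A X Y : Type*} [Group A] [MulAction A X] [MulAction A Y]

/-- The points fixed by a subgroup. -/
def fixPts (X : Type*) [MulAction A X] (B : Subgroup A) : Set X := {x | ∀ b ∈ B, b • x = x}

open scoped Classical in
lemma fix_sq [Finite A] [Fintype X] [Fintype (Subgroup A)] (B : Subgroup A) :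
    Nat.card (fixPts X B) * Nat.card (fixPts X B) =
      ∑ C ∈ Finset.univ.filter (fun C => B ≤ C), (Finset.univ.filter fun p : X × X =>
        MulAction.stabilizer A p.1 ⊓ MulAction.stabilizer A p.2 = C).card := by
  rw [← Nat.card_prod]
  have h1 : Nat.card (fixPts X B × fixPts X B) = (Finset.univ.filter fun p : X × X =>
      B ≤ MulAction.stabilizer A p.1 ⊓ MulAction.stabilizer A p.2).card := by
    rw [← Fintype.card_subtype, ← Nat.card_eq_fintype_card]
    exact Nat.card_congr
      { toFun := fun p => ⟨(p.1.1, p.2.1), le_inf (fun b hb => p.1.2 b hb) (fun b hb => p.2.2 b hb)⟩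
        invFun := fun p => (⟨p.1.1, fun b hb => (le_inf_iff.mp p.2).1 hb⟩,
          ⟨p.1.2, fun b hb => (le_inf_iff.mp p.2).2 hb⟩)
        left_inv := fun p => rfl
        right_inv := fun p => rfl }
  rw [h1, Finset.card_eq_sum_card_fiberwise
    (f := fun p : X × X => MulAction.stabilizer A p.1 ⊓ MulAction.stabilizer A p.2)
    (t := Finset.univ.filter fun C => B ≤ C) (fun p hp => by simpa using hp)]
  refine Finset.sum_congr rfl fun C hC => congrArg Finset.card ?_
  ext p
  simp only [Finset.mem_filter, Finset.mem_univ, true_and] at hC ⊢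
  exact ⟨fun h => h.2, fun h => ⟨h ▸ hC, h⟩⟩

/-- The transfer of a pair with trivial common stabiliser. -/
theorem pair_transfer [Finite A] [Finite X] [Finite Y]
    (h : ∀ B : Subgroup A, Nat.card (fixPts X B) = Nat.card (fixPts Y B))
    (hY : ∃ u v : Y, ∀ a : A, a • u = u → a • v = v → a = 1) :
    ∃ u v : X, ∀ a : A, a • u = u → a • v = v → a = 1 := by
  classical
  have : Fintype X := Fintype.ofFinite X
  have : Fintype Y := Fintype.ofFinite Y
  have : Fintype (Subgroup A) := Fintype.ofFinite _
  have key : ∀ B : Subgroup A,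
      (Finset.univ.filter fun p : X × X =>
        MulAction.stabilizer A p.1 ⊓ MulAction.stabilizer A p.2 = B).card =
      (Finset.univ.filter fun p : Y × Y =>
        MulAction.stabilizer A p.1 ⊓ MulAction.stabilizer A p.2 = B).card := by
    intro B
    induction B using WellFoundedGT.induction with
    | _ B ih =>
      have hX := fix_sq (A := A) (X := X) B
      have hY' := fix_sq (A := A) (X := Y) B
      rw [h B, hY'] at hX
      have hB : B ∈ Finset.univ.filter (fun C : Subgroup A => B ≤ C) := by simp
      rw [← Finset.add_sum_erase _ _ hB, ← Finset.add_sum_erase _ _ hB] at hX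
      rw [Finset.sum_congr rfl fun C hC => ih C ?_] at hX
      · exact (add_right_cancel hX).symm
      · simp only [Finset.mem_erase, Finset.mem_filter, Finset.mem_univ, true_and] at hC
        exact lt_of_le_of_ne hC.2 (Ne.symm hC.1)
  obtain ⟨u, v, huv⟩ := hY
  have hpos : 0 < (Finset.univ.filter fun p : Y × Y =>
      MulAction.stabilizer A p.1 ⊓ MulAction.stabilizer A p.2 = ⊥).card :=
    Finset.card_pos.mpr ⟨(u, v), by
      simp only [Finset.mem_filter, Finset.mem_univ, true_and]
      exact (Subgroup.eq_bot_iff_forall _).mpr fun a ha => huv a ha.1 ha.2⟩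
  rw [← key] at hpos
  obtain ⟨p, hp⟩ := Finset.card_pos.mp hpos
  simp only [Finset.mem_filter, Finset.mem_univ, true_and] at hp
  exact ⟨p.1, p.2, fun a h1 h2 => (Subgroup.eq_bot_iff_forall _).mp hp a ⟨h1, h2⟩⟩

end CfsgLib.SolvBase
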