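import Cfsg.Agent.OddBase.Main
import Cfsg.Agent.Coprime.Sylow
import Cfsg.Agent.FGSB.CoprimeFixedProd
import Cfsg.Agent.FGSA.InvariantComplement
import Cfsg.Agent.Solvable.PGroupBasic
import Cfsg.Agent.Solvable.Basics
import Cfsg.Agent.SolvBase.PairMarks

/-!
Soluble coprime operator groups: two elements with trivial common stabiliser, from pairs for
coprime soluble linear groups over odd primes.
-/

set_option autoImplicit false
set_option linter.style.haveILetI false

universe u v

namespace CfsgLib.SolvBase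

open CfsgLib.Coprime (IsInvariant)

/-- Soluble linear groups of order prime to an odd characteristic have pairs. -/
def CoprimePairs : Prop :=
  ∀ (p : ℕ), p.Prime → p ≠ 2 → ∀ (V : Type v) [AddCommGroup V] [Finite V], (∀ x : V, p • x = 0) →
    ∀ A : Subgroup (OddBase.Aut V), Group.IsSolvable A → ¬ p ∣ Nat.card A → OddBase.HasPair A

lemma cr_of_coprime {p : ℕ} (hp : p.Prime) {V : Type v} [AddCommGroup V] [Finite V]
    (hV : ∀ x : V, p • x = 0) (A : Subgroup (OddBase.Aut V)) (hA : ¬ p ∣ Nat.card A) :
    OddBase.CR A := by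
  haveI := Fact.mk hp
  intro U hU
  letI act : MulDistribMulAction A (Multiplicative V) :=
    { smul := fun a x => Multiplicative.ofAdd ((a : OddBase.Aut V) • x.toAdd)
      one_smul := fun x => congrArg Multiplicative.ofAdd (one_smul _ x.toAdd)
      mul_smul := fun a b x => congrArg Multiplicative.ofAdd (mul_smul (a : OddBase.Aut V) b x.toAdd)
      smul_one := fun a => congrArg Multiplicative.ofAdd (smul_zero (a : OddBase.Aut V))
      smul_mul := fun a x y => congrArg Multiplicative.ofAdd (smul_add (a : OddBase.Aut V) x.toAdd y.toAdd) }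
  have hpg : IsPGroup p (Multiplicative V) := fun x => ⟨1, by
    rw [pow_one]
    exact congrArg Multiplicative.ofAdd (hV x.toAdd)⟩
  have hcop : (Nat.card A).Coprime (Nat.card (Multiplicative V)) := by
    obtain ⟨k, hk⟩ := hpg.exists_card_eq
    rw [hk]
    exact ((hp.coprime_iff_not_dvd.mpr hA).symm).pow_right k
  obtain ⟨C, hC, h1, h2⟩ := InvariantComplement.exists_invariant_compl (p := p) hcop (n := 0)
    (fun x => congrArg Multiplicative.ofAdd (show (p ^ (0 + 1)) • x.toAdd = 0 by
      rw [zero_add, pow_one]; exact hV _))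
    (AddSubgroup.toSubgroup U) (fun a x hx => hU a a.2 _ hx)
    (fun k _ hk1 => ⟨1, one_mem _, by
      rw [pow_zero, pow_one] at hk1
      rw [hk1, one_pow]⟩)
  refine ⟨Subgroup.toAddSubgroup' C, fun a ha x hx => hC ⟨a, ha⟩ _ hx, ?_, ?_⟩
  · rw [eq_bot_iff]
    rintro x ⟨hx1, hx2⟩
    have h : Multiplicative.ofAdd x ∈ C ⊓ AddSubgroup.toSubgroup U := ⟨hx2, hx1⟩
    rw [h1, Subgroup.mem_bot] at h
    exact AddSubgroup.mem_bot.mpr h
  · rw [eq_top_iff]
    intro x _
    obtain ⟨c, hc, w, hw, he⟩ := Subgroup.mem_sup.mp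
      (show Multiplicative.ofAdd x ∈ C ⊔ AddSubgroup.toSubgroup U by rw [h2]; trivial)
    exact AddSubgroup.mem_sup.mpr ⟨w.toAdd, hw, c.toAdd, hc,
      (add_comm _ _).trans (congrArg Multiplicative.toAdd he)⟩

/-- Pairs in every characteristic. -/
lemma pair_all (hP : CoprimePairs.{v}) {p : ℕ} (hp : p.Prime) {V : Type v} [AddCommGroup V] [Finite V]
    (hV : ∀ x : V, p • x = 0) (A : Subgroup (OddBase.Aut V)) (hsol : Group.IsSolvable A)
    (hA : ¬ p ∣ Nat.card A) : OddBase.HasPair A := by
  rcases eq_or_ne p 2 with rfl | h2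
  · exact OddBase.exists_pair A hsol (Nat.not_even_iff_odd.mp fun h => hA h.two_dvd)
      (cr_of_coprime hp hV A hA)
  · exact hP p hp h2 V hV A hsol hA

variable {A : Type u} [Group A] [Finite A]

/-- A coprime operator group on a group of prime power order. -/
theorem pair_pgroup (hP : CoprimePairs.{v}) (hA : Group.IsSolvable A) {P : Type v} [Group P] [Finite P]
    [MulDistribMulAction A P] {p : ℕ} [hp : Fact p.Prime] (hpP : IsPGroup p P)
    (hcop : (Nat.card A).Coprime (Nat.card P)) :
    ∃ x y : P, ∀ a : A, a • x = x → a • y = y → ∀ g : P, a • g = g := by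
  haveI := hA
  rcases subsingleton_or_nontrivial P with hs | hnt
  · exact ⟨1, 1, fun a _ _ g => Subsingleton.elim _ _⟩
  have hpd : p ∣ Nat.card P := by
    obtain ⟨k, hk0, hk⟩ := hpP.nontrivial_iff_card.mp hnt
    rw [hk]
    exact dvd_pow_self p hk0.ne'
  obtain ⟨hcomm, hpow⟩ := PGroupBasic.commutator_pow_le_frattini hpP
  set Φ := frattini P with hΦ
  haveI : Φ.Characteristic := frattini_characteristic
  let W : Type v := Additive (P ⧸ Φ)
  letI cg : CommGroup (P ⧸ Φ) := { (inferInstance : Group (P ⧸ Φ)) with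
    mul_comm := (Subgroup.Normal.quotient_commutative_iff_commutator_le.2 hcomm).is_comm.comm }
  have hW : ∀ x : Additive (P ⧸ Φ), p • x = 0 := fun x => by
    obtain ⟨g, hg⟩ := QuotientGroup.mk_surjective (Additive.toMul x)
    refine Additive.toMul.injective ?_
    rw [toMul_nsmul, toMul_zero, ← hg, ← QuotientGroup.mk_pow, QuotientGroup.eq_one_iff]
    exact hpow g
  have hinv : ∀ a : A, Φ ≤ Φ.comap (MulDistribMulAction.toMonoidHom P a) := fun a x hx =>
    Coprime.IsInvariant.of_characteristic Φ a x hx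
  let ρ0 : A →* AddMonoid.End (Additive (P ⧸ Φ)) :=
    { toFun := fun a =>
        MonoidHom.toAdditive (QuotientGroup.map Φ Φ (MulDistribMulAction.toMonoidHom P a) (hinv a))
      map_one' := by
        refine AddMonoidHom.ext fun x => ?_
        obtain ⟨g, hg⟩ := QuotientGroup.mk_surjective (Additive.toMul x)
        obtain rfl : Additive.ofMul (g : P ⧸ Φ) = x := by rw [hg]; rfl
        show Additive.ofMul (((1 : A) • g : P) : P ⧸ Φ) = _
        rw [one_smul]
        rfl
      map_mul' := fun a b => by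
        refine AddMonoidHom.ext fun x => ?_
        obtain ⟨g, hg⟩ := QuotientGroup.mk_surjective (Additive.toMul x)
        obtain rfl : Additive.ofMul (g : P ⧸ Φ) = x := by rw [hg]; rfl
        show Additive.ofMul (((a * b) • g : P) : P ⧸ Φ) = Additive.ofMul ((a • b • g : P) : P ⧸ Φ)
        rw [mul_smul] }
  let ρ := ρ0.toHomUnits
  have hρ : ∀ (a : A) (g : P), ρ a • Additive.ofMul (g : P ⧸ Φ) = Additive.ofMul ((a • g : P) : P ⧸ Φ) :=
    fun a g => rfl
  obtain ⟨v, w, hvw⟩ := pair_all hP hp.out hW ρ.range (OddBase.solvable_range ρ hA) fun hd =>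
    hp.out.not_dvd_one (hcop ▸ Nat.dvd_gcd (hd.trans (Subgroup.card_range_dvd ρ)) hpd)
  obtain ⟨x, hx⟩ := QuotientGroup.mk_surjective (Additive.toMul v)
  obtain ⟨y, hy⟩ := QuotientGroup.mk_surjective (Additive.toMul w)
  obtain rfl : Additive.ofMul (x : P ⧸ Φ) = v := by rw [hx]; rfl
  obtain rfl : Additive.ofMul (y : P ⧸ Φ) = w := by rw [hy]; rfl
  refine ⟨x, y, fun a hax hay g => ?_⟩
  have h1 : ρ a = 1 := hvw _ ⟨a, rfl⟩ (by rw [hρ, hax]) (by rw [hρ, hay])
  refine Coprime.smul_eq_self_of_trivial_mod_frattini (A := ρ.ker) (G := P)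
    (hcop.coprime_dvd_left (Subgroup.card_subgroup_dvd_card _)) (fun b g => ?_) ⟨a, h1⟩ g
  have h2 := hρ (b : A) g
  rw [MonoidHom.mem_ker.mp b.2, one_smul] at h2
  exact QuotientGroup.eq.mp (Additive.ofMul.injective h2)

variable {K : Type v} [Group K] [Finite K] [MulDistribMulAction A K]

/-- The fixed points of a subgroup. -/
def fixSub (K : Type v) [Group K] [MulDistribMulAction A K] (B : Subgroup A) : Subgroup K where
  carrier := fixPts K B
  one_mem' := fun b _ => smul_one b
  mul_mem' := fun {x y} hx hy b hb => by rw [smul_mul', hx b hb, hy b hb]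
  inv_mem' := fun {x} hx b hb => by rw [smul_inv', hx b hb]

/-- An invariant Sylow subgroup cuts a Sylow subgroup out of the fixed points of each subgroup. -/
lemma card_sylow_inf_fix [Group.IsSolvable A] (hcop : (Nat.card A).Coprime (Nat.card K)) {q : ℕ}
    [hq : Fact q.Prime] (P : Sylow q K) (hP : IsInvariant A (P : Subgroup K)) (B : Subgroup A) :
    Nat.card ↥((P : Subgroup K) ⊓ fixSub K B) =
      q ^ (Nat.card ↥(fixSub K B)).factorization q := by
  set C := fixSub K B with hC
  have hBcop : (Nat.card B).Coprime (Nat.card K) :=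
    hcop.coprime_dvd_left (Subgroup.card_subgroup_dvd_card _)
  let Q : Sylow q C := default
  have hQi : IsInvariant B ((Q : Subgroup C).map C.subtype) := by
    rintro b _ ⟨x, hx, rfl⟩
    exact ⟨x, hx, (x.2 b b.2).symm⟩
  obtain ⟨U, hQU, hU⟩ := CoprimeFixedProd.exists_invariant_sylow_over hBcop _ (Q.2.map C.subtype) hQi
  have hPB : IsInvariant B (P : Subgroup K) := fun b n hn => hP b n hn
  obtain ⟨c, hc, hcU⟩ := Coprime.exists_fixed_conj_sylow hBcop P U hPB hU
  have hcC : c ∈ C := fun b hb => hc ⟨b, hb⟩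
  refine le_antisymm ?_ ?_
  · obtain ⟨k, hk⟩ := (P.2.to_le (inf_le_left (b := C))).exists_card_eq
    rw [hk]
    refine Nat.pow_le_pow_right hq.out.pos
      ((hq.out.pow_dvd_iff_le_factorization Nat.card_pos.ne').1 ?_)
    exact hk ▸ Subgroup.card_dvd_of_le inf_le_right
  · rw [← Sylow.card_eq_multiplicity Q]
    refine Nat.card_le_card_of_injective (fun x => (⟨c⁻¹ * (x : C) * c, ?_, ?_⟩ :
      ↥((P : Subgroup K) ⊓ C))) fun x y h => ?_
    · have hxU : ((x : C) : K) ∈ (U : Subgroup K) := hQU ⟨x, x.2, rfl⟩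
      rw [← hcU, Sylow.coe_subgroup_smul] at hxU
      obtain ⟨z, hz, he⟩ := hxU
      have he' : c * z * c⁻¹ = ((x : C) : K) := he
      rw [← he', show c⁻¹ * (c * z * c⁻¹) * c = z by group]
      exact hz
    · exact C.mul_mem (C.mul_mem (C.inv_mem hcC) (x : C).2) hcC
    · have h' := congrArg Subtype.val h
      exact Subtype.ext (Subtype.ext (mul_left_cancel (mul_right_cancel h')))

/-- Two elements with trivial common stabiliser in a soluble coprime operator group. -/
theorem exists_pair_group (hP : CoprimePairs.{v}) [FaithfulSMul A K] (hA : Group.IsSolvable A)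
    (hcop : (Nat.card A).Coprime (Nat.card K)) :
    ∃ x y : K, ∀ a : A, a • x = x → a • y = y → a = 1 := by
  classical
  haveI := hA
  haveI : ∀ q : Nat.Primes, Fact (q : ℕ).Prime := fun q => ⟨q.2⟩
  choose S hS using fun q : Nat.Primes => Coprime.exists_invariant_sylow (A := A) hcop (q : ℕ)
  let I : Type := {q : Nat.Primes // (q : ℕ) ∈ (Nat.card K).primeFactors}
  haveI : Finite I := Finite.of_injective (fun q : I => (⟨(q.1 : ℕ), q.2⟩ :
    {n : ℕ // n ∈ (Nat.card K).primeFactors})) fun a b h =>
      Subtype.ext (Subtype.ext (congrArg (fun z : {n : ℕ // n ∈ (Nat.card K).primeFactors} => (z : ℕ)) h))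
  haveI : Fintype I := Fintype.ofFinite I
  let Y : Type v := (i : I) → (S i.1 : Subgroup K)
  letI actY : MulAction A Y :=
    { smul := fun a f i => ⟨a • (f i : K), hS i.1 a _ (f i).2⟩
      one_smul := fun f => funext fun i => Subtype.ext (one_smul A (f i : K))
      mul_smul := fun a b f => funext fun i => Subtype.ext (mul_smul a b (f i : K)) }
  refine pair_transfer (Y := Y) (fun B => ?_) ?_
  · have hR : Nat.card (fixPts Y B) = ∏ i : I, Nat.card ↥((S i.1 : Subgroup K) ⊓ fixSub K B) := by
      rw [← Nat.card_pi]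
      exact Nat.card_congr
        { toFun := fun f i => ⟨(f.1 i : K), (f.1 i).2, fun b hb =>
            congrArg (fun g : Y => (g i : K)) (f.2 b hb)⟩
          invFun := fun f => ⟨fun i => ⟨(f i : K), (f i).2.1⟩, fun b hb =>
            funext fun i => Subtype.ext ((f i).2.2 b hb)⟩
          left_inv := fun f => rfl
          right_inv := fun f => rfl }
    rw [hR, Finset.prod_congr rfl fun (i : I) _ => card_sylow_inf_fix hcop (S i.1) (hS i.1) B]
    set n := Nat.card ↥(fixSub K B) with hn
    have hsub : n.primeFactors ⊆ (Nat.card K).primeFactors :=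
      Nat.primeFactors_mono (Subgroup.card_subgroup_dvd_card _) Nat.card_pos.ne'
    have hn0 : n ≠ 0 := Nat.card_pos.ne'
    have hprod : n = ∏ q ∈ (Nat.card K).primeFactors, q ^ n.factorization q := by
      conv_lhs => rw [← Nat.prod_factorization_pow_eq_self hn0]
      rw [Finsupp.prod, Nat.support_factorization]
      refine Finset.prod_subset hsub fun q hq hqn => ?_
      rw [Finsupp.notMem_support_iff.mp (by rwa [Nat.support_factorization]), pow_zero]
    show n = _
    refine hprod.trans (Finset.prod_bij' (fun q hq => (⟨⟨q, Nat.prime_of_mem_primeFactors hq⟩, hq⟩ : I))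
      (fun i _ => (i.1 : ℕ)) ?_ ?_ ?_ ?_ ?_)
    · intros; exact Finset.mem_univ _
    · intro i _; exact i.2
    · intros; rfl
    · intros; rfl
    · intros; rfl
  · have hpair : ∀ i : I, ∃ x y : (S i.1 : Subgroup K), ∀ a : A, a • (x : K) = x → a • (y : K) = y →
        ∀ g : (S i.1 : Subgroup K), a • (g : K) = g := by
      intro i
      letI : MulDistribMulAction A (S i.1 : Subgroup K) :=
        { smul := fun a g => ⟨a • (g : K), hS i.1 a _ g.2⟩
          one_smul := fun g => Subtype.ext (one_smul A (g : K))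
          mul_smul := fun a b g => Subtype.ext (mul_smul a b (g : K))
          smul_one := fun a => Subtype.ext (smul_one a)
          smul_mul := fun a g h => Subtype.ext (smul_mul' a (g : K) (h : K)) }
      obtain ⟨x, y, h⟩ := pair_pgroup hP hA (S i.1).2
        (hcop.coprime_dvd_right (Subgroup.card_subgroup_dvd_card _))
      exact ⟨x, y, fun a ha hb g =>
        congrArg Subtype.val (h a (Subtype.ext ha) (Subtype.ext hb) g)⟩
    choose x y hxy using hpair
    refine ⟨x, y, fun a ha hb => eq_of_smul_eq_smul (α := K) fun g => ?_⟩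
    rw [one_smul]
    let F : Subgroup K :=
      { carrier := {g | a • g = g}
        one_mem' := smul_one a
        mul_mem' := fun {g h} (hg : a • g = g) (hh : a • h = h) => show a • (g * h) = g * h by
          rw [smul_mul', hg, hh]
        inv_mem' := fun {g} (hg : a • g = g) => show a • g⁻¹ = g⁻¹ by rw [smul_inv', hg] }
    suffices hF : (⊤ : Subgroup K) ≤ F from hF (Subgroup.mem_top g)
    rw [← Solvable.iSup_sylow_eq_top S]
    refine iSup_le fun q g hg => ?_
    by_cases hq : (q : ℕ) ∈ (Nat.card K).primeFactors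
    · exact hxy ⟨q, hq⟩ a (congrArg (fun f : Y => (f ⟨q, hq⟩ : K)) ha)
        (congrArg (fun f : Y => (f ⟨q, hq⟩ : K)) hb) ⟨g, hg⟩
    · have h1 : Nat.card (S q : Subgroup K) = 1 := by
        rw [Sylow.card_eq_multiplicity, Finsupp.notMem_support_iff.mp (by rwa [Nat.support_factorization]),
          pow_zero]
      rw [Subgroup.card_eq_one.mp h1, Subgroup.mem_bot] at hg
      rw [hg]
      exact F.one_mem

end CfsgLib.SolvBase
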