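import Cfsg.Agent.OddBase.Quotient

/-!
A vector with largest stabiliser in the class two normal subgroup, and the resulting frame.
-/

set_option autoImplicit false
set_option linter.style.haveILetI false
set_option linter.unusedSectionVars false

universe u

namespace CfsgLib.SolvBase

open OddBase
open scoped commutatorElement

/-- Powers of a product of two elements commuting up to a central element. -/
lemma mul_pow_of_comm_eq {G : Type*} [Group G] {a b c : G} (ha : c * a = a * c) (hb : c * b = b * c)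
    (h : b * a = c * (a * b)) (n : ℕ) : (a * b) ^ n = c ^ n.choose 2 * (a ^ n * b ^ n) := by
  have hba : ∀ n : ℕ, b ^ n * a = c ^ n * (a * b ^ n) := by
    intro n
    induction n with
    | zero => simp
    | succ n ih =>
      calc b ^ (n + 1) * a = b ^ n * (b * a) := by rw [pow_succ, mul_assoc]
        _ = (b ^ n * c) * a * b := by rw [h]; group
        _ = (c * b ^ n) * a * b := by rw [((show Commute c b from hb).pow_right n).eq]
        _ = c * (b ^ n * a) * b := by group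
        _ = c * (c ^ n * (a * b ^ n)) * b := by rw [ih]
        _ = _ := by rw [pow_succ', pow_succ b]; simp only [mul_assoc]
  induction n with
  | zero => simp
  | succ n ih =>
    calc (a * b) ^ (n + 1) = c ^ n.choose 2 * a ^ n * (b ^ n * a) * b := by
          rw [pow_succ, ih]; simp only [mul_assoc]
      _ = c ^ n.choose 2 * (a ^ n * c ^ n) * a * b ^ n * b := by rw [hba]; simp only [mul_assoc]
      _ = c ^ n.choose 2 * (c ^ n * a ^ n) * a * b ^ n * b := by
        rw [((show Commute c a from ha).pow_pow n n).eq]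
      _ = _ := by
        rw [Nat.choose_succ_succ' n 1, Nat.choose_one_right, add_comm n, pow_add, pow_succ a,
          pow_succ b]
        simp only [mul_assoc]

variable {V : Type u} [AddCommGroup V] (S : Setup (Aut V))

/-- The maximal abelian subgroup acts without fixed points. -/
def Fpf : Prop := ∀ a ∈ S.A0, a ≠ 1 → ∀ v : V, a • v = v → v = 0

/-- Fixed by every element of the subgroup. -/
def InW (K : Subgroup (Aut V)) (v : V) : Prop := ∀ k ∈ K, k • v = v

/-- The stabiliser in `E` of a vector where it is largest. -/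
structure Frame where
  K : Subgroup (Aut V)
  le : K ≤ S.E
  wit : ∃ v, v ≠ 0 ∧ InW K v
  max : ∀ v, v ≠ 0 → InW K v → ∀ e ∈ S.E, e • v = v → e ∈ K

lemma exists_frame [Finite V] [Nontrivial V] : Nonempty (Frame S) := by
  classical
  have : Fintype V := Fintype.ofFinite V
  obtain ⟨v0, hv0⟩ := exists_ne (0 : V)
  let f : V → ℕ := fun v => Nat.card (S.E ⊓ MulAction.stabilizer (Aut V) v : Subgroup (Aut V))
  obtain ⟨x, hx, hmax⟩ := Finset.exists_max_image (Finset.univ.filter fun v : V => v ≠ 0) f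
    ⟨v0, by simp [hv0]⟩
  rw [Finset.mem_filter] at hx
  refine ⟨⟨S.E ⊓ MulAction.stabilizer (Aut V) x, inf_le_left, ⟨x, hx.2, fun k hk => hk.2⟩, ?_⟩⟩
  intro v hv hw e he hev
  have hle : S.E ⊓ MulAction.stabilizer (Aut V) x ≤ S.E ⊓ MulAction.stabilizer (Aut V) v :=
    fun k hk => ⟨hk.1, hw k hk⟩
  rw [Subgroup.eq_of_le_of_card_ge hle (hmax v (Finset.mem_filter.mpr ⟨Finset.mem_univ v, hv⟩))]
  exact ⟨he, hev⟩

/-- The class of an element of `E` modulo `A₀`. -/
def cl : S.E →* S.U := QuotientGroup.mk' _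

lemma cl_surjective : Function.Surjective (cl S) := QuotientGroup.mk'_surjective _

lemma cl_eq_one {e : S.E} : cl S e = 1 ↔ (e : Aut V) ∈ S.A0 := by
  rw [cl, QuotientGroup.mk'_apply, QuotientGroup.eq_one_iff, Subgroup.mem_subgroupOf]

lemma beta_cl (a b : S.E) : ((S.beta (cl S a) (cl S b) : S.A0) : Aut V) = ⁅(a : Aut V), (b : Aut V)⁆ :=
  rfl

lemma beta_cl_eq_one [Finite V] (a b : S.E) :
    S.beta (cl S a) (cl S b) = 1 ↔ (a : Aut V) * b = b * a := by
  rw [← commutatorElement_eq_one_iff_mul_comm, ← beta_cl, OneMemClass.coe_eq_one]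

lemma beta_skew [Finite V] (x y : S.U) : S.beta x y * S.beta y x = 1 := by
  simpa [S.beta_alt x, S.beta_alt y] using S.beta_alt (x * y)

lemma beta_symm_one [Finite V] {x y : S.U} (h : S.beta x y = 1) : S.beta y x = 1 := by
  simpa [h] using beta_skew S x y

variable {S}

lemma smul_eq_neg_of_sq (hf : Fpf S) {a : Aut V} (ha : a ∈ S.A0) (h2 : a * a = 1) (h1 : a ≠ 1)
    (v : V) : a • v = -v := by
  have : v + a • v = 0 := hf a ha h1 _ (by rw [smul_add, ← mul_smul, h2, one_smul, add_comm])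
  exact eq_neg_of_add_eq_zero_right this

lemma nsmul_eq_zero_of_fpf [Finite V] (hf : Fpf S) {n : ℕ}
    (hn : ∀ r : ℕ, r.Prime → r ∣ n → r ∣ Nat.card S.A0) (hn0 : n ≠ 0) {v : V} (h : n • v = 0) :
    v = 0 := by
  induction n using Nat.strong_induction_on generalizing v with
  | _ n ih =>
    by_cases h1 : n = 1
    · rwa [h1, one_nsmul] at h
    obtain ⟨r, hr, m, rfl⟩ := Nat.exists_prime_and_dvd h1
    have hm0 : m ≠ 0 := fun e => hn0 (by rw [e, mul_zero])
    have hlt : m < r * m := lt_mul_of_one_lt_left (Nat.pos_of_ne_zero hm0) hr.one_lt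
    rw [mul_nsmul] at h
    suffices key : ∀ w : V, r • w = 0 → w = 0 from key v (ih m hlt
      (fun s hs hd => hn s hs (hd.mul_left r)) hm0 h)
    intro w hw
    haveI := Fact.mk hr
    obtain ⟨a, ha⟩ := exists_prime_orderOf_dvd_card' (G := S.A0) r (hn r hr (dvd_mul_right r m))
    have hpow : (a : Aut V) ^ r = 1 := by
      rw [← ha, ← Subgroup.orderOf_coe]; exact pow_orderOf_eq_one _
    have hne : (a : Aut V) ≠ 1 := fun e => hr.ne_one (by rw [← ha, ← Subgroup.orderOf_coe, e, orderOf_one])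
    set T : AddMonoid.End V := ((a : Aut V) : AddMonoid.End V) - 1 with hT
    have hcomm : Commute T (1 : AddMonoid.End V) := Commute.one_right T
    obtain ⟨s, hs⟩ := hcomm.exists_add_pow_prime_eq hr
    have hTw : (T ^ r) w = 0 := by
      have h2 := DFunLike.congr_fun hs w
      rw [hT, sub_add_cancel, ← Units.val_pow_eq_pow_val, hpow, ← hT, one_pow] at h2
      have h3 : ((r : AddMonoid.End V) * T * 1 * s) w = 0 := by
        rw [mul_one, mul_assoc]
        show (r : AddMonoid.End V) ((T * s) w) = 0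
        rw [AddMonoid.End.natCast_apply, ← map_nsmul, hw, map_zero]
      change w = (T ^ r) w + w + ((r : AddMonoid.End V) * T * 1 * s) w at h2
      rw [h3, add_zero] at h2
      exact add_eq_right.mp h2.symm
    have key2 : ∀ (k : ℕ) (w : V), (T ^ k) w = 0 → w = 0 := by
      intro k
      induction k with
      | zero => intro w hw; simpa using hw
      | succ k ihk =>
        intro w hw
        rw [pow_succ] at hw
        have h2 : (a : Aut V) • w - w = 0 := ihk _ hw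
        exact hf a a.2 hne w (sub_eq_zero.mp h2)
    exact key2 r w hTw

variable [Finite V]

lemma exponent_squarefree : Squarefree (Monoid.exponent S.U) := by
  rw [Nat.squarefree_iff_prime_squarefree]
  intro r hr hd
  obtain ⟨u, hu⟩ := Monoid.exists_orderOf_eq_exponent
    (Monoid.ExponentExists.of_finite (G := S.U))
  obtain ⟨m, hm⟩ := hd
  have hexp0 : Monoid.exponent S.U ≠ 0 := Monoid.exponent_ne_zero_of_finite
  set z := u ^ m
  have hz : orderOf z = r * r := by
    have hmz : m ≠ 0 := fun e => hexp0 (by rw [hm, e, mul_zero])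
    rw [orderOf_pow_of_dvd hmz (by rw [hu, hm]; exact dvd_mul_left m _), hu, hm,
      Nat.mul_div_cancel _ (Nat.pos_of_ne_zero hmz)]
  let X : AddSubgroup (Additive S.U) :=
    { carrier := {v | ∃ w : Additive S.U, (r * r) • w = 0 ∧ r • w = v}
      zero_mem' := ⟨0, smul_zero _, smul_zero _⟩
      add_mem' := fun {a b} ⟨w, h1, h2⟩ ⟨w', h1', h2'⟩ =>
        ⟨w + w', by rw [smul_add, h1, h1', add_zero], by rw [smul_add, h2, h2']⟩
      neg_mem' := fun {a} ⟨w, h1, h2⟩ => ⟨-w, by rw [smul_neg, h1, neg_zero], by rw [smul_neg, h2]⟩ }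
  have hX : Inv S.act.range X := by
    rintro g - v ⟨w, h1, h2⟩
    exact ⟨g • w, by rw [← smul_comm g (r * r) w, h1, smul_zero], by rw [← smul_comm g r w, h2]⟩
  have hzX : z ^ r ∈ S.toSub X ⊓ perp S.beta (S.toSub X) := by
    refine ⟨⟨Additive.ofMul z, ?_, rfl⟩, ?_⟩
    · rw [← ofMul_pow, ← hz, pow_orderOf_eq_one, ofMul_one]
    · rintro x ⟨w, h1, h2⟩
      have hx : x = Additive.toMul w ^ r := by
        have := congrArg Additive.toMul h2
        rw [toMul_nsmul] at this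
        exact this.symm
      rw [hx, map_pow, map_pow, MonoidHom.pow_apply, ← pow_mul, ← map_pow,
        ← toMul_nsmul, h1, toMul_zero, map_one]
  rw [S.inter_perp hX, Subgroup.mem_bot] at hzX
  have := orderOf_dvd_of_pow_eq_one hzX
  rw [hz] at this
  exact hr.not_dvd_one (Nat.dvd_of_mul_dvd_mul_left hr.pos (by rwa [mul_one]))

lemma prime_dvd_of_dvd_exponent {r : ℕ} (hr : r.Prime) (h : r ∣ Monoid.exponent S.U) :
    r ∣ Nat.card S.A0 :=
  S.prime_dvd hr (h.trans Group.exponent_dvd_nat_card)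

namespace Frame

variable (F : Frame S)

/-- The image of `K` in `E/A₀`. -/
def X : Subgroup S.U := (F.K.subgroupOf S.E).map (cl S)

/-- The orthogonal of the image of `K`. -/
def D : Subgroup S.U := perp S.beta F.X

lemma eq_one_of_mem_A0 (hf : Fpf S) {k : Aut V} (hk : k ∈ F.K) (ha : k ∈ S.A0) : k = 1 := by
  by_contra h
  obtain ⟨v, hv, hw⟩ := F.wit
  exact hv (hf k ha h v (hw k hk))

lemma K_comm (hf : Fpf S) {k k' : Aut V} (hk : k ∈ F.K) (hk' : k' ∈ F.K) : k * k' = k' * k := by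
  refine commutatorElement_eq_one_iff_mul_comm.mp (F.eq_one_of_mem_A0 hf ?_
    (S.comm k (F.le hk) k' (F.le hk')))
  rw [commutatorElement_def]
  exact F.K.mul_mem (F.K.mul_mem (F.K.mul_mem hk hk') (F.K.inv_mem hk)) (F.K.inv_mem hk')

lemma mem_D {e : S.E} : cl S e ∈ F.D ↔ ∀ k ∈ F.K, (e : Aut V) * k = k * e := by
  constructor
  · intro h k hk
    exact (beta_cl_eq_one S e ⟨k, F.le hk⟩).mp (h _ ⟨⟨k, F.le hk⟩, hk, rfl⟩)
  · rintro h _ ⟨k, hk, rfl⟩
    exact (beta_cl_eq_one S e k).mpr (h k hk)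

lemma X_le_D (hf : Fpf S) : F.X ≤ F.D := by
  rintro _ ⟨k, hk, rfl⟩
  exact F.mem_D.mpr fun k' hk' => F.K_comm hf hk hk'

lemma inW_smul {e : S.E} (he : cl S e ∈ F.D) {w : V} (hw : InW F.K w) :
    InW F.K ((e : Aut V) • w) := fun k hk => by
  rw [← mul_smul, ← F.mem_D.mp he k hk, mul_smul, hw k hk]

lemma inW_A0 {a : Aut V} (ha : a ∈ S.A0) {w : V} (hw : InW F.K w) : InW F.K (a • w) := fun k hk => by
  rw [← mul_smul, S.cen k (S.e_le (F.le hk)) a ha, mul_smul, hw k hk]

lemma perp_perp : perp S.beta F.D = F.X := by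
  haveI := S.cyc
  have hle : F.X ≤ perp S.beta F.D := fun x hx y hy => beta_symm_one S (hy x hx)
  refine (Subgroup.eq_of_le_of_card_ge hle ?_).symm
  have h1 : Nat.card (perp S.beta F.D) * Nat.card F.D ≤ Nat.card S.U := by
    rw [Subgroup.card_eq_card_quotient_mul_card_subgroup F.D]
    refine Nat.mul_le_mul_right _ (le_trans ?_ (card_hom_le (S.U ⧸ F.D) S.A0))
    have : Finite ((S.U ⧸ F.D) →* S.A0) := Finite.of_injective _ DFunLike.coe_injective
    refine Nat.card_le_card_of_injective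
      (fun x => QuotientGroup.lift F.D (S.beta x) fun y hy => x.2 y hy) fun a b h => Subtype.ext ?_
    refine mul_inv_eq_one.mp (S.beta_nd _ fun y => ?_)
    have := DFunLike.congr_fun h (QuotientGroup.mk y)
    rw [map_mul, map_inv, MonoidHom.mul_apply, MonoidHom.inv_apply, mul_inv_eq_one]
    exact this
  have h2 : Nat.card S.U ≤ Nat.card F.X * Nat.card F.D := card_le_mul_perp S.beta F.X
  exact Nat.le_of_mul_le_mul_right (h1.trans h2) Nat.card_pos

lemma eigen (hf : Fpf S) {r : ℕ} (hr : r.Prime) (hrA : r ∣ Nat.card S.A0) {e : S.E}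
    (he : cl S e ∈ F.D) (her : (e : Aut V) ^ r = 1) : cl S e ∈ F.X := by
  haveI := Fact.mk hr
  obtain ⟨x, hx, hxW⟩ := F.wit
  obtain ⟨w, hw⟩ := exists_prime_orderOf_dvd_card' (G := S.A0) r hrA
  have hw' : orderOf (w : Aut V) = r := by rw [Subgroup.orderOf_coe, hw]
  have hwpow : ∀ i : ℕ, ((w : Aut V) ^ i) ^ r = 1 := fun i => by
    rw [← pow_mul, mul_comm, pow_mul, ← hw', pow_orderOf_eq_one, one_pow]
  have hew : ∀ i : ℕ, Commute (e : Aut V) ((w : Aut V) ^ i) := fun i =>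
    (show Commute (e : Aut V) w from S.cen e (S.e_le e.2) w w.2).pow_right i
  let T : ℕ → V := fun i => ∑ j ∈ Finset.range r, ((e : Aut V) * (w : Aut V) ^ i) ^ j • x
  have hsum : ∑ i ∈ Finset.range r, T i = r • x := by
    simp only [T]
    rw [Finset.sum_comm]
    have hj : ∀ j ∈ Finset.range r, ∑ i ∈ Finset.range r, ((e : Aut V) * (w : Aut V) ^ i) ^ j • x =
        (e : Aut V) ^ j • if j = 0 then r • x else 0 := by
      intro j hj
      have e1 : ∀ i ∈ Finset.range r, ((e : Aut V) * (w : Aut V) ^ i) ^ j • x =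
          (e : Aut V) ^ j • (((w : Aut V) ^ j) ^ i • x) := fun i _ => by
        rw [(hew i).mul_pow, mul_smul, ← pow_mul, ← pow_mul, mul_comm i j]
      rw [Finset.sum_congr rfl e1, ← Finset.smul_sum]
      congr 1
      split_ifs with h0
      · simp [h0]
      · have hne : (w : Aut V) ^ j ≠ 1 :=
          pow_ne_one_of_lt_orderOf h0 (by rw [hw']; exact Finset.mem_range.mp hj)
        refine hf _ (S.A0.pow_mem w.2 j) hne _ ?_
        rw [Finset.smul_sum]
        simp only [← mul_smul, ← pow_succ']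
        have h2 := Finset.sum_range_succ' (fun i => ((w : Aut V) ^ j) ^ i • x) r
        rw [Finset.sum_range_succ, hwpow j, pow_zero] at h2
        exact (add_right_cancel h2).symm
    rw [Finset.sum_congr rfl hj, Finset.sum_eq_single 0 (fun j _ h => by rw [if_neg h, smul_zero])
      (fun h => absurd (Finset.mem_range.mpr hr.pos) h), if_pos rfl, pow_zero, one_smul]
  obtain ⟨i, -, hi⟩ : ∃ i ∈ Finset.range r, T i ≠ 0 := by
    by_contra h
    push Not at h
    rw [Finset.sum_eq_zero h] at hsum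
    exact hx (nsmul_eq_zero_of_fpf hf (fun s hs hd => by
      rwa [(Nat.prime_dvd_prime_iff_eq hs hr).mp hd]) hr.ne_zero hsum.symm)
  let g : S.E := e * ⟨(w : Aut V) ^ i, S.E.pow_mem (S.a0_le w.2) i⟩
  have hgcl : cl S g = cl S e := by
    rw [map_mul, mul_eq_left, cl_eq_one]
    exact S.A0.pow_mem w.2 i
  have hgr : ((e : Aut V) * (w : Aut V) ^ i) ^ r = 1 := by
    rw [(hew i).mul_pow, her, hwpow, mul_one]
  have hfix : (g : Aut V) • T i = T i := by
    show ((e : Aut V) * (w : Aut V) ^ i) • T i = T i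
    simp only [T]
    rw [Finset.smul_sum]
    simp only [← mul_smul, ← pow_succ']
    have h2 := Finset.sum_range_succ' (fun j => ((e : Aut V) * (w : Aut V) ^ i) ^ j • x) r
    rw [Finset.sum_range_succ, hgr, pow_zero] at h2
    exact (add_right_cancel h2).symm
  have hW : InW F.K (T i) := fun k hk => by
    simp only [T]
    rw [Finset.smul_sum]
    refine Finset.sum_congr rfl fun j _ => ?_
    have hgD : cl S (g ^ j) ∈ F.D := by rw [map_pow, hgcl]; exact F.D.pow_mem he j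
    exact F.inW_smul hgD hxW k hk
  rw [← hgcl]
  exact ⟨g, F.max _ hi hW g g.2 hfix, rfl⟩

lemma eigen_A0 (hf : Fpf S) {r : ℕ} (hr : r.Prime) (hrA : r ∣ Nat.card S.A0) {e : S.E}
    (he : cl S e ∈ F.D) {a : Aut V} (ha : a ∈ S.A0) (hea : (e : Aut V) ^ r = a ^ r) :
    cl S e ∈ F.X := by
  let e' : S.E := e * ⟨a⁻¹, S.a0_le (S.A0.inv_mem ha)⟩
  have hcl : cl S e' = cl S e := by
    rw [map_mul, mul_eq_left, cl_eq_one]
    exact S.A0.inv_mem ha
  rw [← hcl]
  refine F.eigen hf hr hrA (by rw [hcl]; exact he) ?_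
  show ((e : Aut V) * a⁻¹) ^ r = 1
  rw [(show Commute (e : Aut V) a⁻¹ from S.cen e (S.e_le e.2) _ (S.A0.inv_mem ha)).mul_pow, hea,
    inv_pow, mul_inv_cancel]

lemma pow_mem_A0 {e : S.E} {r : ℕ} (h : cl S e ^ r = 1) : (e : Aut V) ^ r ∈ S.A0 := by
  rw [← map_pow, cl_eq_one] at h
  exact h

lemma odd_prime_mem_X (hf : Fpf S) {r : ℕ} (hr : r.Prime) (hr2 : r ≠ 2) {u : S.U} (hu : u ∈ F.D)
    (hur : u ^ r = 1) : u ∈ F.X := by
  haveI := Fact.mk hr
  by_contra hX
  have hu1 : u ≠ 1 := fun e => hX (e ▸ F.X.one_mem)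
  have hou : orderOf u = r := orderOf_eq_prime hur hu1
  have hrN : r ∣ Monoid.exponent S.U := hou ▸ Monoid.order_dvd_exponent u
  have hrA := prime_dvd_of_dvd_exponent hr hrN
  obtain ⟨w, hw, hwu⟩ : ∃ w ∈ F.D, S.beta u w ≠ 1 := by
    by_contra h
    push Not at h
    exact hX (F.perp_perp ▸ (fun y hy => h y hy : u ∈ perp S.beta F.D))
  obtain ⟨N', hN'⟩ := hrN
  have hcop : Nat.Coprime r N' := by
    have := exponent_squarefree (S := S)
    rw [hN', Nat.squarefree_mul_iff] at this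
    exact this.1
  set w' := w ^ N'
  have hwr : w' ^ r = 1 := by
    rw [← pow_mul, mul_comm N' r, ← hN']; exact Monoid.pow_exponent_eq_one w
  have hwu' : S.beta u w' ≠ 1 := by
    intro h
    rw [map_pow] at h
    have h2 : S.beta u w ^ r = 1 := by
      rw [← MonoidHom.pow_apply, ← map_pow, hur, map_one, MonoidHom.one_apply]
    exact hwu (orderOf_eq_one_iff.mp (Nat.eq_one_of_dvd_coprimes hcop
      (orderOf_dvd_of_pow_eq_one h2) (orderOf_dvd_of_pow_eq_one h)))
  obtain ⟨e, rfl⟩ := cl_surjective S u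
  obtain ⟨e', he'⟩ := cl_surjective S w'
  rw [← he'] at hwr hwu'
  have he'D : cl S e' ∈ F.D := by rw [he']; exact F.D.pow_mem hw N'
  have ha := pow_mem_A0 hur
  have ha' := pow_mem_A0 hwr
  haveI := S.cyc
  obtain ⟨γ, hγ⟩ := IsCyclic.exists_zpow_surjective (G := S.A0)
  obtain ⟨s, hs⟩ := hγ ⟨_, ha⟩
  obtain ⟨t, ht⟩ := hγ ⟨_, ha'⟩
  replace hs : (γ : Aut V) ^ s = (e : Aut V) ^ r := by
    have := congrArg Subtype.val hs
    simpa using this
  replace ht : (γ : Aut V) ^ t = (e' : Aut V) ^ r := by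
    have := congrArg Subtype.val ht
    simpa using this
  have hs' : ¬ (r : ℤ) ∣ s := by
    rintro ⟨k, rfl⟩
    refine hX (F.eigen_A0 hf hr hrA hu (S.A0.zpow_mem γ.2 k) ?_)
    rw [← hs, ← zpow_natCast, ← zpow_mul, mul_comm k]
  have hsz : (s : ZMod r) ≠ 0 := fun h => hs' ((ZMod.intCast_zmod_eq_zero_iff_dvd s r).mp h)
  obtain ⟨i, hi⟩ : ∃ i : ℕ, (r : ℤ) ∣ (i : ℤ) * s + t := by
    refine ⟨(-(t : ZMod r) * (s : ZMod r)⁻¹).val, (ZMod.intCast_zmod_eq_zero_iff_dvd _ r).mp ?_⟩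
    push_cast
    rw [ZMod.natCast_zmod_val, mul_assoc, inv_mul_cancel₀ hsz, mul_one, neg_add_cancel]
  obtain ⟨k, hk⟩ := hi
  set E' : S.E := e ^ i * e'
  have hE'D : cl S E' ∈ F.D := by
    rw [map_mul, map_pow]; exact F.D.mul_mem (F.D.pow_mem hu i) he'D
  set c : Aut V := ⁅((e' : S.E) : Aut V), ((e ^ i : S.E) : Aut V)⁆ with hc
  have hcA : c ∈ S.A0 := S.comm _ e'.2 _ (e ^ i : S.E).2
  have hcr : c ^ r = 1 := by
    rw [hc, ← beta_cl S e' (e ^ i), ← Subgroup.coe_pow, ← MonoidHom.pow_apply, ← map_pow, hwr,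
      map_one, MonoidHom.one_apply, OneMemClass.coe_one]
  have hpow : (E' : Aut V) ^ r = ((γ : Aut V) ^ k) ^ r := by
    show (((e ^ i : S.E) : Aut V) * (e' : Aut V)) ^ r = _
    rw [mul_pow_of_comm_eq (c := c) (S.cen _ (S.e_le (e ^ i : S.E).2) c hcA).symm
      (S.cen _ (S.e_le e'.2) c hcA).symm (by rw [hc, commutatorElement_def]; group)]
    obtain ⟨q, hq⟩ := hr.dvd_choose_self (k := 2) (by norm_num)
      (lt_of_le_of_ne hr.two_le (Ne.symm hr2))
    rw [hq, pow_mul, hcr, one_pow, one_mul, Subgroup.coe_pow, ← pow_mul, mul_comm i r, pow_mul,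
      ← hs, ← ht, ← zpow_natCast, ← zpow_mul, ← zpow_add, ← zpow_natCast, ← zpow_mul,
      mul_comm s, hk, mul_comm k]
  have hX' := F.eigen_A0 hf hr hrA hE'D (S.A0.zpow_mem γ.2 k) hpow
  refine hwu' ?_
  have h1 : S.beta (cl S e) (cl S E') = 1 := hu _ hX'
  rwa [map_mul, map_mul, map_pow, map_pow, S.beta_alt, one_pow, one_mul] at h1

lemma sq_mem_X (hf : Fpf S) {u : S.U} (hu : u ∈ F.D) : u ^ 2 ∈ F.X := by
  let q : S.U →* S.U ⧸ F.X := QuotientGroup.mk' F.X
  set o := orderOf (q u)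
  have hoN : o ∣ Monoid.exponent S.U :=
    (orderOf_map_dvd q u).trans (Monoid.order_dvd_exponent u)
  have hsq : Squarefree o := Squarefree.squarefree_of_dvd hoN exponent_squarefree
  have ho2 : ∀ r : ℕ, r.Prime → r ∣ o → r = 2 := by
    intro r hr hro
    by_contra hr2
    obtain ⟨N', hN'⟩ := hro.trans hoN
    have hsqN := exponent_squarefree (S := S)
    rw [hN', Nat.squarefree_mul_iff] at hsqN
    have hv : u ^ N' ∈ F.X := F.odd_prime_mem_X hf hr hr2 (F.D.pow_mem hu N')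
      (by rw [← pow_mul, mul_comm, ← hN']; exact Monoid.pow_exponent_eq_one u)
    have hdvd : o ∣ N' := by
      refine orderOf_dvd_of_pow_eq_one ?_
      rw [← map_pow]
      exact (QuotientGroup.eq_one_iff _).mpr hv
    exact hr.not_dvd_one (Nat.Coprime.eq_one_of_dvd hsqN.1 (hro.trans hdvd) ▸ dvd_rfl)
  have hdvd : o ∣ 2 := by
    rw [← Nat.prod_primeFactors_of_squarefree hsq]
    have hsub : o.primeFactors ⊆ {2} := fun r hr => by
      rw [Finset.mem_singleton]
      exact ho2 r (Nat.prime_of_mem_primeFactors hr) (Nat.dvd_of_mem_primeFactors hr)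
    exact (Finset.prod_dvd_prod_of_subset _ _ _ hsub).trans (by simp)
  have : q (u ^ 2) = 1 := by rw [map_pow]; exact orderOf_dvd_iff_pow_eq_one.mp hdvd
  exact (QuotientGroup.eq_one_iff _).mp this

/-- The structure of the orthogonal modulo `K A₀`. -/
lemma exists_gens (hf : Fpf S) :
    F.D ≤ F.X ∨ ∃ m1 m2 : S.E, cl S m1 ∈ F.D ∧ cl S m2 ∈ F.D ∧
      (m1 : Aut V) * m1 ∈ S.A0 ∧ (m2 : Aut V) * m2 ∈ S.A0 ∧
      (∀ v : V, (m1 : Aut V) • (m2 : Aut V) • v = -((m2 : Aut V) • (m1 : Aut V) • v)) ∧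
      (∃ c ∈ S.A0, c ≠ 1 ∧ ∀ v : V, c • v = -v) ∧
      F.D ≤ F.X ⊔ Subgroup.closure {cl S m1, cl S m2} := by
  by_cases hDX : F.D ≤ F.X
  · exact Or.inl hDX
  right
  obtain ⟨u, hu, huX⟩ := SetLike.not_le_iff_exists.mp hDX
  have h2N : 2 ∣ Monoid.exponent S.U := by
    by_contra h
    obtain ⟨j, hj⟩ := (Nat.not_even_iff_odd.mp fun e => h (even_iff_two_dvd.mp e) :
      Odd (Monoid.exponent S.U))
    refine huX ?_
    have h1 : u ^ Monoid.exponent S.U = 1 := Monoid.pow_exponent_eq_one u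
    rw [hj, pow_succ, pow_mul] at h1
    rw [eq_inv_of_mul_eq_one_right h1]
    exact F.X.inv_mem (F.X.pow_mem (F.sq_mem_X hf hu) j)
  have h2A := prime_dvd_of_dvd_exponent Nat.prime_two h2N
  obtain ⟨N', hN'⟩ := h2N
  obtain ⟨j, hj⟩ : Odd N' := by
    have := exponent_squarefree (S := S)
    rw [hN', Nat.squarefree_mul_iff] at this
    exact Nat.coprime_two_left.mp this.1
  have hred : ∀ v ∈ F.D, v ^ N' ∈ F.D ∧ (v ^ N') ^ 2 = 1 ∧ v * (v ^ N')⁻¹ ∈ F.X := by
    intro v hv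
    refine ⟨F.D.pow_mem hv _, by rw [← pow_mul, mul_comm, ← hN']; exact Monoid.pow_exponent_eq_one v, ?_⟩
    rw [hj, pow_succ, mul_inv_rev, ← mul_assoc, mul_inv_cancel, one_mul]
    exact F.X.inv_mem (by rw [pow_mul]; exact F.X.pow_mem (F.sq_mem_X hf hv) j)
  haveI := S.cyc
  obtain ⟨γ, hγ⟩ := IsCyclic.exists_zpow_surjective (G := S.A0)
  -- an element of order two outside `X` squares to an odd power
  have hodd : ∀ e : S.E, cl S e ∈ F.D → cl S e ^ 2 = 1 → cl S e ∉ F.X →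
      ∃ s : ℤ, Odd s ∧ (e : Aut V) * e = (γ : Aut V) ^ s := by
    intro e he he2 heX
    obtain ⟨s, hs⟩ := hγ ⟨_, pow_mem_A0 he2⟩
    replace hs : (γ : Aut V) ^ s = (e : Aut V) ^ 2 := by
      have := congrArg Subtype.val hs
      simpa using this
    refine ⟨s, Int.not_even_iff_odd.mp ?_, by rw [← sq, hs]⟩
    rintro ⟨k, rfl⟩
    exact heX (F.eigen_A0 hf Nat.prime_two h2A he (S.A0.zpow_mem γ.2 k)
      (by rw [← hs, ← zpow_natCast, ← zpow_mul, mul_comm]; congr 1; ring))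
  set u1 := u ^ N'
  obtain ⟨hu1D, hu1sq, hu1u⟩ := hred u hu
  have hu1X : u1 ∉ F.X := fun h => huX (by
    have := F.X.mul_mem hu1u h
    rwa [inv_mul_cancel_right] at this)
  obtain ⟨w, hw, hwu⟩ : ∃ w ∈ F.D, S.beta u1 w ≠ 1 := by
    by_contra h
    push Not at h
    exact hu1X (F.perp_perp ▸ (fun y hy => h y hy : u1 ∈ perp S.beta F.D))
  obtain ⟨hu2D, hu2sq, -⟩ := hred w hw
  set u2 := w ^ N'
  have hb2 : ∀ x y : S.U, x ^ 2 = 1 → (S.beta x y) ^ 2 = 1 := fun x y h => by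
    rw [← MonoidHom.pow_apply, ← map_pow, h, map_one, MonoidHom.one_apply]
  have hu12 : S.beta u1 u2 ≠ 1 := by
    intro h
    rw [map_pow, hj, pow_succ, pow_mul, hb2 u1 w hu1sq, one_pow, one_mul] at h
    exact hwu h
  obtain ⟨m1, hm1⟩ := cl_surjective S u1
  obtain ⟨m2, hm2⟩ := cl_surjective S u2
  have hsqA : ∀ m : S.E, cl S m ^ 2 = 1 → (m : Aut V) * m ∈ S.A0 := fun m h => by
    rw [← sq]; exact pow_mem_A0 h
  set c : S.A0 := S.beta u1 u2
  have hcc : ((c : Aut V)) * c = 1 := by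
    rw [← Subgroup.coe_mul, ← sq, hb2 u1 u2 hu1sq, OneMemClass.coe_one]
  have hc1 : (c : Aut V) ≠ 1 := fun h => hu12 (Subtype.ext h)
  have hcneg := smul_eq_neg_of_sq hf c.2 hcc hc1
  have huniq : ∀ x y : S.U, x ^ 2 = 1 → S.beta x y ≠ 1 → S.beta x y = c := fun x y h hne => by
    refine Subtype.ext (aut_ext fun v => ?_)
    rw [hcneg, smul_eq_neg_of_sq hf (S.beta x y).2
      (by rw [← Subgroup.coe_mul, ← sq, hb2 x y h, OneMemClass.coe_one]) (fun e => hne (Subtype.ext e))]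
  refine ⟨m1, m2, hm1 ▸ hu1D, hm2 ▸ hu2D, hsqA m1 (by rw [hm1, hu1sq]), hsqA m2 (by rw [hm2, hu2sq]),
    fun v => ?_, ⟨c, c.2, hc1, hcneg⟩, fun z hz => ?_⟩
  · have he : (m1 : Aut V) * m2 = c * ((m2 : Aut V) * m1) := by
      show _ = (S.beta u1 u2 : Aut V) * _
      rw [← hm1, ← hm2, beta_cl, commutatorElement_def]; group
    rw [← mul_smul, he, mul_smul, hcneg, mul_smul]
  · obtain ⟨hz'D, hz'sq, hzz⟩ := hred z hz
    set z' := z ^ N'
    set H := F.X ⊔ Subgroup.closure {cl S m1, cl S m2}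
    have h1H : u1 ∈ H := Subgroup.mem_sup_right (Subgroup.subset_closure (by simp [hm1]))
    have h2H : u2 ∈ H := Subgroup.mem_sup_right (Subgroup.subset_closure (by simp [hm2]))
    suffices h : z' ∈ H by
      have := H.mul_mem (Subgroup.mem_sup_left hzz) h
      rwa [inv_mul_cancel_right] at this
    -- adjust to commute with both generators
    obtain ⟨v, hvH, hvD, hvsq, hv1, hv2⟩ : ∃ v, (v ∈ H → z' ∈ H) ∧ v ∈ F.D ∧ v ^ 2 = 1 ∧
        S.beta v u1 = 1 ∧ S.beta v u2 = 1 := by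
      obtain ⟨v, hvH, hvD, hvsq, hv1⟩ : ∃ v, (v ∈ H → z' ∈ H) ∧ v ∈ F.D ∧ v ^ 2 = 1 ∧
          S.beta v u1 = 1 := by
        by_cases h : S.beta z' u1 = 1
        · exact ⟨z', id, hz'D, hz'sq, h⟩
        · refine ⟨z' * u2, fun hh => ?_, F.D.mul_mem hz'D hu2D, by rw [mul_pow, hz'sq, hu2sq, one_mul], ?_⟩
          · have := H.mul_mem hh (H.inv_mem h2H)
            rwa [mul_inv_cancel_right] at this
          · have h21 : S.beta u2 u1 ≠ 1 := fun e => hu12 (beta_symm_one S e)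
            rw [map_mul, MonoidHom.mul_apply, huniq z' u1 hz'sq h, huniq u2 u1 hu2sq h21]
            exact Subtype.ext hcc
      by_cases h : S.beta v u2 = 1
      · exact ⟨v, hvH, hvD, hvsq, hv1, h⟩
      · refine ⟨v * u1, fun hh => hvH ?_, F.D.mul_mem hvD hu1D, by rw [mul_pow, hvsq, hu1sq, one_mul],
          by rw [map_mul, MonoidHom.mul_apply, hv1, S.beta_alt, mul_one], ?_⟩
        · have := H.mul_mem hh (H.inv_mem h1H)
          rwa [mul_inv_cancel_right] at this
        · rw [map_mul, MonoidHom.mul_apply, huniq v u2 hvsq h]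
          exact Subtype.ext hcc
    refine hvH (Subgroup.mem_sup_left ?_)
    by_contra hvX
    obtain ⟨e, he⟩ := cl_surjective S v
    obtain ⟨s, hs, hes⟩ := hodd e (he ▸ hvD) (he ▸ hvsq) (he ▸ hvX)
    obtain ⟨s1, hs1, hes1⟩ := hodd m1 (hm1 ▸ hu1D) (hm1 ▸ hu1sq) (hm1 ▸ hu1X)
    have hcom : (e : Aut V) * m1 = m1 * e := (beta_cl_eq_one S e m1).mp (by rw [he, hm1, hv1])
    obtain ⟨k, hk⟩ := hs.add_odd hs1
    have hX' : cl S (e * m1) ∈ F.X := by
      refine F.eigen_A0 hf Nat.prime_two h2A (by rw [map_mul, he, hm1]; exact F.D.mul_mem hvD hu1D)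
        (S.A0.zpow_mem γ.2 k) ?_
      rw [Subgroup.coe_mul, (show Commute (e : Aut V) m1 from hcom).mul_pow, sq, sq, sq, hes, hes1,
        ← zpow_add, ← zpow_add, hk]
    rw [map_mul, he, hm1] at hX'
    have := hu2D (v * u1) hX'
    rw [map_mul, beta_symm_one S hv2, one_mul] at this
    exact hu12 (beta_symm_one S this)

/-- The class modulo the orthogonal. -/
def qc : S.E →* S.U ⧸ F.D := (QuotientGroup.mk' F.D).comp (cl S)

lemma qc_surjective : Function.Surjective F.qc :=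
  (QuotientGroup.mk'_surjective _).comp (cl_surjective S)

lemma qc_eq_one {e : S.E} : F.qc e = 1 ↔ cl S e ∈ F.D := QuotientGroup.eq_one_iff _

/-- Vectors in the component of a class. -/
def InComp (q : S.U ⧸ F.D) (v : V) : Prop :=
  ∃ e : S.E, F.qc e = q ∧ ∃ w, InW F.K w ∧ v = (e : Aut V) • w

/-- The projection to the component of the class of `f`, up to the order of `K`. -/
noncomputable def proj [Fintype F.K] (f : S.E) (v : V) : V :=
  ∑ k : F.K, (⁅(k : Aut V), (f : Aut V)⁆⁻¹ * k) • v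

lemma proj_eq (hf : Fpf S) [Fintype F.K] {q : S.U ⧸ F.D} {v : V} (hv : F.InComp q v) (f : S.E) :
    (F.qc f = q → F.proj f v = Nat.card F.K • v) ∧ (F.qc f ≠ q → F.proj f v = 0) := by
  obtain ⟨e, rfl, w, hw, rfl⟩ := hv
  let χ : F.K →* S.A0 :=
    (S.beta.flip (cl S e * (cl S f)⁻¹)).comp ((cl S).comp (Subgroup.inclusion F.le))
  have hterm : ∀ k : F.K, (⁅(k : Aut V), (f : Aut V)⁆⁻¹ * k) • (e : Aut V) • w =
      (χ k : Aut V) • (e : Aut V) • w := by
    intro k
    have hχ : (χ k : Aut V) = ⁅(k : Aut V), (e : Aut V)⁆ * ⁅(k : Aut V), (f : Aut V)⁆⁻¹ := by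
      show ((S.beta (cl S (Subgroup.inclusion F.le k)) (cl S e * (cl S f)⁻¹) : S.A0) : Aut V) = _
      rw [map_mul, map_inv, Subgroup.coe_mul, Subgroup.coe_inv, beta_cl, beta_cl,
        Subgroup.coe_inclusion]
    have hc1 : ⁅(k : Aut V), (e : Aut V)⁆ ∈ S.A0 := S.comm _ (F.le k.2) _ e.2
    have hc2 : ⁅(k : Aut V), (f : Aut V)⁆⁻¹ ∈ S.A0 := S.A0.inv_mem (S.comm _ (F.le k.2) _ f.2)
    rw [hχ, S.cen _ (S.e_le (S.a0_le hc1)) _ hc2, ← mul_smul, ← mul_smul,
      show ⁅(k : Aut V), (f : Aut V)⁆⁻¹ * (k : Aut V) * (e : Aut V) =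
        (⁅(k : Aut V), (f : Aut V)⁆⁻¹ * ⁅(k : Aut V), (e : Aut V)⁆ * (e : Aut V)) * (k : Aut V) by
          simp only [commutatorElement_def]; group, mul_smul, hw k k.2]
  simp only [proj, Finset.sum_congr rfl fun k _ => hterm k]
  constructor
  · intro h
    have hχ1 : ∀ k, χ k = 1 := fun k => by
      refine beta_symm_one S (x := cl S e * (cl S f)⁻¹)
        (y := cl S (Subgroup.inclusion F.le k)) ?_
      have hmem : cl S e * (cl S f)⁻¹ ∈ F.D := by
        rw [← QuotientGroup.eq_one_iff]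
        show F.qc e * (F.qc f)⁻¹ = 1
        rw [h, mul_inv_cancel]
      exact hmem _ ⟨Subgroup.inclusion F.le k, k.2, rfl⟩
    simp only [hχ1, OneMemClass.coe_one, one_smul, Finset.sum_const, Finset.card_univ,
      ← Nat.card_eq_fintype_card]
  · intro h
    obtain ⟨k0, hk0⟩ : ∃ k0, χ k0 ≠ 1 := by
      by_contra hall
      push Not at hall
      have hmem : cl S e * (cl S f)⁻¹ ∈ F.D := by
        rintro _ ⟨k, hk, rfl⟩
        exact beta_symm_one S (hall ⟨k, hk⟩)
      rw [← QuotientGroup.eq_one_iff] at hmem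
      exact h (mul_inv_eq_one.mp (show F.qc e * (F.qc f)⁻¹ = 1 from hmem)).symm
    refine hf _ (χ k0).2 (fun e' => hk0 (Subtype.ext e')) _ ?_
    rw [Finset.smul_sum]
    refine Fintype.sum_equiv (Equiv.mulLeft k0) _ _ fun k => ?_
    rw [Equiv.coe_mulLeft, map_mul, Subgroup.coe_mul, mul_smul]

/-- Components are independent. -/
lemma comp_unique (hf : Fpf S) {T T' : Finset (S.U ⧸ F.D)} {v v' : S.U ⧸ F.D → V}
    (hv : ∀ q ∈ T, F.InComp q (v q)) (hv' : ∀ q ∈ T', F.InComp q (v' q))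
    (hne : ∀ q ∈ T, v q ≠ 0) (hne' : ∀ q ∈ T', v' q ≠ 0)
    (h : ∑ q ∈ T, v q = ∑ q ∈ T', v' q) : T = T' ∧ ∀ q ∈ T, v q = v' q := by
  classical
  have : Fintype F.K := Fintype.ofFinite _
  have hinj : ∀ w : V, Nat.card F.K • w = 0 → w = 0 := fun w hw => by
    refine nsmul_eq_zero_of_fpf hf (fun r hr hd => S.prime_dvd hr (hd.trans ?_)) Nat.card_pos.ne' hw
    refine Subgroup.card_dvd_of_injective ((cl S).comp (Subgroup.inclusion F.le)) ?_
    rw [injective_iff_map_eq_one]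
    exact fun k hk => Subtype.ext (F.eq_one_of_mem_A0 hf k.2 ((cl_eq_one S).mp hk))
  have hadd : ∀ (f : S.E) (s : Finset (S.U ⧸ F.D)) (w : S.U ⧸ F.D → V),
      F.proj f (∑ q ∈ s, w q) = ∑ q ∈ s, F.proj f (w q) := fun f s w => by
    simp only [proj, Finset.smul_sum]
    exact Finset.sum_comm
  have hval : ∀ (T : Finset (S.U ⧸ F.D)) (v : S.U ⧸ F.D → V), (∀ q ∈ T, F.InComp q (v q)) →
      ∀ f : S.E, F.proj f (∑ q ∈ T, v q) =
        if F.qc f ∈ T then Nat.card F.K • v (F.qc f) else 0 := by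
    intro T v hv f
    rw [hadd]
    split_ifs with hm
    · rw [Finset.sum_eq_single (F.qc f) (fun q hq hne => (F.proj_eq hf (hv q hq) f).2 (Ne.symm hne))
        (fun hn => absurd hm hn), (F.proj_eq hf (hv _ hm) f).1 rfl]
    · exact Finset.sum_eq_zero fun q hq => (F.proj_eq hf (hv q hq) f).2 fun e => hm (e ▸ hq)
  have key : ∀ q, (q ∈ T ↔ q ∈ T') ∧ (q ∈ T → v q = v' q) := by
    intro q
    obtain ⟨f, rfl⟩ := F.qc_surjective q
    have h1 := congrArg (F.proj f) h
    rw [hval T v hv f, hval T' v' hv' f] at h1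
    by_cases a : F.qc f ∈ T <;> by_cases b : F.qc f ∈ T'
    · rw [if_pos a, if_pos b] at h1
      exact ⟨iff_of_true a b, fun _ => sub_eq_zero.mp (hinj _ (by rw [smul_sub, h1, sub_self]))⟩
    · rw [if_pos a, if_neg b] at h1
      exact absurd (hinj _ h1) (hne _ a)
    · rw [if_neg a, if_pos b] at h1
      exact absurd (hinj _ h1.symm) (hne' _ b)
    · exact ⟨iff_of_false a b, fun hh => absurd hh a⟩
  exact ⟨Finset.ext fun q => (key q).1, fun q hq => (key q).2 hq⟩

end Frame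

end CfsgLib.SolvBase
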