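import Cfsg.Agent.OddBase.Prim
import Cfsg.Agent.SolvBase.Frame

/-!
Soluble groups of order prime to three acting on a symplectic space of order sixteen or sixty-four
without invariant totally isotropic subspaces.
-/

set_option autoImplicit false
set_option linter.style.haveILetI false
set_option linter.unusedSectionVars false

universe u

namespace CfsgLib.SolvBase.SmallOrth

open OddBase

variable {V : Type u} [AddCommGroup V] [Finite V] (S : Setup (Aut V))

/-- The classes with an involutory or trivial lift. -/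
def sing : Set (Additive S.U) := {z | ∃ e : S.E, cl S e = Additive.toMul z ∧ e * e = 1}

lemma sing_smul {h : Aut (Additive S.U)} (hh : h ∈ S.act.range) {z : Additive S.U} (hz : z ∈ sing S) :
    h • z ∈ sing S := by
  obtain ⟨g, rfl⟩ := hh
  obtain ⟨e, he, he2⟩ := hz
  obtain rfl : z = Additive.ofMul (cl S e) := by rw [he, ofMul_toMul]
  refine ⟨⟨(g : Aut V) * e * (g : Aut V)⁻¹, S.e_norm g g.2 e e.2⟩, ?_, Subtype.ext ?_⟩
  · rw [show cl S e = QuotientGroup.mk e from rfl, S.act_mk]; rfl
  · show (g : Aut V) * e * (g : Aut V)⁻¹ * ((g : Aut V) * e * (g : Aut V)⁻¹) = 1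
    calc (g : Aut V) * e * (g : Aut V)⁻¹ * ((g : Aut V) * e * (g : Aut V)⁻¹)
        = (g : Aut V) * (((e * e : S.E)) : Aut V) * (g : Aut V)⁻¹ := by
          rw [Subgroup.coe_mul]; group
      _ = 1 := by rw [he2, OneMemClass.coe_one]; group

lemma eq_zero_of_fixed (u : Additive S.U) (hu : ∀ h ∈ S.act.range, h • u = u) : u = 0 := by
  have hX : Inv S.act.range (AddSubgroup.zmultiples u) := by
    intro h hh v hv
    obtain ⟨j, rfl⟩ := AddSubgroup.mem_zmultiples_iff.mp hv
    exact AddSubgroup.mem_zmultiples_iff.mpr ⟨j, by rw [smul_comm h j u, hu h hh]⟩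
  have hu' : Additive.toMul u ∈
      S.toSub (AddSubgroup.zmultiples u) ⊓ perp S.beta (S.toSub (AddSubgroup.zmultiples u)) := by
    refine ⟨AddSubgroup.mem_zmultiples u, fun y hy => ?_⟩
    obtain ⟨j, hj⟩ := AddSubgroup.mem_zmultiples_iff.mp (show Additive.ofMul y ∈ _ from hy)
    rw [show y = Additive.toMul u ^ j by rw [← toMul_zsmul, hj, toMul_ofMul], map_zpow,
      S.beta_alt, one_zpow]
  rw [S.inter_perp hX, Subgroup.mem_bot] at hu'
  exact Additive.toMul.injective hu'

variable {S}

lemma card_act_not_three (h3 : ¬ 3 ∣ Nat.card S.A) : ¬ 3 ∣ Nat.card S.act.range := fun h =>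
  h3 (h.trans (Subgroup.card_range_dvd _))

lemma no_order_four (h3 : ¬ 3 ∣ Nat.card S.A) {X : AddSubgroup (Additive S.U)}
    (hX : Inv S.act.range X) (h4 : Nat.card X = 4) : False := by
  classical
  haveI : Fintype X := Fintype.ofFinite _
  rw [Nat.card_eq_fintype_card] at h4
  haveI : Nontrivial X := Fintype.one_lt_card_iff_nontrivial.mp (by omega)
  obtain ⟨⟨u, huX⟩, hu⟩ := exists_ne (0 : X)
  let O := MulAction.orbit S.act.range u
  have hdvd : Nat.card O ∣ Nat.card S.act.range := by
    rw [Nat.card_congr (MulAction.orbitEquivQuotientStabilizer S.act.range u)]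
    exact Subgroup.card_quotient_dvd_card _
  have hOX : ∀ v ∈ O, v ∈ X ∧ v ≠ 0 := by
    rintro _ ⟨⟨h, hh⟩, rfl⟩
    refine ⟨hX h hh u huX, fun e => hu (Subtype.ext ?_)⟩
    exact (smul_eq_zero_iff_eq h).mp e
  let Of : Finset X := Finset.univ.filter fun v : X => (v : Additive S.U) ∈ O
  have hOf : Of.card = Nat.card O := by
    rw [← Nat.card_eq_finsetCard]
    exact Nat.card_congr
      { toFun := fun v => ⟨v.1.1, (Finset.mem_filter.mp v.2).2⟩
        invFun := fun v => ⟨⟨v.1, (hOX v v.2).1⟩, Finset.mem_filter.mpr ⟨Finset.mem_univ _, v.2⟩⟩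
        left_inv := fun _ => rfl
        right_inv := fun _ => rfl }
  have hsub : Of ⊆ Finset.univ.erase 0 := fun v hv => Finset.mem_erase.mpr
    ⟨fun e => (hOX _ (Finset.mem_filter.mp hv).2).2 (congrArg Subtype.val e), Finset.mem_univ _⟩
  have hE : (Finset.univ.erase (0 : X)).card = 3 := by
    rw [Finset.card_erase_of_mem (Finset.mem_univ _), Finset.card_univ, h4]
  have hle := Finset.card_le_card hsub
  have hne3 : Of.card ≠ 3 := fun e => card_act_not_three h3 (e ▸ hOf ▸ hdvd)
  have hpos : 0 < Of.card := Finset.card_pos.mpr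
    ⟨⟨u, huX⟩, Finset.mem_filter.mpr ⟨Finset.mem_univ _, MulAction.mem_orbit_self u⟩⟩
  rcases (by omega : Of.card = 1 ∨ Of.card = 2) with h1 | h2
  · refine hu (Subtype.ext (eq_zero_of_fixed S u fun h hh => ?_))
    have hm : ∀ v (hv : v ∈ O), (⟨v, (hOX v hv).1⟩ : X) ∈ Of := fun v hv =>
      Finset.mem_filter.mpr ⟨Finset.mem_univ _, hv⟩
    exact congrArg Subtype.val (Finset.card_le_one.mp h1.le _
      (hm (h • u) ⟨⟨h, hh⟩, rfl⟩) _ (hm u (MulAction.mem_orbit_self u)))
  · have hw : ((Finset.univ.erase (0 : X)) \ Of).card = 1 := by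
      rw [Finset.card_sdiff_of_subset hsub, hE, h2]
    obtain ⟨w, hw⟩ := Finset.card_eq_one.mp hw
    have hwm : w ∈ (Finset.univ.erase (0 : X)) \ Of := by rw [hw]; exact Finset.mem_singleton_self w
    obtain ⟨hw0, hwO⟩ := Finset.mem_sdiff.mp hwm
    refine (Finset.mem_erase.mp hw0).1 (Subtype.ext (eq_zero_of_fixed S w fun h hh => ?_))
    have hmem : (⟨h • (w : Additive S.U), hX h hh w w.2⟩ : X) ∈ (Finset.univ.erase (0 : X)) \ Of := by
      refine Finset.mem_sdiff.mpr ⟨Finset.mem_erase.mpr ⟨fun e => (Finset.mem_erase.mp hw0).1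
        (Subtype.ext ((smul_eq_zero_iff_eq h).mp (congrArg Subtype.val e))), Finset.mem_univ _⟩,
        fun e => hwO (Finset.mem_filter.mpr ⟨Finset.mem_univ _, ?_⟩)⟩
      have he : h • (w : Additive S.U) ∈ O := (Finset.mem_filter.mp e).2
      exact (MulAction.mem_orbit_iff).mpr (by
        obtain ⟨a, ha⟩ := he
        exact ⟨⟨h, hh⟩⁻¹ * a, by rw [mul_smul]; exact inv_smul_eq_iff.mpr ha⟩)
    rw [hw, Finset.mem_singleton] at hmem
    exact congrArg Subtype.val hmem

/-- An elementary abelian normal subgroup without common fixed points. -/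
structure Kernel (S : Setup (Aut V)) where
  s : ℕ
  hs : s.Prime
  s_ne : s ≠ 3
  N : Subgroup (Aut (Additive S.U))
  le : N ≤ S.act.range
  ne : N ≠ ⊥
  comm : ∀ a ∈ N, ∀ b ∈ N, a * b = b * a
  pow : ∀ a ∈ N, a ^ s = 1
  norm : ∀ h ∈ S.act.range, ∀ a ∈ N, h * a * h⁻¹ ∈ N
  fpf : ∀ u : Additive S.U, (∀ a ∈ N, a • u = u) → u = 0
  dvd : s ∣ Nat.card S.U - 1

lemma dvd_card_sub_one {s : ℕ} (hs : s.Prime) {G : Type*} [Group G] {α : Type*} [MulAction G α]
    [Finite α] (hG : IsPGroup s G) (a : α) (h : ∀ b : α, (∀ g : G, g • b = b) ↔ b = a) :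
    s ∣ Nat.card α - 1 := by
  haveI := Fact.mk hs
  have h1 := hG.card_modEq_card_fixedPoints α
  have h2 : MulAction.fixedPoints G α = {a} := Set.ext fun b => h b
  rw [h2, Nat.card_coe_set_eq, Set.ncard_singleton] at h1
  exact (Nat.modEq_iff_dvd' (Nat.one_le_iff_ne_zero.mpr (by
    haveI : Nonempty α := ⟨a⟩
    exact Nat.card_pos.ne'))).mp h1.symm

lemma Kernel.isPGroup (K : Kernel S) : IsPGroup K.s K.N := fun a =>
  ⟨1, Subtype.ext (by rw [pow_one, Subgroup.coe_pow, OneMemClass.coe_one]; exact K.pow a a.2)⟩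

lemma Kernel.dvd_sing (K : Kernel S) : K.s ∣ Nat.card (sing S) - 1 := by
  letI : MulAction K.N (sing S) :=
    { smul := fun a z => ⟨(a : Aut (Additive S.U)) • (z : Additive S.U), sing_smul S (K.le a.2) z.2⟩
      one_smul := fun z => Subtype.ext (one_smul _ (z : Additive S.U))
      mul_smul := fun a b z => Subtype.ext (mul_smul (a : Aut (Additive S.U)) b (z : Additive S.U)) }
  refine dvd_card_sub_one K.hs K.isPGroup (⟨0, 1, map_one _, mul_one 1⟩ : sing S) fun z => ?_
  constructor
  · exact fun h => Subtype.ext (K.fpf z fun a ha => congrArg Subtype.val (h ⟨a, ha⟩))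
  · rintro rfl a
    exact Subtype.ext (smul_zero (a : Aut (Additive S.U)))

lemma exists_kernel (hsol : Group.IsSolvable S.A) (h3 : ¬ 3 ∣ Nat.card S.A) {k : ℕ}
    (hk : k = 2 ∨ k = 3) (hcard : Nat.card S.U = 2 ^ (2 * k)) : Nonempty (Kernel S) := by
  classical
  set H := S.act.range with hH
  haveI : Group.IsSolvable H := solvable_range _ hsol
  have hU : Nat.card (Additive S.U) = 2 ^ (2 * k) := hcard ▸ Nat.card_congr Additive.toMul
  haveI : Nontrivial (Additive S.U) := Finite.one_lt_card_iff_nontrivial.mp (by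
    rw [hU]; exact Nat.one_lt_two_pow (by omega))
  have hH1 : H ≠ ⊥ := fun h => by
    obtain ⟨u, hu⟩ := exists_ne (0 : Additive S.U)
    refine hu (eq_zero_of_fixed S u fun a ha => ?_)
    rw [← hH, h, Subgroup.mem_bot] at ha
    rw [ha, one_smul]
  obtain ⟨m, hm⟩ := Group.IsSolvable.solvable (G := H)
  have hex : ∃ m, derivedSeries H m = ⊥ := ⟨m, hm⟩
  have hf0 : Nat.find hex ≠ 0 := fun e => hH1 (by
    have := Nat.find_spec hex
    rw [e, derivedSeries_zero] at this
    rw [eq_bot_iff]
    intro a ha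
    have h2 : (⟨a, ha⟩ : H) ∈ (⊥ : Subgroup H) := this ▸ Subgroup.mem_top _
    exact Subgroup.mem_bot.mpr (congrArg Subtype.val (Subgroup.mem_bot.mp h2)))
  obtain ⟨j, hj⟩ := Nat.exists_eq_succ_of_ne_zero hf0
  set D := derivedSeries H j
  have hDne : D ≠ ⊥ := Nat.find_min hex (by omega)
  have hDc : ∀ a ∈ D, ∀ b ∈ D, a * b = b * a := fun a ha b hb => by
    have h1 := Nat.find_spec hex
    rw [hj, derivedSeries_succ] at h1
    exact commutatorElement_eq_one_iff_mul_comm.mp
      (Subgroup.mem_bot.mp (h1 ▸ Subgroup.commutator_mem_commutator ha hb))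
  obtain ⟨s, hs, hsD⟩ := Nat.exists_prime_and_dvd (n := Nat.card D)
    fun e => hDne (Subgroup.card_eq_one.mp e)
  haveI := Fact.mk hs
  obtain ⟨d0, hd0⟩ := exists_prime_orderOf_dvd_card' s hsD
  let N : Subgroup (Aut (Additive S.U)) :=
    { carrier := {a | ∃ ha : a ∈ H, (⟨a, ha⟩ : H) ∈ D ∧ a ^ s = 1}
      one_mem' := ⟨H.one_mem, D.one_mem, one_pow s⟩
      mul_mem' := fun {a b} ⟨ha, ha', has⟩ ⟨hb, hb', hbs⟩ => ⟨H.mul_mem ha hb, D.mul_mem ha' hb', by
        rw [(show Commute a b from congrArg Subtype.val (hDc _ ha' _ hb')).mul_pow, has, hbs, one_mul]⟩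
      inv_mem' := fun {a} ⟨ha, ha', has⟩ => ⟨H.inv_mem ha, D.inv_mem ha', by rw [inv_pow, has, inv_one]⟩ }
  have hNle : N ≤ H := fun a ha => ha.1
  have hNne : N ≠ ⊥ := fun h => by
    have h1 : ((d0 : H) : Aut (Additive S.U)) ∈ N := ⟨(d0 : H).2, d0.2, by
      rw [← hd0, ← Subgroup.orderOf_coe, ← Subgroup.orderOf_coe]; exact pow_orderOf_eq_one _⟩
    rw [h, Subgroup.mem_bot] at h1
    rw [← Subgroup.orderOf_coe, ← Subgroup.orderOf_coe, h1, orderOf_one] at hd0
    exact hs.ne_one hd0.symm
  have hNnorm : ∀ h ∈ H, ∀ a ∈ N, h * a * h⁻¹ ∈ N := fun h hh a ⟨ha, ha', has⟩ =>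
    ⟨H.mul_mem (H.mul_mem hh ha) (H.inv_mem hh),
      (derivedSeries_normal H j).conj_mem _ ha' ⟨h, hh⟩, by rw [conj_pow, has, mul_one, mul_inv_cancel]⟩
  let Fx : AddSubgroup (Additive S.U) :=
    { carrier := {u | ∀ a ∈ N, a • u = u}
      zero_mem' := fun a _ => smul_zero a
      add_mem' := fun hu hv a ha => by rw [smul_add, hu a ha, hv a ha]
      neg_mem' := fun hu a ha => by rw [smul_neg, hu a ha] }
  have hFinv : Inv S.act.range Fx := fun h hh u hu a ha => by
    have h1 := hu _ (hNnorm h⁻¹ (H.inv_mem hh) a ha)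
    rw [inv_inv, mul_smul, mul_smul, inv_smul_eq_iff] at h1
    exact h1
  obtain ⟨t, ht⟩ := S.isSquare_inv hFinv
  have hdvd : Nat.card Fx ∣ 2 ^ (2 * k) := hU ▸ AddSubgroup.card_addSubgroup_dvd_card Fx
  obtain ⟨i, hi, hFc⟩ := (Nat.dvd_prime_pow Nat.prime_two).mp hdvd
  have hlt : i ≠ 2 * k := by
    rintro rfl
    refine hNne ((Subgroup.eq_bot_iff_forall N).mpr fun a ha => aut_ext fun u => ?_)
    have hu : u ∈ Fx := by
      rw [AddSubgroup.eq_top_of_card_eq Fx (hFc.trans hU.symm)]; trivial
    rw [one_smul]; exact hu a ha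
  obtain ⟨i', -, ht'⟩ := (Nat.dvd_prime_pow Nat.prime_two).mp
    (show t ∣ 2 ^ (2 * k) from (Dvd.intro t ht.symm).trans hdvd)
  rw [hFc, ht', ← pow_add] at ht
  have hieq := Nat.pow_right_injective le_rfl ht
  have hi0 : i = 0 := by
    have hnot2 : i ≠ 2 := fun e => no_order_four h3 hFinv (by rw [hFc, e]; norm_num)
    by_cases h4 : i = 4 ∧ k = 3
    · exfalso
      obtain ⟨W, hW, hd, hsu⟩ := S.cr_act Fx hFinv
      refine no_order_four h3 hW ?_
      have hb : Function.Bijective fun p : Fx × W => (p.1 : Additive S.U) + p.2 := by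
        refine ⟨?_, fun u => ?_⟩
        · rintro ⟨a, b⟩ ⟨a', b'⟩ h
          simp only at h
          have hmem : (a : Additive S.U) - a' ∈ Fx ⊓ W := by
            refine ⟨Fx.sub_mem a.2 a'.2, ?_⟩
            rw [show (a : Additive S.U) - a' = (b' : Additive S.U) - b by
              rw [sub_eq_sub_iff_add_eq_add, h, add_comm]]
            exact W.sub_mem b'.2 b.2
          rw [hd, AddSubgroup.mem_bot, sub_eq_zero] at hmem
          obtain rfl := Subtype.ext hmem
          exact Prod.ext rfl (Subtype.ext (add_left_cancel h))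
        · obtain ⟨a, ha, b, hb, rfl⟩ := AddSubgroup.mem_sup.mp
            (show u ∈ Fx ⊔ W by rw [hsu]; trivial)
          exact ⟨(⟨a, ha⟩, ⟨b, hb⟩), rfl⟩
      have hc := Nat.card_congr (Equiv.ofBijective _ hb)
      rw [Nat.card_prod, hFc, hU, h4.1, h4.2] at hc
      norm_num at hc
      omega
    · rcases hk with rfl | rfl <;> omega
  have hfpf : ∀ u : Additive S.U, (∀ a ∈ N, a • u = u) → u = 0 := fun u hu => by
    have : Fx = ⊥ := AddSubgroup.eq_bot_of_card_eq Fx (by rw [hFc, hi0, pow_zero])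
    exact AddSubgroup.mem_bot.mp (this ▸ (show u ∈ Fx from hu))
  have hpg : IsPGroup s N := fun a => ⟨1, Subtype.ext (by
    rw [pow_one, Subgroup.coe_pow, OneMemClass.coe_one]; exact a.2.2.2)⟩
  refine ⟨⟨s, hs, ?_, N, hNle, hNne, fun a ha b hb => congrArg Subtype.val (hDc _ ha.2.1 _ hb.2.1),
    fun a ha => ha.2.2, hNnorm, hfpf, ?_⟩⟩
  · rintro rfl
    refine card_act_not_three h3 ?_
    have := orderOf_dvd_natCard (d0 : H)
    rwa [Subgroup.orderOf_coe, hd0] at this
  · rw [← Nat.card_congr (Additive.toMul : Additive S.U ≃ S.U)]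
    exact dvd_card_sub_one hs hpg 0 fun u => ⟨fun h => hfpf u fun a ha => h ⟨a, ha⟩,
      fun h a => h ▸ smul_zero (a : Aut (Additive S.U))⟩

/-- Ten singular classes among sixteen are impossible. -/
theorem no_sixteen (hsol : Group.IsSolvable S.A) (h3 : ¬ 3 ∣ Nat.card S.A)
    (hcard : Nat.card S.U = 16) (hs : Nat.card (sing S) = 10) : False := by
  obtain ⟨K⟩ := exists_kernel hsol h3 (Or.inl rfl) (by rw [hcard]; norm_num)
  have h1 := K.dvd
  rw [hcard] at h1
  have h2 := K.dvd_sing
  rw [hs] at h2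
  have h4 : K.s ∣ 3 := by
    have h5 := Nat.dvd_gcd h1 h2
    exact h5.trans (by norm_num)
  exact K.s_ne ((Nat.prime_dvd_prime_iff_eq K.hs Nat.prime_three).mp h4)

/-- Twenty-eight singular classes among sixty-four are impossible. -/
theorem no_sixty_four (hsol : Group.IsSolvable S.A) (h3 : ¬ 3 ∣ Nat.card S.A)
    (hcard : Nat.card S.U = 64) (hs : Nat.card (sing S) = 28) : False := by
  obtain ⟨K⟩ := exists_kernel hsol h3 (Or.inr rfl) (by rw [hcard]; norm_num)
  have h1 := K.dvd
  rw [hcard] at h1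
  have h2 := K.dvd_sing
  rw [hs] at h2
  have h4 : K.s ∣ 3 ^ 2 := (Nat.dvd_gcd h1 h2).trans (by norm_num)
  exact K.s_ne ((Nat.prime_dvd_prime_iff_eq K.hs Nat.prime_three).mp (K.hs.dvd_of_dvd_pow h4))

/-- Among sixty-four classes an involution fixes fewer than sixteen. -/
theorem no_involution (hsol : Group.IsSolvable S.A) (h3 : ¬ 3 ∣ Nat.card S.A)
    (hAC : S.A ≤ S.C) (hU2 : ∀ u : S.U, u * u = 1) (hcard : Nat.card S.U = 64)
    {h : Aut (Additive S.U)} (hh : h ∈ S.act.range) (hh2 : h * h = 1)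
    (h16 : 16 ≤ Nat.card (fixA h)) : h = 1 := by
  classical
  obtain ⟨K⟩ := exists_kernel hsol h3 (Or.inr rfl) (by rw [hcard]; norm_num)
  have hU : Nat.card (Additive S.U) = 64 := hcard ▸ Nat.card_congr Additive.toMul
  have hs7 : K.s = 7 := by
    have h1 := K.dvd
    rw [hcard] at h1
    have h63 : K.s ∣ 3 ^ 2 * 7 := h1.trans (by norm_num)
    rcases K.hs.dvd_mul.mp h63 with h' | h'
    · exact absurd ((Nat.prime_dvd_prime_iff_eq K.hs Nat.prime_three).mp (K.hs.dvd_of_dvd_pow h')) K.s_ne
    · exact (Nat.prime_dvd_prime_iff_eq K.hs (by norm_num)).mp h'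
  have h2u : ∀ u : Additive S.U, u + u = 0 := fun u => Additive.toMul.injective (hU2 _)
  have hbeta : ∀ m ∈ S.act.range, ∀ x y : Additive S.U,
      S.beta (Additive.toMul (m • x)) (Additive.toMul (m • y)) =
        S.beta (Additive.toMul x) (Additive.toMul y) := by
    rintro _ ⟨g, rfl⟩ x y
    exact S.act_beta (hAC g.2) x y
  have hpow : ∀ m : Aut (Additive S.U), ∀ v z : Additive S.U, m • v = v → m • z = z + v →
      ∀ i : ℕ, m ^ i • z = z + i • v := fun m v z hv hz i => by
    induction i with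
    | zero => simp
    | succ i ih =>
      rw [pow_succ', mul_smul, ih, smul_add, hz, smul_comm, hv, succ_nsmul, add_assoc, add_comm v]
  -- single elements have no fixed points
  have hfpf : ∀ m ∈ K.N, m ≠ 1 → ∀ u : Additive S.U, m • u = u → u = 0 := by
    intro m hm hm1
    let Fm := fixA m
    have hinv : ∀ a ∈ K.N, ∀ u ∈ Fm, a • u ∈ Fm := fun a ha u hu => by
      show m • a • u = a • u
      rw [← mul_smul, K.comm m hm a ha, mul_smul, mem_fixA.mp hu]
    have hmod : 7 ∣ Nat.card Fm - 1 := by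
      letI : MulAction K.N Fm :=
        { smul := fun a u => ⟨(a : Aut (Additive S.U)) • (u : Additive S.U), hinv a a.2 u u.2⟩
          one_smul := fun u => Subtype.ext (one_smul _ (u : Additive S.U))
          mul_smul := fun a b u => Subtype.ext (mul_smul (a : Aut (Additive S.U)) b (u : Additive S.U)) }
      rw [← hs7]
      exact dvd_card_sub_one K.hs K.isPGroup (0 : Fm) fun u =>
        ⟨fun h' => Subtype.ext (K.fpf u fun a ha => congrArg Subtype.val (h' ⟨a, ha⟩)),
          fun h' a => h' ▸ Subtype.ext (smul_zero (a : Aut (Additive S.U)))⟩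
    have hdvd : Nat.card Fm ∣ 2 ^ 6 := by
      have := AddSubgroup.card_addSubgroup_dvd_card Fm
      rwa [hU] at this
    obtain ⟨d, hd, hFd⟩ := (Nat.dvd_prime_pow Nat.prime_two).mp hdvd
    intro u hu
    suffices hbot : Fm = ⊥ by
      have hu' : u ∈ Fm := hu
      rwa [hbot, AddSubgroup.mem_bot] at hu'
    refine AddSubgroup.eq_bot_of_card_eq Fm ?_
    rw [hFd] at hmod
    by_contra hne
    rw [hFd] at hne
    obtain rfl | rfl : d = 3 ∨ d = 6 := by
      interval_cases d <;> first | omega | (revert hmod hne; norm_num)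
    · -- the fixed space is nondegenerate, so of square order
      let f : Additive S.U →+ Additive S.U :=
        { toFun := fun z => m • z - z
          map_zero' := by simp
          map_add' := fun a b => by rw [smul_add]; abel }
      have hker : f.ker = Fm := by
        ext z
        exact sub_eq_zero
      have hdisj : ∀ v, v ∈ Fm → v ∈ f.range → v = 0 := by
        rintro v hv ⟨z, rfl⟩
        have h1 := hpow m (f z) z hv (by show m • z = z + (m • z - z); abel) 7
        rw [← hs7, K.pow m hm, one_smul, eq_comm, add_eq_left, hs7] at h1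
        calc f z = 7 • f z + (-6 : ℤ) • f z := by
              rw [← natCast_zsmul, ← add_zsmul]; norm_num
          _ = 0 := by
              rw [h1, zero_add, show (-6 : ℤ) = 2 * (-3) by norm_num, mul_zsmul', two_zsmul, h2u, smul_zero]
      have hperp : ∀ v ∈ Fm, (∀ w ∈ Fm, S.beta (Additive.toMul v) (Additive.toMul w) = 1) → v = 0 := by
        intro v hv hvp
        have hr : ∀ z, S.beta (Additive.toMul v) (Additive.toMul (f z)) = 1 := fun z => by
          have h1 := hbeta m (K.le hm) v z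
          rw [mem_fixA.mp hv] at h1
          show S.beta (Additive.toMul v) (Additive.toMul (m • z - z)) = 1
          rw [toMul_sub, div_eq_mul_inv, map_mul, map_inv, h1, mul_inv_cancel]
        have hinj : Function.Injective fun p : Fm × f.range => (p.1 : Additive S.U) + p.2 := by
          rintro ⟨a, b⟩ ⟨a', b'⟩ h'
          simp only at h'
          have h0 : (a : Additive S.U) - a' = 0 := hdisj _ (Fm.sub_mem a.2 a'.2) (by
            rw [show (a : Additive S.U) - a' = (b' : Additive S.U) - b by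
              rw [sub_eq_sub_iff_add_eq_add, h', add_comm]]
            exact f.range.sub_mem b'.2 b.2)
          rw [sub_eq_zero] at h0
          obtain rfl := Subtype.ext h0
          exact Prod.ext rfl (Subtype.ext (add_left_cancel h'))
        have hb := hinj.bijective_of_nat_card_le (by
          rw [Nat.card_prod, ← AddSubgroup.index_ker, hker, AddSubgroup.card_mul_index])
        have hv1 : Additive.toMul v = 1 := S.beta_nd _ fun y => by
          obtain ⟨⟨a, ⟨_, z, rfl⟩⟩, hab⟩ := hb.2 (Additive.ofMul y)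
          simp only at hab
          rw [show y = Additive.toMul ((a : Additive S.U) + f z) by rw [hab, toMul_ofMul],
            toMul_add, map_mul, hvp a a.2, hr z, one_mul]
        exact Additive.toMul.injective hv1
      haveI := S.cyc
      let Y := S.toSub Fm
      let β' : Y →* Y →* S.A0 := (MonoidHom.compHom' Y.subtype).comp (S.beta.comp Y.subtype)
      have hsq := isSquare_card_of_alt _ Y β' rfl (fun x => S.beta_alt x) fun x hx => Subtype.ext (by
        have h1 := hperp (Additive.ofMul (x : S.U)) x.2 fun w hw => hx ⟨Additive.toMul w, hw⟩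
        exact Additive.ofMul.injective h1)
      obtain ⟨t, ht⟩ := hsq
      have hY : Nat.card Y = 2 ^ 3 := hFd
      rw [hY] at ht
      have : t ≤ 8 := Nat.le_of_dvd (by norm_num) ⟨t, ht⟩
      interval_cases t <;> omega
    · refine hm1 (aut_ext fun z => ?_)
      have : z ∈ Fm := by
        rw [AddSubgroup.eq_top_of_card_eq Fm (hFd.trans (by rw [hU]; norm_num))]; trivial
      rw [one_smul]; exact this
  obtain ⟨m, hm, hm1⟩ : ∃ m ∈ K.N, m ≠ 1 := by
    by_contra hc
    push Not at hc
    exact K.ne ((Subgroup.eq_bot_iff_forall _).mpr hc)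
  have hinvh : h⁻¹ = h := inv_eq_of_mul_eq_one_right hh2
  set m' := h * m * h⁻¹ with hm'
  have hm'N : m' ∈ K.N := K.norm h hh m hm
  by_contra hh1
  by_cases hp : m * m' = 1
  · -- the involution inverts `m`
    have hinj : Function.Injective fun p : fixA h × fixA h =>
        (p.1 : Additive S.U) + m • (p.2 : Additive S.U) := by
      have key : ∀ u w : Additive S.U, h • u = u → h • w = w → u = m • w → w = 0 := by
        intro u w hu hw huw
        have h1 : m' • w = u := by
          rw [hm', mul_smul, mul_smul, hinvh, hw, ← huw, hu]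
        have h2 : m • u = w := by rw [← h1, ← mul_smul, hp, one_smul]
        refine hfpf (m * m) (K.N.mul_mem hm hm) (fun e => hm1 ?_) w (by rw [mul_smul, ← huw, h2])
        have h7 : m ^ 7 = 1 := hs7 ▸ K.pow m hm
        rw [pow_succ, show m ^ 6 = (m * m) ^ 3 by rw [← sq, ← pow_mul], e, one_pow, one_mul] at h7
        exact h7
      rintro ⟨a, b⟩ ⟨a', b'⟩ e
      simp only at e
      have hab : (a : Additive S.U) - a' = m • ((b' : Additive S.U) - b) := by
        rw [smul_sub, sub_eq_sub_iff_add_eq_add, e, add_comm]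
      have hb0 := key _ _ (mem_fixA.mp ((fixA h).sub_mem a.2 a'.2))
        (mem_fixA.mp ((fixA h).sub_mem b'.2 b.2)) hab
      rw [hb0, smul_zero, sub_eq_zero] at hab
      exact Prod.ext (Subtype.ext hab) (Subtype.ext (sub_eq_zero.mp hb0).symm)
    have := Nat.card_le_card_of_injective _ hinj
    rw [Nat.card_prod, hU] at this
    have := Nat.mul_le_mul h16 h16
    omega
  · -- a nontrivial element of `N` commutes with the involution
    set p := m * m' with hp'
    have hpN : p ∈ K.N := K.N.mul_mem hm hm'N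
    have hcomm : h * p = p * h := by
      have h1 : h * p * h⁻¹ = m' * m := by
        rw [hp', hm', hinvh]
        calc h * (m * (h * m * h)) * h = (h * m * h) * m * (h * h) := by group
          _ = _ := by rw [hh2, mul_one]
      rw [K.comm m' hm'N m hm, ← hp'] at h1
      exact mul_inv_eq_iff_eq_mul.mp h1
    have hinv : ∀ a : Subgroup.zpowers p, ∀ u ∈ fixA h, (a : Aut (Additive S.U)) • u ∈ fixA h := by
      intro a u hu
      obtain ⟨j, hj⟩ := Subgroup.mem_zpowers_iff.mp a.2
      show h • (a : Aut (Additive S.U)) • u = (a : Aut (Additive S.U)) • u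
      rw [← hj, ← mul_smul, ((show Commute h p from hcomm).zpow_right j).eq, mul_smul, mem_fixA.mp hu]
    letI : MulAction (Subgroup.zpowers p) (fixA h) :=
      { smul := fun a u => ⟨(a : Aut (Additive S.U)) • (u : Additive S.U), hinv a u u.2⟩
        one_smul := fun u => Subtype.ext (one_smul _ (u : Additive S.U))
        mul_smul := fun a b u => Subtype.ext (mul_smul (a : Aut (Additive S.U)) b (u : Additive S.U)) }
    have hpg : IsPGroup 7 (Subgroup.zpowers p) := fun a => ⟨1, Subtype.ext (by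
      rw [pow_one, Subgroup.coe_pow, OneMemClass.coe_one, ← hs7]
      exact K.pow _ (Subgroup.zpowers_le.mpr hpN a.2))⟩
    have hmod : 7 ∣ Nat.card (fixA h) - 1 :=
      dvd_card_sub_one (by norm_num) hpg (0 : fixA h) fun u =>
        ⟨fun h' => Subtype.ext (hfpf p hpN hp u
          (congrArg Subtype.val (h' ⟨p, Subgroup.mem_zpowers p⟩))),
          fun h' a => h' ▸ Subtype.ext (smul_zero (a : Aut (Additive S.U)))⟩
    have hdvd : Nat.card (fixA h) ∣ 2 ^ 6 := by
      have := AddSubgroup.card_addSubgroup_dvd_card (fixA h)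
      rwa [hU] at this
    obtain ⟨d, hd, hFd⟩ := (Nat.dvd_prime_pow Nat.prime_two).mp hdvd
    rw [hFd] at hmod h16
    obtain rfl : d = 6 := by
      interval_cases d <;> first | omega | (revert hmod h16; norm_num)
    refine hh1 (aut_ext fun z => ?_)
    have : z ∈ fixA h := by
      rw [AddSubgroup.eq_top_of_card_eq (fixA h) (hFd.trans (by rw [hU]; norm_num))]; trivial
    rw [one_smul]; exact this

end CfsgLib.SolvBase.SmallOrth
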