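import Cfsg.Agent.SolvBase.Count
import Cfsg.Agent.SolvBase.SmallOrth

/-!
Two scalars and four classes modulo the orthogonal with a nonsplit part: impossible.
-/

set_option autoImplicit false
set_option linter.style.haveILetI false
set_option linter.unusedSectionVars false

universe u

namespace CfsgLib.SolvBase

open OddBase

variable {V : Type u} [AddCommGroup V] [Finite V] [Nontrivial V] {S : Setup (Aut V)} {F : Frame S}

/-- No groups of order prime to three have this shape. -/
theorem no_two (hsol : Group.IsSolvable S.A) (hcop : ¬ 3 ∣ Nat.card S.A) (hN : Nat.card S.A0 = 2)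
    (hf : Fpf S) (W : Witness F) (hDX : ¬ F.D ≤ F.X) (hQ : Nat.card (S.U ⧸ F.D) = 4) : False := by
  classical
  have hU2 : ∀ u : S.U, u * u = 1 := fun u => by rw [← sq]; exact sq_eq_one_of_small (Or.inl hN) u
  have hX4 : Nat.card F.X = 4 := (card_X F).trans hQ
  have hXD := F.X_le_D hf
  have hU : Nat.card S.U = 4 * Nat.card F.D := by rw [card_U F, hQ]
  have hD16 : Nat.card F.D = 16 := by
    have h1 : Nat.card F.X ∣ Nat.card F.D := Subgroup.card_dvd_of_le hXD
    have h2 := card_D_le (Or.inl hN) W
    have h3 : Nat.card F.D ≠ 4 := fun e =>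
      hDX (Subgroup.eq_of_le_of_card_ge hXD (by rw [e, hX4])).ge
    obtain ⟨t, ht⟩ := S.isSquare_card
    rw [hX4] at h1 h2
    obtain ⟨j, hj⟩ := h1
    rw [hU, hj] at ht
    have hj4 : j ≤ 4 := by omega
    have hD0 : 0 < Nat.card F.D := Nat.card_pos
    have ht8 : t ≤ 8 := by
      by_contra h
      have := Nat.mul_le_mul (show 9 ≤ t by omega) (show 9 ≤ t by omega)
      omega
    interval_cases j <;> interval_cases t <;> omega
  -- the quadratic value
  have hAset : ∀ a : S.A0, a * a = 1 := fun a => by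
    have := pow_card_eq_one' (G := S.A0) (x := a)
    rwa [hN, sq] at this
  have hsq : ∀ e : S.E, ∀ a : Aut V, a ∈ S.A0 → ∀ e' : S.E, (e' : Aut V) = e * a → e' * e' = e * e := by
    intro e a ha e' he'
    refine Subtype.ext ?_
    rw [Subgroup.coe_mul, Subgroup.coe_mul, he']
    calc (e : Aut V) * a * ((e : Aut V) * a) = (e : Aut V) * (a * (e : Aut V)) * a := by group
      _ = (e : Aut V) * ((e : Aut V) * a) * a := by rw [S.cen _ (S.e_le e.2) a ha]
      _ = (e : Aut V) * e * ((⟨a, ha⟩ * ⟨a, ha⟩ : S.A0) : Aut V) := by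
          rw [Subgroup.coe_mul]; group
      _ = _ := by rw [hAset, OneMemClass.coe_one, mul_one]
  have hwell : ∀ e e' : S.E, cl S e = cl S e' → e' * e' = e * e := fun e e' h =>
    hsq e ((e : Aut V)⁻¹ * e') ((cl_eq_one S (e := e⁻¹ * e')).mp (by
      rw [map_mul, map_inv, h, inv_mul_cancel])) e' (by group)
  let Q : S.U → Prop := fun u => Additive.ofMul u ∈ SmallOrth.sing S
  have hQiff : ∀ e : S.E, Q (cl S e) ↔ e * e = 1 :=
    fun e => ⟨fun ⟨e', he', h'⟩ => by rw [← h']; exact hwell e' e he', fun h => ⟨e, rfl, h⟩⟩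
  have h2A : 2 ∣ Nat.card S.A0 := dvd_of_eq hN.symm
  have hflip : ∀ u x : S.U, x ∈ F.X → S.beta x u ≠ 1 → (Q (u * x) ↔ ¬ Q u) := by
    intro u x hx hne
    obtain ⟨e, rfl⟩ := cl_surjective S u
    obtain ⟨k, hk, rfl⟩ := hx
    have hkk : (k : Aut V) * k = 1 :=
      F.eq_one_of_mem_A0 hf (F.K.mul_mem hk hk) ((cl_eq_one S (e := k * k)).mp (by rw [map_mul, hU2]))
    set d := S.beta (cl S k) (cl S e) with hd
    have hke : (k : Aut V) * e = (d : Aut V) * (e * k) := by
      rw [hd, beta_cl, commutatorElement_def]; group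
    have hprod : ((e * k * (e * k) : S.E) : Aut V) = (d : Aut V) * ((e : Aut V) * e) := by
      simp only [Subgroup.coe_mul]
      calc (e : Aut V) * k * ((e : Aut V) * k) = (e : Aut V) * ((k : Aut V) * e) * k := by group
        _ = ((e : Aut V) * d) * e * ((k : Aut V) * k) := by rw [hke]; group
        _ = _ := by rw [S.cen _ (S.e_le e.2) _ d.2, hkk, mul_one]; group
    have hsqA : (e : Aut V) * e ∈ S.A0 := (cl_eq_one S (e := e * e)).mp (by rw [map_mul, hU2])
    have huniq : ∀ a : S.A0, a ≠ 1 → a = d := by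
      intro a ha
      obtain ⟨y, z, -, huniv⟩ := Nat.card_eq_two_iff.mp hN
      have hmem : ∀ a : S.A0, a = y ∨ a = z := fun a => by
        have : a ∈ ({y, z} : Set S.A0) := huniv ▸ Set.mem_univ a
        simpa using this
      rcases hmem 1 with h | h <;> rcases hmem a with h' | h' <;> rcases hmem d with h'' | h'' <;>
        simp_all
    rw [← map_mul, hQiff, hQiff]
    constructor
    · intro h h'
      rw [← Subgroup.coe_mul, h', OneMemClass.coe_one, mul_one, h, OneMemClass.coe_one] at hprod
      exact hne (Subtype.ext hprod.symm)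
    · intro h
      have := huniq ⟨_, hsqA⟩ fun h' =>
        h (Subtype.ext (show (e : Aut V) * e = 1 from congrArg Subtype.val h'))
      refine Subtype.ext ?_
      rw [hprod, OneMemClass.coe_one, show ((e : Aut V) * e) = (d : Aut V) from congrArg Subtype.val this,
        ← Subgroup.coe_mul, hAset, OneMemClass.coe_one]
  -- inside `D`
  have hin : ∀ u : S.U, u ∈ F.D → (Q u ↔ u ∈ F.X) := by
    intro u hu
    constructor
    · intro h
      obtain ⟨e, rfl⟩ := cl_surjective S u
      refine F.eigen hf Nat.prime_two h2A hu ?_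
      rw [sq, ← Subgroup.coe_mul, (hQiff e).mp h, OneMemClass.coe_one]
    · rintro ⟨k, hk, rfl⟩
      exact (hQiff k).mpr (Subtype.ext (F.eq_one_of_mem_A0 hf (F.K.mul_mem hk hk)
        ((cl_eq_one S (e := k * k)).mp (by rw [map_mul, hU2]))))
  -- outside `D`
  let χ : S.U → F.X → S.A0 := fun u x => S.beta x u
  let pick : (F.X → S.A0) → F.X := fun f => if h : ∃ x, f x ≠ 1 then h.choose else 1
  have hpick : ∀ u : S.U, u ∉ F.D → S.beta (pick (χ u) : S.U) u ≠ 1 := by
    intro u hu
    have hex : ∃ x, χ u x ≠ 1 := by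
      by_contra hall
      push Not at hall
      exact hu fun y hy => beta_symm_one S (hall ⟨y, hy⟩)
    simp only [pick, dif_pos hex]
    exact hex.choose_spec
  let φ : S.U → S.U := fun u => u * pick (χ u)
  have hχ : ∀ u, χ (φ u) = χ u := fun u => funext fun x => by
    show S.beta (x : S.U) (u * pick (χ u)) = _
    rw [map_mul, show S.beta (x : S.U) (pick (χ u) : S.U) = 1 from
      beta_symm_one S (hXD (pick (χ u)).2 _ x.2), mul_one]
  have hφφ : ∀ u, φ (φ u) = u := fun u => by
    show φ u * _ = u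
    rw [hχ, mul_assoc, hU2, mul_one]
  have hφD : ∀ u, u ∉ F.D → φ u ∉ F.D := fun u hu h => hu (by
    have := F.D.mul_mem h (hXD (pick (χ u)).2)
    rwa [show φ u * pick (χ u) = u by rw [mul_assoc, hU2, mul_one]] at this)
  haveI : Fintype S.U := Fintype.ofFinite _
  set O := Finset.univ.filter fun u : S.U => u ∉ F.D
  have hO : O.card = 48 := by
    have h1 := Finset.card_filter_add_card_filter_not (s := (Finset.univ : Finset S.U)) (fun u => u ∈ F.D)
    rw [Finset.card_univ, ← Nat.card_eq_fintype_card, hU, hD16] at h1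
    have h2 : (Finset.univ.filter fun u : S.U => u ∈ F.D).card = 16 := by
      rw [← Fintype.card_subtype, ← Nat.card_eq_fintype_card]
      exact hD16
    show (Finset.univ.filter fun u : S.U => ¬ u ∈ F.D).card = 48
    omega
  have hbal : (O.filter Q).card = (O.filter fun u => ¬ Q u).card := by
    refine Finset.card_nbij' φ φ ?_ ?_ (fun u _ => hφφ u) (fun u _ => hφφ u)
    · intro u hu
      rw [Finset.mem_coe, Finset.mem_filter, Finset.mem_filter] at hu ⊢
      exact ⟨⟨Finset.mem_univ _, hφD u hu.1.2⟩,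
        fun h => (hflip u _ (pick _).2 (hpick u hu.1.2)).mp h hu.2⟩
    · intro u hu
      rw [Finset.mem_coe, Finset.mem_filter, Finset.mem_filter] at hu ⊢
      exact ⟨⟨Finset.mem_univ _, hφD u hu.1.2⟩, (hflip u _ (pick _).2 (hpick u hu.1.2)).mpr hu.2⟩
  have hsum := Finset.card_filter_add_card_filter_not (s := O) Q
  have hin4 : (Finset.univ.filter fun u : S.U => u ∈ F.D ∧ Q u).card = 4 := by
    rw [Finset.filter_congr (q := fun u => u ∈ F.X) (fun u _ =>
      ⟨fun h => (hin u h.1).mp h.2, fun h => ⟨hXD h, (hin u (hXD h)).mpr h⟩⟩),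
      ← Fintype.card_subtype, ← Nat.card_eq_fintype_card]
    exact hX4
  have h28 : Nat.card (SmallOrth.sing S) = 28 := by
    have e : SmallOrth.sing S ≃ {u : S.U // Q u} :=
      { toFun := fun z => ⟨Additive.toMul (z : Additive S.U), z.2⟩
        invFun := fun u => ⟨Additive.ofMul u.1, u.2⟩
        left_inv := fun _ => rfl
        right_inv := fun _ => rfl }
    rw [Nat.card_congr e, Nat.card_eq_fintype_card, Fintype.card_subtype]
    have h1 := Finset.card_filter_add_card_filter_not
      (s := Finset.univ.filter fun u : S.U => Q u) (fun u => u ∈ F.D)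
    rw [Finset.filter_filter, Finset.filter_filter] at h1
    have e1 : (Finset.univ.filter fun u : S.U => Q u ∧ u ∈ F.D).card = 4 := by
      rw [← hin4]; exact congrArg _ (Finset.filter_congr fun u _ => and_comm)
    have e2 : (Finset.univ.filter fun u : S.U => Q u ∧ ¬ u ∈ F.D).card = (O.filter Q).card := by
      rw [Finset.filter_filter]; exact congrArg _ (Finset.filter_congr fun u _ => and_comm)
    omega
  exact SmallOrth.no_sixty_four hsol hcop (by rw [hU, hD16]) h28

end CfsgLib.SolvBase
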