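import Cfsg.Agent.SolvBase.SmallSym
import Cfsg.Agent.SolvBase.SmallOrth
import Cfsg.Agent.OddBase.BlockPair

/-!
Pairs for small symplectic types over fields with three, five or nine elements.
-/

set_option autoImplicit false
set_option linter.style.haveILetI false
set_option linter.unusedSectionVars false

universe u

namespace CfsgLib.SolvBase.SmallModel

open OddBase

lemma labCode_mul (q : ℕ) (hq : q = 3 ∨ q = 5 ∨ q = 9) :
    ∀ a < q, ∀ b < q, ∀ c < q, ∀ k < q, k ≠ 0 →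
      labCode q (mulK q k a) (mulK q k b) (mulK q k c) = labCode q a b c := by
  rcases hq with rfl | rfl | rfl <;> decide +kernel

lemma data_x : ∀ D ∈ [d33, d34, d52, d53, d54, d92, d93, d94],
    (List.range (2 ^ D.n)).any (fun i => D.xf i != 0) = true := by decide +kernel

lemma sing_count_two :
    ((Finset.range 16).filter fun c => sg 2 (c / 4) (c % 4) = false).card = 10 := by decide +kernel

variable {V : Type u} [AddCommGroup V] [Finite V] {S : Setup (Aut V)} {F : Frame S}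

lemma Lifts.rep_sq {n : ℕ} (T : Lifts F n) (c : ℕ) :
    ((T.rep c : S.E) : Aut V) * T.rep c = if sg n (c / 2 ^ n) (c % 2 ^ n) then T.c else 1 := by
  have hfs : ((prodBits T.f n (c % 2 ^ n) : S.E) : Aut V) * (prodBits T.f n (c % 2 ^ n) : S.E) = 1 := by
    rw [← Subgroup.coe_mul, ← prodBits_xor T.f_comm T.f_sq, Nat.xor_self, prodBits_zero,
      OneMemClass.coe_one]
  have hks : ((prodBits T.k n (c / 2 ^ n) : S.E) : Aut V) * (prodBits T.k n (c / 2 ^ n) : S.E) = 1 := by
    rw [← Subgroup.coe_mul, ← prodBits_xor T.k_comm T.k_sq, Nat.xor_self, prodBits_zero,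
      OneMemClass.coe_one]
  have hd : (if sg n (c / 2 ^ n) (c % 2 ^ n) then T.c else 1) ∈ S.A0 := by
    split_ifs
    · exact T.c_mem
    · exact S.A0.one_mem
  simp only [Lifts.rep, Subgroup.coe_mul]
  set P : Aut V := ((prodBits T.f n (c % 2 ^ n) : S.E) : Aut V)
  set Q : Aut V := ((prodBits T.k n (c / 2 ^ n) : S.E) : Aut V)
  set d : Aut V := if sg n (c / 2 ^ n) (c % 2 ^ n) then T.c else 1
  calc P * Q * (P * Q) = P * (Q * P) * Q := by group
    _ = P * (d * (P * Q)) * Q := by rw [T.kk_prod _ _ n le_rfl]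
    _ = (P * d) * P * (Q * Q) := by group
    _ = d * (P * P) * (Q * Q) := by rw [S.cen P (S.e_le (prodBits T.f n _).2) d hd]; group
    _ = d := by rw [hfs, hks, mul_one, mul_one]

/-- With two scalars the classes with involutory lifts are the codes with trivial quadratic value. -/
lemma card_sing {n : ℕ} (T : Lifts F n) (hA2 : Nat.card S.A0 = 2) (hc : T.c ≠ 1)
    (hU : Nat.card S.U = 2 ^ (2 * n)) :
    Nat.card (SmallOrth.sing S) =
      ((Finset.range (2 ^ (2 * n))).filter fun c => sg n (c / 2 ^ n) (c % 2 ^ n) = false).card := by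
  rw [← Nat.card_eq_finsetCard]
  refine (Nat.card_eq_of_bijective (fun c : ((Finset.range (2 ^ (2 * n))).filter
    fun c => sg n (c / 2 ^ n) (c % 2 ^ n) = false : Finset ℕ) =>
      (⟨Additive.ofMul (cl S (T.rep c)), T.rep c, rfl, Subtype.ext (by
        rw [Subgroup.coe_mul, T.rep_sq, (Finset.mem_filter.mp c.2).2]; rfl)⟩ : SmallOrth.sing S))
    ⟨fun c d h => ?_, fun ⟨z, e, he, he2⟩ => ?_⟩).symm
  · exact Subtype.ext (T.rep_inj hU (Finset.mem_range.mp (Finset.mem_filter.mp c.2).1)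
      (Finset.mem_range.mp (Finset.mem_filter.mp d.2).1)
      (Additive.ofMul.injective (congrArg Subtype.val h)))
  · obtain ⟨c, hclt, hce⟩ := T.rep_surj (cl S e)
    refine ⟨⟨c, Finset.mem_filter.mpr ⟨Finset.mem_range.mpr hclt, ?_⟩⟩, Subtype.ext ?_⟩
    · by_contra hs
      simp only [Bool.not_eq_false] at hs
      have hmem : (T.rep c : Aut V) * (e : Aut V)⁻¹ ∈ S.A0 :=
        (cl_eq_one S (e := T.rep c * e⁻¹)).mp (by rw [map_mul, map_inv, hce, mul_inv_cancel])
      set a : Aut V := (T.rep c : Aut V) * (e : Aut V)⁻¹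
      have ha2 : a * a = 1 := by
        have h := pow_card_eq_one' (G := S.A0) (x := ⟨a, hmem⟩)
        rw [hA2, sq] at h
        exact congrArg Subtype.val h
      have h1 := T.rep_sq c
      rw [hs, if_pos rfl, show (T.rep c : Aut V) = a * e by simp [a],
        show a * (e : Aut V) * (a * e) = a * ((e : Aut V) * a) * e by group,
        S.cen _ (S.e_le e.2) a hmem, show a * (a * (e : Aut V)) * e = (a * a) * ((e * e : S.E) : Aut V) by
          rw [Subgroup.coe_mul]; group, ha2, he2, OneMemClass.coe_one, mul_one] at h1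
      exact hc h1.symm
    · show Additive.ofMul (cl S (T.rep c)) = z
      rw [hce, he, ofMul_toMul]

namespace Ctx

variable {L : Type*} [Field L] [Module L V] {D : SmallData} (X : Ctx S F L D)
include X

lemma rep_zero : X.T.rep 0 = 1 := by
  simp [Lifts.rep, prodBits_zero]

lemma act_rep {g : Aut V} (hg : g ∈ S.A) (Y : X.Sym g) {c : ℕ} (hc : c < D.P) :
    S.act ⟨g, hg⟩ • Additive.ofMul (cl S (X.T.rep c)) = Additive.ofMul (cl S (X.T.rep (Y.σ c))) := by
  obtain ⟨e, he, hge⟩ := Y.σ_act c hc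
  rw [show cl S (X.T.rep c) = QuotientGroup.mk (X.T.rep c) from rfl, S.act_mk, ← he]
  exact congrArg Additive.ofMul (congrArg QuotientGroup.mk (Subtype.ext hge))

lemma σ_xor {g : Aut V} (hg : g ∈ S.A) (Y : X.Sym g) {c d : ℕ} (hc : c < D.P) (hd : d < D.P) :
    Y.σ (c ^^^ d) = Y.σ c ^^^ Y.σ d := by
  have hcd := SmallData.xor_lt hc hd
  refine X.T.rep_inj X.hU (Y.σ_lt _ hcd) (SmallData.xor_lt (Y.σ_lt _ hc) (Y.σ_lt _ hd))
    (Additive.ofMul.injective ?_)
  rw [← X.act_rep hg Y hcd, X.T.cl_rep_xor X.hU2, X.T.cl_rep_xor X.hU2, ofMul_mul, ofMul_mul,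
    smul_add, X.act_rep hg Y hc, X.act_rep hg Y hd]

lemma form_lt (c : ℕ) (u w : ℕ → ℕ) : form D.q D.n c u w < D.q := sumK_lt X.K.hq _ _

/-- The forms move by a scalar and possibly the automorphism. -/
lemma forms {g : Aut V} (Y : X.Sym g) :
    ∃ s : Bool, (s = false → ∀ l, Y.τ l = l) ∧ ∀ c < D.P, ∃ k < D.q, k ≠ 0 ∧
      ∀ u ∈ [D.xf, D.yf], ∀ w ∈ [D.xf, D.yf], form D.q D.n (Y.σ (c ^^^ Y.c0)) u w =
        mulK D.q k (if s then conjK D.q (form D.q D.n c u w) else form D.q D.n c u w) := by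
  obtain ⟨s, hs⟩ := X.K.aut Y.τ
  refine ⟨s, fun hs0 l => ?_, fun c hc => ?_⟩
  · obtain ⟨a, ha, rfl⟩ := X.K.surj l
    rw [hs a ha, hs0]; rfl
  obtain ⟨κ, hκ, hlab⟩ := Y.lab c hc
  obtain ⟨k, hk, rfl⟩ := X.K.surj κ
  refine ⟨k, hk, fun e => hκ (by rw [e, X.K.zero]), fun u hu w hw => ?_⟩
  refine X.K.inj _ (X.form_lt _ u w) _ (mulK_lt X.K.hq _ _) ?_
  rw [X.K.mul, ← hs _ (X.form_lt c u w), ← formL_coding, ← formL_coding]
  exact hlab u hu w hw

/-- The affine map of a symmetry. -/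
def labMap {g : Aut V} (hg : g ∈ S.A) (Y : X.Sym g) : SmallData.LabMap D where
  π c := Y.σ (c ^^^ Y.c0)
  lt c hc := Y.σ_lt _ (SmallData.xor_lt hc Y.c0_lt)
  aff a ha b hb c hc := by
    have hab := SmallData.xor_lt ha hb
    have hac := SmallData.xor_lt ha Y.c0_lt
    have hbc := SmallData.xor_lt hb Y.c0_lt
    have hcc := SmallData.xor_lt hc Y.c0_lt
    rw [← X.σ_xor hg Y hac hbc, ← X.σ_xor hg Y (SmallData.xor_lt hac hbc) hcc]
    congr 1
    refine Nat.eq_of_testBit_eq fun i => ?_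
    simp only [Nat.testBit_xor]
    cases a.testBit i <;> cases b.testBit i <;> cases c.testBit i <;> cases Y.c0.testBit i <;> rfl
  lab c hc := by
    obtain ⟨-, htbl, -, -⟩ := SmallData.tblOK_spec X.tbl
    rw [htbl c hc, htbl _ (Y.σ_lt _ (SmallData.xor_lt hc Y.c0_lt))]
    obtain ⟨s, -, hs⟩ := X.forms Y
    obtain ⟨k, hk, hk0, hk'⟩ := hs c hc
    simp only [SmallData.label]
    rw [hk' _ List.mem_cons_self _ List.mem_cons_self,
      hk' _ List.mem_cons_self _ (List.mem_cons_of_mem _ List.mem_cons_self),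
      hk' _ (List.mem_cons_of_mem _ List.mem_cons_self) _ (List.mem_cons_of_mem _ List.mem_cons_self)]
    cases s
    · simp only [Bool.false_eq_true, if_false]
      exact labCode_mul _ X.K.hq _ (X.form_lt _ _ _) _ (X.form_lt _ _ _) _ (X.form_lt _ _ _) k hk hk0
    · simp only [if_true]
      rw [labCode_mul _ X.K.hq _ (conjK_lt X.K.hq (X.form_lt _ _ _)) _
        (conjK_lt X.K.hq (X.form_lt _ _ _)) _ (conjK_lt X.K.hq (X.form_lt _ _ _)) k hk hk0]
      exact labCode_conj _ X.K.hq _ (X.form_lt _ _ _) _ (X.form_lt _ _ _) _ (X.form_lt _ _ _)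

omit X in
lemma zero_lt : (0 : ℕ) < D.P := Nat.two_pow_pos _

lemma σ_zero {g : Aut V} (hg : g ∈ S.A) (Y : X.Sym g) : Y.σ 0 = 0 := by
  have h := X.σ_xor hg Y (zero_lt (D := D)) (zero_lt (D := D))
  rwa [Nat.xor_self, Nat.xor_self] at h

/-- An element of `C` acting trivially on the classes and fixing both vectors is trivial. -/
lemma eq_one_of_trivial {g : Aut V} (hg : g ∈ S.A) (hgC : g ∈ S.C) (Y : X.Sym g)
    (hid : ∀ c < D.P, Y.σ c = c) (h1 : g • X.v1 = X.v1) (h2 : g • X.v2 = X.v2) : g = 1 := by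
  have hgE : g ∈ S.E := by
    have hker : (⟨g, hgC⟩ : S.C) ∈ (S.act.comp (Subgroup.inclusion S.c_le)).ker := by
      rw [MonoidHom.mem_ker]
      refine aut_ext fun v => ?_
      rw [one_smul]
      obtain ⟨z, rfl⟩ := Additive.ofMul.surjective v
      obtain ⟨c, hc, rfl⟩ := X.T.rep_surj z
      rw [MonoidHom.comp_apply, show Subgroup.inclusion S.c_le ⟨g, hgC⟩ = (⟨g, hg⟩ : S.A) from rfl,
        X.act_rep hg Y hc, hid c hc]
    rwa [S.ker_act_C, Subgroup.mem_subgroupOf] at hker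
  obtain ⟨c, hc, hce⟩ := X.T.rep_surj (cl S ⟨g, hgE⟩)
  have hmem : g * (X.T.rep c : Aut V)⁻¹ ∈ S.A0 :=
    (cl_eq_one S (e := ⟨g, hgE⟩ * (X.T.rep c)⁻¹)).mp (by rw [map_mul, map_inv, hce, mul_inv_cancel])
  obtain ⟨l, hl, hlv⟩ := X.scal _ hmem
  obtain ⟨k, hk, rfl⟩ := X.K.surj l
  have hfix : ∀ u : ℕ → ℕ, (∀ i < 2 ^ D.n, u i < D.q) →
      g • X.T.comb X.x (fun i => X.K.φ (u i)) = X.T.comb X.x (fun i => X.K.φ (u i)) →
      ∀ j < 2 ^ D.n, D.act k c u j = u j := by
    intro u hu hgu j hj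
    have hg' : g = g * (X.T.rep c : Aut V)⁻¹ * (X.T.rep c : Aut V) := by group
    rw [hg', mul_smul, hlv, X.T.rep_comb X.lin X.xW, ← X.comb_smul] at hgu
    have h := X.comb_eq hgu j hj
    refine X.K.inj _ (mulK_lt X.K.hq _ _) _ (hu j hj) ?_
    rw [X.K.mul, X.K.sgnK_eq, ← h]
    rfl
  obtain ⟨hlt, -, -, -⟩ := SmallData.tblOK_spec X.tbl
  have hst := X.stab
  simp only [SmallData.stabOK, List.all_eq_true, List.mem_range, Bool.or_eq_true, Bool.not_eq_true',
    Bool.and_eq_true, beq_iff_eq] at hst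
  have hcl : c = 0 ∧ k = 1 := by
    refine (hst c hc k hk).resolve_left fun hbad => ?_
    rw [Bool.and_eq_false_iff, List.all_eq_false, List.all_eq_false] at hbad
    rcases hbad with ⟨j, hj, hne⟩ | ⟨j, hj, hne⟩ <;> rw [List.mem_range] at hj
    · exact hne (beq_iff_eq.mpr (hfix _ (fun i hi => (hlt i hi).1) h1 j hj))
    · exact hne (beq_iff_eq.mpr (hfix _ (fun i hi => (hlt i hi).2) h2 j hj))
  obtain ⟨rfl, rfl⟩ := hcl
  rw [X.rep_zero, OneMemClass.coe_one, inv_one, mul_one] at hlv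
  exact aut_ext fun v => by rw [hlv, X.K.one, one_smul, one_smul]

/-- Pairs when the certified maps are trivial. -/
theorem hasPair_of_id (hcert : D.cert D.isId = true) (hgal : D.q = 9 → D.galOK = true) :
    HasPair S.A := by
  refine ⟨X.v1, X.v2, fun g hg h1 h2 => ?_⟩
  obtain ⟨Y⟩ := X.exists_sym hg h1 h2
  obtain ⟨-, htbl, ho, hb⟩ := SmallData.tblOK_spec X.tbl
  have hπ := SmallData.eq_id_of_cert (X.labMap hg Y) ho hb hcert
  have hπ' : ∀ c < D.P, Y.σ (c ^^^ Y.c0) = c := hπ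
  have hc0 : Y.c0 = 0 := by
    have h := hπ' Y.c0 Y.c0_lt
    rwa [Nat.xor_self, X.σ_zero hg Y, eq_comm] at h
  have hid : ∀ c < D.P, Y.σ c = c := fun c hc => by
    have h := hπ' c hc
    rwa [hc0, Nat.xor_zero] at h
  obtain ⟨s, hτ, hs⟩ := X.forms Y
  have hτid : ∀ l, Y.τ l = l := by
    intro l
    cases hsb : s with
    | false => exact hτ hsb l
    | true =>
      by_cases h9 : D.q = 9
      · exfalso
        have hg9 := hgal h9
        simp only [SmallData.galOK, List.any_eq_true, List.mem_range, bne_iff_ne] at hg9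
        obtain ⟨c, hc, hne⟩ := hg9
        obtain ⟨k, hk, hk0, hk'⟩ := hs c hc
        rw [hc0, Nat.xor_zero, hid c hc, hsb] at hk'
        refine hne ?_
        simp only [if_true] at hk'
        conv_rhs =>
          rw [hk' _ List.mem_cons_self _ List.mem_cons_self,
            hk' _ List.mem_cons_self _ (List.mem_cons_of_mem _ List.mem_cons_self),
            hk' _ (List.mem_cons_of_mem _ List.mem_cons_self) _ (List.mem_cons_of_mem _ List.mem_cons_self)]
        exact (labCode_scale _ X.K.hq _ (conjK_lt X.K.hq (X.form_lt _ _ _)) _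
          (conjK_lt X.K.hq (X.form_lt _ _ _)) _ (conjK_lt X.K.hq (X.form_lt _ _ _)) k hk hk0).symm
      · obtain ⟨s', hs'⟩ := X.K.aut Y.τ
        obtain ⟨a, ha, rfl⟩ := X.K.surj l
        rw [hs' a ha]
        cases s' <;> simp [conjK, h9]
  exact X.eq_one_of_trivial hg (Y.memC hτid) Y hid h1 h2

/-- Pairs when three is the number of scalars and the certified maps are involutions. -/
theorem hasPair_of_inv16 (hq : D.q = 3) (hn : D.n = 3) (hcert : D.cert D.isInv16 = true)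
    (hsol : Group.IsSolvable S.A) (h3 : ¬ 3 ∣ Nat.card S.A) : HasPair S.A := by
  refine ⟨X.v1, X.v2, fun g hg h1 h2 => ?_⟩
  have hAC : S.A ≤ S.C := fun a ha => by
    obtain ⟨τ, -, hC⟩ := X.semi a ha
    refine hC fun l => ?_
    obtain ⟨s, hs⟩ := X.K.aut τ
    obtain ⟨b, hb, rfl⟩ := X.K.surj l
    rw [hs b hb]
    cases s <;> simp [conjK, hq]
  obtain ⟨Y⟩ := X.exists_sym hg h1 h2
  obtain ⟨-, htbl, ho, hb⟩ := SmallData.tblOK_spec X.tbl
  obtain ⟨hinv, hfix⟩ := SmallData.inv16_of_cert (X.labMap hg Y) ho hb hcert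
  have hlin : ∀ c < D.P, (X.labMap hg Y).π c ^^^ (X.labMap hg Y).π 0 = Y.σ c := fun c hc => by
    show Y.σ (c ^^^ Y.c0) ^^^ Y.σ (0 ^^^ Y.c0) = Y.σ c
    rw [← X.σ_xor hg Y (SmallData.xor_lt hc Y.c0_lt) (SmallData.xor_lt (zero_lt (D := D)) Y.c0_lt)]
    congr 1
    rw [Nat.zero_xor, Nat.xor_assoc, Nat.xor_self, Nat.xor_zero]
  set h := S.act ⟨g, hg⟩ with hh
  have hh2 : h * h = 1 := by
    refine aut_ext fun v => ?_
    rw [one_smul, mul_smul]
    obtain ⟨z, rfl⟩ := Additive.ofMul.surjective v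
    obtain ⟨c, hc, rfl⟩ := X.T.rep_surj z
    rw [hh, X.act_rep hg Y hc, X.act_rep hg Y (Y.σ_lt c hc)]
    congr 3
    have := hinv c hc
    rw [hlin c hc, hlin _ (Y.σ_lt c hc)] at this
    exact this
  have h16 : 16 ≤ Nat.card (fixA h) := by
    refine hfix.trans ?_
    rw [← Nat.card_eq_finsetCard]
    refine Nat.card_le_card_of_injective (fun c => (⟨Additive.ofMul (cl S (X.T.rep c)), ?_⟩ : fixA h))
      fun c d e => Subtype.ext (X.T.rep_inj X.hU (Finset.mem_range.mp (Finset.mem_filter.mp c.2).1)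
        (Finset.mem_range.mp (Finset.mem_filter.mp d.2).1)
        (Additive.ofMul.injective (congrArg Subtype.val e)))
    obtain ⟨hc1, hc2⟩ := Finset.mem_filter.mp c.2
    rw [Finset.mem_range] at hc1
    rw [hlin _ hc1] at hc2
    rw [mem_fixA, hh, X.act_rep hg Y hc1, hc2]
  have hone := SmallOrth.no_involution hsol h3 hAC X.hU2 (by rw [X.hU, hn]; norm_num) ⟨_, rfl⟩ hh2 h16
  have hid : ∀ c < D.P, Y.σ c = c := fun c hc => by
    refine X.T.rep_inj X.hU (Y.σ_lt c hc) hc (Additive.ofMul.injective ?_)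
    rw [← X.act_rep hg Y hc, hone, one_smul]
  exact X.eq_one_of_trivial hg (hAC hg) Y hid h1 h2

end Ctx

end CfsgLib.SolvBase.SmallModel

namespace CfsgLib.SolvBase

open OddBase SmallModel

variable {V : Type u} [AddCommGroup V]

set_option maxHeartbeats 1000000 in
/-- Pairs for three, five or nine scalars and at most sixteen classes modulo the frame. -/
theorem small_pairs [Finite V] [Nontrivial V] (S : Setup (Aut V)) (hsol : Group.IsSolvable S.A)
    (hAn : NormSub S.A S.A0) (hC : S.C = S.A ⊓ Subgroup.centralizer (S.A0 : Set (Aut V))) (hf : Fpf S)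
    (hfull : ∀ z ∈ spanRing S.A0, z ≠ 0 → ∃ a ∈ S.A0, (a : AddMonoid.End V) = z)
    (hq : Nat.card (spanRing S.A0) = 3 ∨ Nat.card (spanRing S.A0) = 5 ∨ Nat.card (spanRing S.A0) = 9)
    (hcop : (Nat.card S.A).Coprime (Nat.card (spanRing S.A0))) (F : Frame S) (hD : F.D ≤ F.X)
    (n : ℕ) (hn : Nat.card (S.U ⧸ F.D) = 2 ^ n) (h2 : 2 ≤ n) (h4 : n ≤ 4) : HasPair S.A := by
  classical
  have hAc : ∀ a ∈ S.A0, ∀ b ∈ S.A0, a * b = b * a := fun a ha b hb =>
    S.cen a (S.e_le (S.a0_le ha)) b hb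
  have hfl : ∀ z ∈ spanRing S.A0, z ≠ 0 → ∃ y ∈ spanRing S.A0, z * y = 1 := fun z hz hz0 => by
    obtain ⟨a, ha, rfl⟩ := hfull z hz hz0
    exact ⟨_, coe_mem_spanRing (S.A0.inv_mem ha), a.mul_inv⟩
  set L := spanRing S.A0 with hLdef
  letI : Field L := fieldOf hAc hfl
  have : Fintype L := Fintype.ofFinite _
  letI : Module L V := inferInstance
  rw [Nat.card_eq_fintype_card (α := L)] at hq hcop
  obtain ⟨K⟩ := exists_coding hq
  have h2L : (2 : L) ≠ 0 := by
    intro h
    have hm1 : K.φ (negOne (Fintype.card L)) = K.φ 1 := by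
      rw [K.neg, K.one]; linear_combination -h
    have := K.inj _ (negOne_lt hq) 1 (by omega) hm1
    rcases hq with e | e | e <;> rw [e] at this <;> exact absurd this (by decide)
  have hlin : ∀ e ∈ S.C, ∀ (l : L) (v : V), e • (l • v) = l • (e • v) :=
    fun e he l v => DFunLike.congr_fun (comm_spanRing (S.cen e he) l.2) v
  have hA0 : Nat.card S.A0 + 1 = Fintype.card L := by
    have hne : ∀ a : S.A0, toRing S.A0 a ≠ 0 := fun a h => by
      have h1 : toRing S.A0 a * toRing S.A0 a⁻¹ = 1 := by rw [← map_mul, mul_inv_cancel, map_one]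
      rw [h, zero_mul] at h1
      exact zero_ne_one h1
    have hb : Function.Bijective fun a : S.A0 => (⟨toRing S.A0 a, hne a⟩ : {z : L // z ≠ 0}) := by
      refine ⟨fun a b h => toRing_injective _ (congrArg Subtype.val h), fun ⟨z, hz⟩ => ?_⟩
      obtain ⟨a, ha, hae⟩ := hfull z z.2 fun e => hz (Subtype.ext e)
      exact ⟨⟨a, ha⟩, Subtype.ext (Subtype.ext hae)⟩
    rw [Nat.card_eq_of_bijective _ hb, Nat.card_eq_fintype_card, Fintype.card_subtype_compl,
      Fintype.card_subtype_eq]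
    have := Fintype.card_pos (α := L)
    omega
  have hneg : ∃ c ∈ S.A0, ∀ v : V, c • v = -v := by
    obtain ⟨a, ha, hae⟩ := hfull ((-1 : L) : AddMonoid.End V) (-1 : L).2
      (fun e => neg_ne_zero.mpr one_ne_zero (Subtype.ext e : (-1 : L) = 0))
    refine ⟨a, ha, fun v => ?_⟩
    show (a : AddMonoid.End V) v = -v
    rw [hae]; rfl
  have hi : Fintype.card L ≠ 3 → ∃ t ∈ S.A0, ∀ v : V, (t * t) • v = -v := by
    intro h3
    obtain ⟨i, hi⟩ := (FiniteField.isSquare_neg_one_iff (F := L)).mpr (by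
      rcases hq with h | h | h
      · exact absurd h h3
      all_goals rw [h]; decide)
    have hi0 : i ≠ 0 := fun e => by
      rw [e, mul_zero] at hi
      exact neg_ne_zero.mpr one_ne_zero hi
    obtain ⟨t, ht, hte⟩ := hfull (i : AddMonoid.End V) i.2 fun e => hi0 (Subtype.ext e)
    refine ⟨t, ht, fun v => ?_⟩
    show ((t * t : Aut V) : AddMonoid.End V) v = -v
    rw [Units.val_mul, hte, ← Subring.coe_mul, ← hi]; rfl
  obtain ⟨⟨T⟩, hU2, hXc⟩ := exists_lifts hf F hD hq hA0 hneg hi n hn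
  have hDX : F.D = F.X := le_antisymm hD (F.X_le_D hf)
  have hU : Nat.card S.U = 2 ^ (2 * n) := by
    rw [Subgroup.card_eq_card_quotient_mul_card_subgroup F.D, hn, hDX, hXc, ← pow_add, two_mul]
  have hsemi : ∀ g ∈ S.A, ∃ τ : L ≃+* L, (∀ (l : L) (v : V), g • (l • v) = τ l • (g • v)) ∧
      ((∀ l, τ l = l) → g ∈ S.C) := by
    intro g hg
    refine ⟨{ toFun := fun x => ⟨cj g x, spanRing_cj hAn hg x.2⟩
              invFun := fun x => ⟨cj g⁻¹ x, spanRing_cj hAn (S.A.inv_mem hg) x.2⟩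
              left_inv := fun x => Subtype.ext (by simp [cj_cj])
              right_inv := fun x => Subtype.ext (by simp [cj_cj])
              map_mul' := fun x y => Subtype.ext (map_mul (cj g) (x : AddMonoid.End V) y)
              map_add' := fun x y => Subtype.ext (map_add (cj g) (x : AddMonoid.End V) y) },
      fun l v => (cj_apply_smul g (l : AddMonoid.End V) v).symm, fun h => ?_⟩
    rw [hC]
    refine ⟨hg, Subgroup.mem_centralizer_iff.mpr fun a ha => ?_⟩
    have h1 := congrArg (fun z : L => (z : AddMonoid.End V)) (h ⟨_, coe_mem_spanRing ha⟩)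
    change cj g (a : AddMonoid.End V) = (a : AddMonoid.End V) at h1
    rw [cj_coe] at h1
    exact (mul_inv_eq_iff_eq_mul.mp (Units.ext h1)).symm
  have hscal : ∀ a ∈ S.A0, ∃ l : L, l ≠ 0 ∧ ∀ v : V, a • v = l • v := fun a ha =>
    ⟨⟨_, coe_mem_spanRing ha⟩, fun e => by
      obtain ⟨v, hv⟩ := exists_ne (0 : V)
      exact hv ((smul_eq_zero_iff_eq a).mp (DFunLike.congr_fun (congrArg Subtype.val e) v)),
      fun v => rfl⟩
  obtain ⟨x, hx0, hxW⟩ := F.wit
  have main : ∀ (D : SmallData), Fintype.card L = D.q → n = D.n → D.tblOK = true → D.stabOK = true →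
      (List.range (2 ^ D.n)).any (fun i => D.xf i != 0) = true → Nonempty (Ctx S F L D) := by
    intro D hDq hDn ht hs hnz
    subst hDn
    simp only [List.any_eq_true, List.mem_range, bne_iff_ne] at hnz
    exact ⟨⟨T, hDq ▸ K, x, hxW, hx0, h2L, hlin, hsemi, hscal, hf, hDX, hn, hU, hU2, ht, hs, hnz⟩⟩
  obtain ⟨h33, h34, h52, h53, h54, h92, h93, h94⟩ :
      (d33.tblOK = true ∧ d33.stabOK = true ∧ d33.cert d33.isInv16 = true) ∧
      (d34.tblOK = true ∧ d34.stabOK = true ∧ d34.cert d34.isId = true) ∧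
      (d52.tblOK = true ∧ d52.stabOK = true ∧ d52.cert d52.isId = true) ∧
      (d53.tblOK = true ∧ d53.stabOK = true ∧ d53.cert d53.isId = true) ∧
      (d54.tblOK = true ∧ d54.stabOK = true ∧ d54.cert d54.isId = true) ∧
      (d92.tblOK = true ∧ d92.stabOK = true ∧ d92.cert d92.isId = true ∧ d92.galOK = true) ∧
      (d93.tblOK = true ∧ d93.stabOK = true ∧ d93.cert d93.isId = true ∧ d93.galOK = true) ∧
      (d94.tblOK = true ∧ d94.stabOK = true ∧ d94.cert d94.isId = true ∧ d94.galOK = true) := by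
    have h := data_ok
    simp only [Bool.and_eq_true] at h
    obtain ⟨⟨⟨⟨⟨⟨⟨a, b⟩, c⟩, d⟩, e⟩, f⟩, g⟩, i⟩ := h
    have i := of_decide_eq_true i
    exact ⟨⟨a.1.1, a.1.2, a.2⟩, ⟨b.1.1, b.1.2, b.2⟩, ⟨c.1.1, c.1.2, c.2⟩, ⟨d.1.1, d.1.2, d.2⟩,
      ⟨e.1.1, e.1.2, e.2⟩, ⟨f.1.1.1, f.1.1.2, f.1.2, f.2⟩, ⟨g.1.1.1, g.1.1.2, g.1.2, g.2⟩,
      ⟨i.1.1.1, i.1.1.2, i.1.2, i.2⟩⟩
  have hx : ∀ D ∈ [d33, d34, d52, d53, d54, d92, d93, d94], _ := data_x
  rcases hq with h | h | h
  · -- three scalars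
    have h3 : ¬ 3 ∣ Nat.card S.A := fun hd => by
      rw [h] at hcop
      exact absurd (Nat.eq_one_of_dvd_coprimes hcop hd dvd_rfl) (by norm_num)
    interval_cases n
    · exfalso
      have hc1 : T.c ≠ 1 := fun e => by
        have h1 := T.c_neg x
        rw [e, one_smul, eq_neg_iff_add_eq_zero, ← two_smul L] at h1
        exact hx0 ((smul_eq_zero.mp h1).resolve_left h2L)
      refine SmallOrth.no_sixteen hsol h3 (by rw [hU]; norm_num) ?_
      rw [card_sing T (by omega) hc1 hU]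
      exact sing_count_two
    · obtain ⟨X⟩ := main d33 h rfl h33.1 h33.2.1 (hx _ (by simp))
      exact X.hasPair_of_inv16 rfl rfl h33.2.2 hsol h3
    · obtain ⟨X⟩ := main d34 h rfl h34.1 h34.2.1 (hx _ (by simp))
      exact X.hasPair_of_id h34.2.2 fun e => absurd e (by decide)
  · interval_cases n
    · obtain ⟨X⟩ := main d52 h rfl h52.1 h52.2.1 (hx _ (by simp))
      exact X.hasPair_of_id h52.2.2 fun e => absurd e (by decide)
    · obtain ⟨X⟩ := main d53 h rfl h53.1 h53.2.1 (hx _ (by simp))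
      exact X.hasPair_of_id h53.2.2 fun e => absurd e (by decide)
    · obtain ⟨X⟩ := main d54 h rfl h54.1 h54.2.1 (hx _ (by simp))
      exact X.hasPair_of_id h54.2.2 fun e => absurd e (by decide)
  · interval_cases n
    · obtain ⟨X⟩ := main d92 h rfl h92.1 h92.2.1 (hx _ (by simp))
      exact X.hasPair_of_id h92.2.2.1 fun _ => h92.2.2.2
    · obtain ⟨X⟩ := main d93 h rfl h93.1 h93.2.1 (hx _ (by simp))
      exact X.hasPair_of_id h93.2.2.1 fun _ => h93.2.2.2
    · obtain ⟨X⟩ := main d94 h rfl h94.1 h94.2.1 (hx _ (by simp))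
      exact X.hasPair_of_id h94.2.2.1 fun _ => h94.2.2.2

end CfsgLib.SolvBase
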