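import Mathlib

/-!
Rigid coloured sets of small binary spaces, checked by a search over the images of a basis.
-/

set_option autoImplicit false
set_option linter.style.haveILetI false
set_option linter.unusedSectionVars false

namespace CfsgLib.SolvBase.Certificate

/-- The image of a mask under the linear map with given images of the unit masks. -/
def img : List ℕ → ℕ → ℕ
  | [], _ => 0
  | a :: l, b => (if b % 2 = 1 then a else 0) ^^^ img l (b / 2)

lemma img_zero : ∀ s : List ℕ, img s 0 = 0
  | [] => rfl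
  | a :: l => by simp [img, img_zero l]

lemma img_take : ∀ (s : List ℕ) (k b : ℕ), b < 2 ^ k → img (s.take k) b = img s b
  | [], k, b, _ => by simp
  | a :: l, 0, b, h => by
    obtain rfl : b = 0 := by omega
    rw [List.take_zero, img_zero, img_zero]
  | a :: l, k + 1, b, h => by
    rw [List.take_succ_cons]
    show _ ^^^ img (l.take k) (b / 2) = _ ^^^ img l (b / 2)
    rw [img_take l k (b / 2) (by rw [pow_succ] at h; omega)]

/-- A packed value. -/
def look (w data b : ℕ) : ℕ := (data >>> (w * b)) % 2 ^ w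

/-- The difference of colours. -/
def dif (w g : ℕ) (s : List ℕ) (b : ℕ) : ℕ := look w g (img s b) ^^^ look w g b

/-- The sum of the differences over a list. -/
def difSum (w g : ℕ) (s : List ℕ) : List ℕ → ℕ
  | [] => 0
  | b :: L => dif w g s b ^^^ difSum w g s L

/-- Test of the masks added by the last image. -/
def test (B w g : ℕ) (cons : List (List ℕ)) (s : List ℕ) : Bool :=
  ((List.range (2 ^ (s.length - 1))).all fun j =>
      let b := 2 ^ (s.length - 1) + j
      (img s b != 0) && (look 1 B (img s b) == look 1 B b)) &&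
    cons.all fun L => !(L.all fun b => b < 2 ^ s.length) || difSum w g s L == 0

/-- Lists of images passing the test. -/
def search (ok : List ℕ → Bool) (cand : List (List ℕ)) : ℕ → List (List ℕ)
  | 0 => [[]]
  | k + 1 => ((search ok cand k).flatMap fun s => (cand.getD k []).map fun c => s ++ [c]).filter ok

lemma mem_search (ok : List ℕ → Bool) (cand : List (List ℕ)) :
    ∀ (k : ℕ) (s : List ℕ), s.length = k → (∀ i (h : i < s.length), s[i] ∈ cand.getD i []) →
      (∀ j, 0 < j → j ≤ k → ok (s.take j) = true) → s ∈ search ok cand k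
  | 0, s, h, _, _ => by simp [search, List.length_eq_zero_iff.mp h]
  | k + 1, s, h, hc, hok => by
    have hs : s = s.take k ++ [s[k]] := by
      rw [List.take_append_getElem, List.take_of_length_le (by omega)]
    rw [search, List.mem_filter]
    refine ⟨List.mem_flatMap.mpr ⟨s.take k, mem_search ok cand k _ (by simp; omega)
      (fun i hi => by rw [List.getElem_take]; exact hc i (by simp at hi; omega)) (fun j hj hjk => ?_),
      List.mem_map.mpr ⟨s[k], hc k (by omega), hs.symm⟩⟩, ?_⟩
    · rw [List.take_take, min_eq_left hjk]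
      exact hok j hj (by omega)
    · have := hok (k + 1) (Nat.succ_pos k) le_rfl
      rwa [List.take_of_length_le (by omega)] at this

lemma difSum_take (w g : ℕ) (s : List ℕ) (k : ℕ) :
    ∀ L : List ℕ, (∀ b ∈ L, b < 2 ^ k) → difSum w g (s.take k) L = difSum w g s L
  | [], _ => rfl
  | b :: L, h => by
    rw [difSum, difSum, difSum_take w g s k L fun c hc => h c (List.mem_cons_of_mem _ hc), dif, dif,
      img_take s k b (h b List.mem_cons_self)]

/-- A search with one result gives rigidity. -/
theorem rigid_of_search {n B w g : ℕ} {cons cand : List (List ℕ)} {id' : List ℕ}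
    (h : search (test B w g cons) cand n = [id']) {s : List ℕ} (hlen : s.length = n)
    (hcand : ∀ i (h : i < s.length), s[i] ∈ cand.getD i [])
    (hne : ∀ b, 0 < b → b < 2 ^ n → img s b ≠ 0 ∧ look 1 B (img s b) = look 1 B b)
    (hcons : ∀ L ∈ cons, difSum w g s L = 0) : s = id' := by
  have hmem := mem_search (test B w g cons) cand n s hlen hcand fun j hj hjn => by
    have hl : (s.take j).length = j := by simp; omega
    rw [test, hl, Bool.and_eq_true, List.all_eq_true, List.all_eq_true]
    refine ⟨fun i hi => ?_, fun L hL => ?_⟩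
    · rw [List.mem_range] at hi
      have hlt : 2 ^ (j - 1) + i < 2 ^ j := by
        obtain ⟨j', rfl⟩ : ∃ j', j = j' + 1 := ⟨j - 1, by omega⟩
        simp only [Nat.add_sub_cancel] at hi ⊢
        rw [pow_succ]
        omega
      obtain ⟨h1, h2⟩ := hne (2 ^ (j - 1) + i) (by positivity)
        (hlt.trans_le (Nat.pow_le_pow_right (by norm_num) hjn))
      simp [img_take s j _ hlt, h1, h2]
    · by_cases hall : L.all fun b => b < 2 ^ j
      · rw [difSum_take w g s j L (by simpa using hall), hcons L hL]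
        simp
      · simp [hall]
  rw [h, List.mem_singleton] at hmem
  exact hmem

/-- The vector with a given mask. -/
def vec (n b : ℕ) : Fin n → ZMod 2 := fun i => ((b / 2 ^ i.val % 2 : ℕ) : ZMod 2)

/-- The mask of a vector. -/
def mask {n : ℕ} (v : Fin n → ZMod 2) : ℕ := ∑ i, (v i).val * 2 ^ i.val

lemma img_ofFn {N : ℕ} (hadd : ∀ v w : Fin N → ZMod 2, mask (v + w) = mask v ^^^ mask w) :
    ∀ (n : ℕ) (f : (Fin n → ZMod 2) →+ (Fin N → ZMod 2)) (b : ℕ), b < 2 ^ n →
      img (List.ofFn fun i => mask (f (Pi.single i 1))) b = mask (f (vec n b))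
  | 0, f, b, _ => by
    rw [show vec 0 b = 0 from funext fun i => i.elim0, map_zero]
    simp [img, mask]
  | n + 1, f, b, h => by
    let c : (Fin n → ZMod 2) →+ (Fin (n + 1) → ZMod 2) :=
      { toFun := fun v => Fin.cons 0 v
        map_zero' := funext fun i => by cases i using Fin.cases <;> simp
        map_add' := fun v w => funext fun i => by cases i using Fin.cases <;> simp }
    have hc : ∀ i : Fin n, c (Pi.single i 1) = Pi.single i.succ 1 := fun i => by
      funext j
      cases j using Fin.cases with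
      | zero => simp [c, (Fin.succ_ne_zero i).symm]
      | succ j =>
        show Pi.single (M := fun _ => ZMod 2) i 1 j = Pi.single (M := fun _ => ZMod 2) i.succ 1 j.succ
        simp [Pi.single_apply]
    have ih := img_ofFn hadd n (f.comp c) (b / 2) (by rw [pow_succ] at h; omega)
    simp only [AddMonoidHom.comp_apply, hc] at ih
    rw [List.ofFn_succ, img, ih]
    have hv : vec (n + 1) b = (if b % 2 = 1 then Pi.single 0 1 else 0) + c (vec n (b / 2)) := by
      funext i
      cases i using Fin.cases with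
      | zero =>
        rcases Nat.mod_two_eq_zero_or_one b with e | e <;> simp [vec, c, e]
      | succ i =>
        have e : b / 2 ^ (i.val + 1) = b / 2 / 2 ^ i.val := by
          rw [Nat.div_div_eq_div_mul, pow_succ']
        rcases Nat.mod_two_eq_zero_or_one b with e' | e' <;> simp [vec, c, e, e']
    rw [hv, map_add, hadd]
    congr 1
    split_ifs
    · rfl
    · rw [map_zero]
      simp [mask]

/-- Membership in a packed set. -/
def inSet (B : ℕ) {n : ℕ} (v : Fin n → ZMod 2) : Prop := look 1 B (mask v) = 1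

instance (B : ℕ) {n : ℕ} (v : Fin n → ZMod 2) : Decidable (inSet B v) :=
  inferInstanceAs (Decidable (_ = _))

lemma mask_add3 : ∀ v w : Fin 3 → ZMod 2, mask (v + w) = mask v ^^^ mask w := by decide +kernel

lemma mask_add4 : ∀ v w : Fin 4 → ZMod 2, mask (v + w) = mask v ^^^ mask w := by decide +kernel

lemma mask_add5 : ∀ v w : Fin 5 → ZMod 2, mask (v + w) = mask v ^^^ mask w := by decide +kernel

/-- The number of coloured translates inside the set. -/
def prof (B : ℕ) {n : ℕ} (v : Fin n → ZMod 2) : ℕ :=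
  (Finset.univ.filter fun c : Fin n → ZMod 2 => inSet B c ∧ inSet B (v + c)).card

lemma prof_map {B n : ℕ} (φ : (Fin n → ZMod 2) ≃+ (Fin n → ZMod 2))
    (hB : ∀ v, inSet B (φ v) ↔ inSet B v) (v : Fin n → ZMod 2) : prof B (φ v) = prof B v := by
  symm
  refine Finset.card_bij (fun c _ => φ c) (fun c hc => ?_) (fun a _ b _ e => φ.injective e)
    (fun d hd => ?_)
  · simp only [Finset.mem_filter, Finset.mem_univ, true_and] at hc ⊢
    rw [← map_add, hB, hB]
    exact hc
  · simp only [Finset.mem_filter, Finset.mem_univ, true_and] at hd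
    refine ⟨φ.symm d, ?_, φ.apply_symm_apply d⟩
    simp only [Finset.mem_filter, Finset.mem_univ, true_and]
    rw [← hB, ← hB (v + φ.symm d), map_add, φ.apply_symm_apply]
    exact hd

/-- Rigidity on vectors. -/
theorem rigid_vec {n B w g : ℕ} {cons cand : List (List ℕ)} {id' : List ℕ}
    (hadd : ∀ v w : Fin n → ZMod 2, mask (v + w) = mask v ^^^ mask w)
    (hcert : search (test B w g cons) cand n = [id'])
    (hid : id' = List.ofFn fun i : Fin n => mask (Pi.single (M := fun _ => ZMod 2) i 1))
    (hcandB : ∀ (i : Fin n) (v : Fin n → ZMod 2), inSet B v →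
      prof B v = prof B (Pi.single (M := fun _ => ZMod 2) i 1) → mask v ∈ cand.getD i.val [])
    (hbasis : ∀ i : Fin n, inSet B (Pi.single i 1))
    (hinj : Function.Injective (mask (n := n)))
    (hvec : ∀ b, 0 < b → b < 2 ^ n → vec n b ≠ 0 ∧ mask (vec n b) = b)
    (φ : (Fin n → ZMod 2) ≃+ (Fin n → ZMod 2)) (hB : ∀ v, inSet B (φ v) ↔ inSet B v)
    (hcons : ∀ L ∈ cons, difSum w g (List.ofFn fun i => mask (φ (Pi.single i 1))) L = 0) :
    ∀ v, φ v = v := by
  have himg : ∀ b, b < 2 ^ n →
      img (List.ofFn fun i => mask (φ (Pi.single i 1))) b = mask (φ (vec n b)) := fun b hb =>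
    img_ofFn hadd n φ.toAddMonoidHom b hb
  have hs := rigid_of_search hcert (s := List.ofFn fun i => mask (φ (Pi.single i 1))) (by simp)
    (fun i hi => by
      rw [List.getElem_ofFn]
      exact hcandB ⟨i, by simpa using hi⟩ _ ((hB _).mpr (hbasis _)) (prof_map φ hB _))
    (fun b hb0 hb => by
      obtain ⟨h0, h1⟩ := hvec b hb0 hb
      rw [himg b hb]
      refine ⟨fun h => h0 (φ.injective ((hinj (h.trans (by simp [mask]))).trans (map_zero φ).symm)),
        ?_⟩
      have h2 : inSet B (φ (vec n b)) ↔ look 1 B b = 1 := by rw [hB, inSet, h1]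
      unfold inSet at h2
      have e1 : look 1 B (mask (φ (vec n b))) < 2 := by unfold look; omega
      have e2 : look 1 B b < 2 := by unfold look; omega
      omega) hcons
  rw [hid] at hs
  have hfix : ∀ i, φ (Pi.single i 1) = Pi.single i 1 := fun i =>
    hinj (congrFun (List.ofFn_injective hs) i)
  intro v
  have hv : v = ∑ i, (v i).val • Pi.single (M := fun _ => ZMod 2) i 1 := by
    conv_lhs => rw [← Finset.univ_sum_single v]
    refine Finset.sum_congr rfl fun i _ => ?_
    rw [← Pi.single_smul, nsmul_one, ZMod.natCast_zmod_val]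
  rw [hv, map_sum]
  exact Finset.sum_congr rfl fun i _ => by rw [map_nsmul, hfix]

/-- The five-dimensional set. -/
def B5 : ℕ := 1673525118

/-- Its colours. -/
def G5 : ℕ := 10490948

/-- The quadratic relations. -/
def C5 : List (List ℕ) :=
  [[13, 5, 9, 12, 1, 4, 8], [14, 6, 10, 12, 2, 4, 8], [15, 3, 5, 9, 6, 10, 12],
    [19, 3, 17, 18, 1, 2, 16], [21, 5, 17, 20, 1, 4, 16], [23, 3, 5, 17, 6, 18, 20],
    [25, 9, 17, 24, 1, 8, 16], [29, 5, 9, 17, 12, 20, 24], [30, 6, 10, 18, 12, 20, 24]]

/-- The three-dimensional set. -/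
def B3 : ℕ := 126

/-- Its colours. -/
def G3 : ℕ := 9248

/-- The linear relations. -/
def C3 : List (List ℕ) := [[3, 1, 2], [5, 1, 4], [6, 2, 4]]

/-- The four-dimensional set. -/
def B4 : ℕ := 38782

/-- Its colours. -/
def G4 : ℕ := 2490376

/-- The linear relations. -/
def C4 : List (List ℕ) :=
  [[3, 1, 2], [5, 1, 4], [6, 2, 4], [9, 1, 8], [10, 2, 8], [12, 4, 8], [15, 1, 2, 4, 8]]

lemma search3 : search (test B3 2 G3 C3) [[1, 2, 3, 4, 5, 6], [1, 2, 3, 4, 5, 6], [1, 2, 3, 4, 5, 6]] 3 =
    [[1, 2, 4]] := by decide +kernel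

lemma search4 :
    search (test B4 2 G4 C4) [[1, 2, 4, 8, 15],
      [1, 2, 4, 8, 15],
      [1, 2, 4, 8, 15],
      [1, 2, 4, 8, 15]] 4 =
      [[1, 2, 4, 8]] := by
  decide +kernel

lemma search5 :
    search (test B5 1 G5 C5)
      [[1, 3, 4, 5, 6, 9, 10, 16, 20, 24, 13, 23],
      [2, 8, 18, 14, 15, 19, 21, 25, 30],
      [1, 3, 4, 5, 6, 9, 10, 16, 20, 24, 13, 23],
      [2, 8, 18, 14, 15, 19, 21, 25, 30],
      [1, 3, 4, 5, 6, 9, 10, 16, 20, 24, 13, 23]] 5 =
      [[1, 2, 4, 8, 16]] := by
  decide +kernel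

theorem rigid3 (φ : (Fin 3 → ZMod 2) ≃+ (Fin 3 → ZMod 2)) (hB : ∀ v, inSet B3 (φ v) ↔ inSet B3 v)
    (hcons : ∀ L ∈ C3, difSum 2 G3 (List.ofFn fun i => mask (φ (Pi.single i 1))) L = 0) :
    ∀ v, φ v = v :=
  rigid_vec mask_add3 search3 (by decide +kernel) (by decide +kernel) (by decide +kernel)
    (by decide +kernel)
    (by
      have h : ∀ b : Fin 8, 0 < b.val → vec 3 b ≠ 0 ∧ mask (vec 3 b) = b := by decide +kernel
      exact fun b h0 hb => h ⟨b, hb⟩ h0) φ hB hcons

theorem rigid4 (φ : (Fin 4 → ZMod 2) ≃+ (Fin 4 → ZMod 2)) (hB : ∀ v, inSet B4 (φ v) ↔ inSet B4 v)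
    (hcons : ∀ L ∈ C4, difSum 2 G4 (List.ofFn fun i => mask (φ (Pi.single i 1))) L = 0) :
    ∀ v, φ v = v :=
  rigid_vec mask_add4 search4 (by decide +kernel) (by decide +kernel) (by decide +kernel)
    (by decide +kernel)
    (by
      have h : ∀ b : Fin 16, 0 < b.val → vec 4 b ≠ 0 ∧ mask (vec 4 b) = b := by decide +kernel
      exact fun b h0 hb => h ⟨b, hb⟩ h0) φ hB hcons

theorem rigid5 (φ : (Fin 5 → ZMod 2) ≃+ (Fin 5 → ZMod 2)) (hB : ∀ v, inSet B5 (φ v) ↔ inSet B5 v)
    (hcons : ∀ L ∈ C5, difSum 1 G5 (List.ofFn fun i => mask (φ (Pi.single i 1))) L = 0) :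
    ∀ v, φ v = v :=
  rigid_vec mask_add5 search5 (by decide +kernel) (by decide +kernel) (by decide +kernel)
    (by decide +kernel)
    (by
      have h : ∀ b : Fin 32, 0 < b.val → vec 5 b ≠ 0 ∧ mask (vec 5 b) = b := by decide +kernel
      exact fun b h0 hb => h ⟨b, hb⟩ h0) φ hB hcons

end CfsgLib.SolvBase.Certificate
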