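import Mathlib

/-!
A finite model of the monomial action of a symplectic type group of exponent four on `L ^ (2 ^ n)`
for `|L| ∈ {3, 5, 9}`, with vectors coded by natural numbers, and certified pairs of vectors.

A code `c < 4 ^ n` stands for the operator sending `z` to `j ↦ (-1) ^ (b · (j + a)) * z (j + a)`,
where `a = c % 2 ^ n`, `b = c / 2 ^ n` and sums of indices are bitwise.
-/

set_option autoImplicit false

namespace CfsgLib.SolvBase.SmallModel

/-- The parity of `b · i` on the first `m` bits. -/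
def sg : ℕ → ℕ → ℕ → Bool
  | 0, _, _ => false
  | m + 1, b, i => xor (sg m b i) (b.testBit m && i.testBit m)

lemma sg_xor_right (m b i j : ℕ) : sg m b (i ^^^ j) = xor (sg m b i) (sg m b j) := by
  induction m with
  | zero => rfl
  | succ m ih =>
    simp only [sg, ih, Nat.testBit_xor]
    cases sg m b i <;> cases sg m b j <;> cases b.testBit m <;> cases i.testBit m <;>
      cases j.testBit m <;> rfl

lemma sg_comm (m b i : ℕ) : sg m b i = sg m i b := by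
  induction m with
  | zero => rfl
  | succ m ih => simp only [sg, ih, Bool.and_comm]

lemma sg_xor_left (m a b i : ℕ) : sg m (a ^^^ b) i = xor (sg m a i) (sg m b i) := by
  rw [sg_comm, sg_xor_right, sg_comm m i a, sg_comm m i b]

lemma sg_zero_right (m b : ℕ) : sg m b 0 = false := by
  induction m with
  | zero => rfl
  | succ m ih => simp [sg, ih]

lemma sg_two_pow {n k : ℕ} (b : ℕ) (hk : k < n) : sg n b (2 ^ k) = b.testBit k := by
  induction n with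
  | zero => omega
  | succ m ih =>
    simp only [sg, Nat.testBit_two_pow]
    rcases Nat.lt_or_ge k m with h | h
    · simp [ih h, h.ne]
    · obtain rfl : k = m := by omega
      have h0 : ∀ j, j ≤ k → sg j b (2 ^ k) = false := by
        intro j
        induction j with
        | zero => intro _; rfl
        | succ j ihj =>
          intro hj
          simp [sg, ihj (by omega), show k ≠ j by omega]
      simp [h0 k le_rfl]

/-- Addition of coded scalars. -/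
def addK (q a b : ℕ) : ℕ :=
  if q = 9 then (a % 3 + b % 3) % 3 + 3 * ((a / 3 + b / 3) % 3) else (a + b) % q

/-- Multiplication of coded scalars; the code `a + 3 b` stands for `a + b i`. -/
def mulK (q a b : ℕ) : ℕ :=
  if q = 9 then (a % 3 * (b % 3) + 2 * (a / 3 * (b / 3))) % 3 +
      3 * ((a % 3 * (b / 3) + a / 3 * (b % 3)) % 3)
  else a * b % q

/-- The code of minus one. -/
def negOne (q : ℕ) : ℕ := if q = 9 then 2 else q - 1

/-- The automorphism `a + b i ↦ a - b i`. -/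
def conjK (q a : ℕ) : ℕ := if q = 9 then a % 3 + 3 * (2 * (a / 3) % 3) else a

/-- A signed code. -/
def sgnK (q : ℕ) (s : Bool) (a : ℕ) : ℕ := if s then mulK q (negOne q) a else a

/-- Sums of codes. -/
def sumK (q : ℕ) (f : ℕ → ℕ) : ℕ → ℕ
  | 0 => 0
  | m + 1 => addK q (sumK q f m) (f m)

/-- The bilinear form of the code `c`. -/
def form (q n c : ℕ) (u w : ℕ → ℕ) : ℕ :=
  sumK q (fun i => sgnK q (sg n (c / 2 ^ n) i) (mulK q (u i) (w (i ^^^ c % 2 ^ n)))) (2 ^ n)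

/-- The inverse of a nonzero code. -/
def invK (q a : ℕ) : ℕ := ((List.range q).find? fun k => mulK q a k == 1).getD 0

/-- A triple up to a scalar. -/
def normCode (q a b c : ℕ) : ℕ :=
  let k := if a ≠ 0 then invK q a else if b ≠ 0 then invK q b else invK q c
  (mulK q k a * q + mulK q k b) * q + mulK q k c

/-- A triple up to a scalar and an automorphism. -/
def labCode (q a b c : ℕ) : ℕ :=
  min (normCode q a b c) (normCode q (conjK q a) (conjK q b) (conjK q c))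

lemma labCode_scale (q : ℕ) (hq : q = 3 ∨ q = 5 ∨ q = 9) :
    ∀ a < q, ∀ b < q, ∀ c < q, ∀ k < q, k ≠ 0 →
      normCode q (mulK q k a) (mulK q k b) (mulK q k c) = normCode q a b c := by
  rcases hq with rfl | rfl | rfl <;> decide +kernel

lemma labCode_conj (q : ℕ) (hq : q = 3 ∨ q = 5 ∨ q = 9) :
    ∀ a < q, ∀ b < q, ∀ c < q,
      labCode q (conjK q a) (conjK q b) (conjK q c) = labCode q a b c := by
  rcases hq with rfl | rfl | rfl <;> decide +kernel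

/-- A pair of vectors with search data. -/
structure SmallData where
  q : ℕ
  n : ℕ
  x : List ℕ
  y : List ℕ
  o : ℕ
  bs : List ℕ
  tbl : List ℕ

namespace SmallData

variable (D : SmallData)

/-- The first vector. -/
def xf (i : ℕ) : ℕ := D.x.getD i 0

/-- The second vector. -/
def yf (i : ℕ) : ℕ := D.y.getD i 0

/-- The number of operators. -/
def P : ℕ := 2 ^ (2 * D.n)

/-- The label of an operator. -/
def label (c : ℕ) : ℕ :=
  labCode D.q (form D.q D.n c D.xf D.xf) (form D.q D.n c D.xf D.yf) (form D.q D.n c D.yf D.yf)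

/-- The operator `c` times the scalar `l`. -/
def act (l c : ℕ) (z : ℕ → ℕ) (j : ℕ) : ℕ :=
  mulK D.q l (sgnK D.q (sg D.n (c / 2 ^ D.n) (j ^^^ c % 2 ^ D.n)) (z (j ^^^ c % 2 ^ D.n)))

/-- Only the identity among the scaled operators fixes both vectors. -/
def stabOK : Bool :=
  (List.range D.P).all fun c => (List.range D.q).all fun l =>
    !((List.range (2 ^ D.n)).all (fun j => D.act l c D.xf j == D.xf j) &&
      (List.range (2 ^ D.n)).all (fun j => D.act l c D.yf j == D.yf j)) || (c == 0 && l == 1)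

/-- The vectors consist of codes and the table is right. -/
def tblOK : Bool :=
  (List.range (2 ^ D.n)).all (fun i => decide (D.xf i < D.q) && decide (D.yf i < D.q)) &&
    (List.range D.P).all (fun c => D.tbl.getD c 0 == D.label c) && decide (D.o < D.P) &&
    D.bs.all (fun b => decide (b < D.P))

/-- Some triple is not projectively fixed by the automorphism. -/
def galOK : Bool :=
  (List.range D.P).any fun c =>
    normCode D.q (conjK D.q (form D.q D.n c D.xf D.xf)) (conjK D.q (form D.q D.n c D.xf D.yf))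
        (conjK D.q (form D.q D.n c D.yf D.yf)) !=
      normCode D.q (form D.q D.n c D.xf D.xf) (form D.q D.n c D.xf D.yf) (form D.q D.n c D.yf D.yf)

/-- The identity. -/
def isId (lin : List (ℕ × ℕ)) : Bool := (List.range D.P).all fun c => lin.contains (c, c)

/-- An affine map whose linear part squares to the identity and fixes at least sixteen points. -/
def isInv16 (lin : List (ℕ × ℕ)) : Bool :=
  (List.range D.P).all (fun c => lin.any fun p => p.1 == c) &&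
  (List.range D.P).all fun w => !(lin.contains (0, w)) ||
    (decide (16 ≤ (List.range D.P).countP fun c => lin.contains (c, c ^^^ w)) &&
      lin.all fun p => lin.contains (p.2 ^^^ w, p.1 ^^^ w))

/-- Extend an affine map over the offsets in the list, keeping labels. -/
def srch (pred : List (ℕ × ℕ) → Bool) : List ℕ → ℕ → List (ℕ × ℕ) → Bool
  | [], _, lin => pred lin
  | b :: bs, w0, lin =>
    (List.range D.P).all fun v =>
      !(D.tbl.getD v 0 == D.tbl.getD (D.o ^^^ b) 0) ||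
        !((lin.map fun p => (p.1 ^^^ b, p.2 ^^^ (v ^^^ w0))).all
            fun p => D.tbl.getD p.2 0 == D.tbl.getD p.1 0) ||
        srch pred bs w0 (lin ++ lin.map fun p => (p.1 ^^^ b, p.2 ^^^ (v ^^^ w0)))

/-- The search from every possible image of the origin. -/
def cert (pred : List (ℕ × ℕ) → Bool) : Bool :=
  (List.range D.P).all fun w0 =>
    !(D.tbl.getD w0 0 == D.tbl.getD D.o 0) || D.srch pred D.bs w0 [(D.o, w0)]

end SmallData

namespace SmallData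

variable (D : SmallData)

/-- An affine map preserving the table. -/
structure LabMap where
  π : ℕ → ℕ
  lt : ∀ c < D.P, π c < D.P
  lab : ∀ c < D.P, D.tbl.getD (π c) 0 = D.tbl.getD c 0
  aff : ∀ a < D.P, ∀ b < D.P, ∀ c < D.P, π (a ^^^ b ^^^ c) = π a ^^^ π b ^^^ π c

variable {D}

lemma xor_lt {a b : ℕ} (ha : a < D.P) (hb : b < D.P) : a ^^^ b < D.P :=
  Nat.xor_lt_two_pow ha hb

lemma srch_sound (M : LabMap D) (pred : List (ℕ × ℕ) → Bool) (ho : D.o < D.P) :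
    ∀ (bs : List ℕ) (lin : List (ℕ × ℕ)), (∀ b ∈ bs, b < D.P) →
      (∀ p ∈ lin, p.1 < D.P ∧ p.2 = M.π p.1) → D.srch pred bs (M.π D.o) lin = true →
      ∃ lin', pred lin' = true ∧ ∀ p ∈ lin', p.1 < D.P ∧ p.2 = M.π p.1 := by
  intro bs
  induction bs with
  | nil => intro lin _ hl h; exact ⟨lin, h, hl⟩
  | cons b bs ih =>
    intro lin hbs hl h
    have hb : b < D.P := hbs b List.mem_cons_self
    have hv := M.lt _ (xor_lt ho hb)
    simp only [srch, List.all_eq_true, List.mem_range] at h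
    have h1 := h _ hv
    have hnew : ∀ p ∈ lin.map (fun p => (p.1 ^^^ b, p.2 ^^^ (M.π (D.o ^^^ b) ^^^ M.π D.o))),
        p.1 < D.P ∧ p.2 = M.π p.1 := by
      intro p' hp'
      obtain ⟨p, hp, rfl⟩ := List.mem_map.mp hp'
      obtain ⟨h3, h4⟩ := hl p hp
      refine ⟨xor_lt h3 hb, ?_⟩
      have hcb : p.1 ^^^ (D.o ^^^ b) ^^^ D.o = p.1 ^^^ b := by
        rw [Nat.xor_assoc, Nat.xor_comm D.o b, Nat.xor_assoc, Nat.xor_self, Nat.xor_zero]
      show p.2 ^^^ _ = M.π (p.1 ^^^ b)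
      rw [← hcb, M.aff _ h3 _ (xor_lt ho hb) _ ho, h4, Nat.xor_assoc]
    simp only [Bool.or_eq_true, Bool.not_eq_true', beq_eq_false_iff_ne, ne_eq,
      M.lab _ (xor_lt ho hb), not_true_eq_false, false_or] at h1
    rcases h1 with h1 | h1
    · exfalso
      rw [List.all_eq_false] at h1
      obtain ⟨p, hp, hne⟩ := h1
      obtain ⟨h3, h4⟩ := hnew p hp
      exact hne (beq_iff_eq.mpr (by rw [h4, M.lab _ h3]))
    · refine ih _ (fun c hc => hbs c (List.mem_cons_of_mem _ hc)) (fun p hp => ?_) h1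
      rcases List.mem_append.mp hp with hp | hp
      · exact hl p hp
      · exact hnew p hp

lemma tblOK_spec (h : D.tblOK = true) :
    (∀ i < 2 ^ D.n, D.xf i < D.q ∧ D.yf i < D.q) ∧ (∀ c < D.P, D.tbl.getD c 0 = D.label c) ∧
      D.o < D.P ∧ ∀ b ∈ D.bs, b < D.P := by
  simp only [tblOK, Bool.and_eq_true, List.all_eq_true, List.mem_range, beq_iff_eq,
    decide_eq_true_eq] at h
  exact ⟨h.1.1.1, h.1.1.2, h.1.2, h.2⟩

lemma cert_sound (M : LabMap D) (pred : List (ℕ × ℕ) → Bool) (ho : D.o < D.P)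
    (hb : ∀ b ∈ D.bs, b < D.P) (h : D.cert pred = true) :
    ∃ lin, pred lin = true ∧ ∀ p ∈ lin, p.1 < D.P ∧ p.2 = M.π p.1 := by
  simp only [cert, List.all_eq_true, List.mem_range] at h
  have h1 := h _ (M.lt _ ho)
  simp only [Bool.or_eq_true, Bool.not_eq_true', beq_eq_false_iff_ne, ne_eq, M.lab _ ho,
    not_true_eq_false, false_or] at h1
  refine srch_sound M pred ho D.bs _ hb (fun p hp => ?_) h1
  rw [List.mem_singleton] at hp
  subst hp
  exact ⟨ho, rfl⟩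

lemma eq_id_of_cert (M : LabMap D) (ho : D.o < D.P) (hb : ∀ b ∈ D.bs, b < D.P)
    (h : D.cert D.isId = true) : ∀ c < D.P, M.π c = c := by
  obtain ⟨lin, h1, h2⟩ := cert_sound M D.isId ho hb h
  simp only [isId, List.all_eq_true, List.mem_range, List.contains_iff_mem] at h1
  exact fun c hc => (h2 _ (h1 c hc)).2.symm

lemma inv16_of_cert (M : LabMap D) (ho : D.o < D.P) (hb : ∀ b ∈ D.bs, b < D.P)
    (h : D.cert D.isInv16 = true) :
    (∀ c < D.P, M.π (M.π c ^^^ M.π 0) ^^^ M.π 0 = c) ∧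
      16 ≤ ((Finset.range D.P).filter fun c => M.π c ^^^ M.π 0 = c).card := by
  obtain ⟨lin, h1, h2⟩ := cert_sound M D.isInv16 ho hb h
  simp only [isInv16, Bool.and_eq_true, List.all_eq_true, List.mem_range, List.any_eq_true,
    beq_iff_eq, Bool.or_eq_true, Bool.not_eq_true', decide_eq_true_eq] at h1
  obtain ⟨h3, h4⟩ := h1
  have hmem : ∀ c < D.P, (c, M.π c) ∈ lin := fun c hc => by
    obtain ⟨p, hp, hpc⟩ := h3 c hc
    rwa [← hpc, ← (h2 p hp).2]
  have h0 : (0 : ℕ) < D.P := Nat.two_pow_pos _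
  rcases h4 _ (M.lt 0 h0) with h5 | ⟨h5, h6⟩
  · exact absurd (List.contains_iff_mem.mpr (hmem 0 h0)) (by simpa using h5)
  refine ⟨fun c hc => ?_, h5.trans ?_⟩
  · have h7 := List.contains_iff_mem.mp (h6 _ (hmem c hc))
    have h8 := (h2 _ h7).2
    simp only at h8
    rw [← h8, Nat.xor_assoc, Nat.xor_self, Nat.xor_zero]
  · rw [List.countP_eq_length_filter,
      ← List.toFinset_card_of_nodup (List.nodup_range.filter _)]
    refine Finset.card_le_card fun c hc => ?_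
    simp only [List.mem_toFinset, List.mem_filter, List.mem_range, List.contains_iff_mem] at hc
    rw [Finset.mem_filter, Finset.mem_range]
    refine ⟨hc.1, ?_⟩
    have := (h2 _ hc.2).2
    simp only at this
    rw [← this, Nat.xor_assoc, Nat.xor_self, Nat.xor_zero]

end SmallData

/-- Data for `|L| = 3`, rank `3`. -/
def d33 : SmallData where
  q := 3
  n := 3
  x := [0, 0, 2, 2, 0, 1, 2, 2]
  y := [1, 2, 0, 2, 0, 0, 1, 2]
  o := 3
  bs := [31, 28, 62, 2, 7, 11]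
  tbl := [16, 14, 17, 13, 11, 16, 16, 11, 10, 0, 14, 3, 4, 3, 12, 3, 4, 12, 3, 3, 17, 10, 3, 0, 11, 0, 
    0, 11, 5, 3, 0, 15, 17, 3, 16, 14, 0, 3, 3, 0, 14, 3, 10, 0, 3, 4, 3, 12, 12, 4, 3, 3, 3, 0, 
    17, 10, 16, 3, 3, 16, 0, 1, 9, 3]

/-- Data for `|L| = 3`, rank `4`. -/
def d34 : SmallData where
  q := 3
  n := 4
  x := [2, 0, 1, 2, 2, 0, 1, 1, 1, 1, 1, 0, 1, 1, 0, 0]
  y := [0, 2, 2, 2, 0, 1, 0, 1, 1, 0, 2, 1, 0, 1, 0, 0]
  o := 174
  bs := [84, 167, 161, 135, 153, 149, 60, 170]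
  tbl := [12, 12, 14, 11, 4, 12, 16, 16, 17, 1, 14, 9, 15, 9, 9, 13, 3, 0, 12, 3, 4, 3, 14, 0, 14, 3, 
    11, 3, 9, 3, 12, 3, 17, 9, 3, 0, 3, 10, 0, 3, 4, 13, 3, 3, 4, 4, 0, 3, 14, 0, 0, 15, 15, 3, 
    0, 13, 0, 0, 0, 13, 4, 3, 3, 12, 12, 12, 14, 1, 3, 3, 3, 3, 11, 10, 3, 12, 0, 3, 0, 3, 9, 3, 
    11, 3, 3, 12, 3, 17, 9, 3, 16, 0, 3, 9, 3, 16, 12, 15, 0, 3, 3, 3, 16, 4, 10, 17, 3, 3, 0, 0, 
    3, 9, 17, 3, 3, 9, 0, 14, 14, 3, 16, 0, 0, 13, 0, 16, 12, 3, 10, 17, 3, 9, 14, 10, 3, 15, 3, 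
    3, 3, 3, 3, 3, 3, 3, 12, 3, 1, 3, 4, 3, 3, 0, 0, 10, 3, 12, 0, 0, 3, 10, 17, 16, 0, 0, 12, 
    12, 0, 3, 0, 3, 1, 14, 3, 0, 5, 14, 4, 3, 0, 16, 15, 3, 3, 12, 3, 3, 3, 3, 3, 14, 1, 3, 10, 
    11, 11, 9, 3, 3, 3, 3, 0, 0, 3, 3, 17, 15, 11, 11, 16, 0, 17, 3, 0, 11, 0, 3, 3, 17, 3, 12, 
    16, 0, 1, 3, 10, 14, 3, 3, 3, 3, 13, 9, 3, 0, 16, 10, 12, 16, 3, 3, 12, 3, 3, 4, 3, 15, 11, 
    3, 3, 15, 5, 3, 15, 0, 0, 14]

/-- Data for `|L| = 5`, rank `2`. -/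
def d52 : SmallData where
  q := 5
  n := 2
  x := [1, 4, 0, 4]
  y := [0, 3, 1, 2]
  o := 0
  bs := [1, 2, 4, 8]
  tbl := [28, 48, 41, 37, 27, 5, 36, 5, 49, 42, 5, 5, 34, 5, 0, 33]

/-- Data for `|L| = 5`, rank `3`. -/
def d53 : SmallData where
  q := 5
  n := 3
  x := [0, 3, 2, 1, 1, 2, 1, 0]
  y := [2, 0, 3, 3, 4, 4, 0, 3]
  o := 0
  bs := [1, 2, 5, 8, 17, 32]
  tbl := [8, 25, 32, 41, 29, 28, 46, 30, 35, 5, 43, 5, 29, 5, 5, 5, 33, 9, 5, 5, 31, 42, 5, 5, 37, 5, 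
    5, 44, 26, 0, 5, 34, 47, 1, 37, 41, 0, 5, 0, 5, 38, 5, 33, 5, 0, 27, 5, 6, 7, 45, 5, 5, 0, 0, 
    26, 49, 40, 5, 5, 39, 5, 48, 5, 5]

/-- Data for `|L| = 5`, rank `4`. -/
def d54 : SmallData where
  q := 5
  n := 4
  x := [3, 4, 3, 4, 0, 1, 2, 1, 2, 3, 0, 0, 0, 0, 2, 3]
  y := [1, 2, 0, 3, 2, 0, 4, 2, 3, 3, 2, 3, 0, 0, 0, 1]
  o := 6
  bs := [11, 46, 49, 79, 105, 169, 6, 146]
  tbl := [40, 30, 34, 32, 44, 42, 48, 34, 5, 6, 47, 27, 33, 38, 6, 5, 31, 5, 27, 0, 26, 5, 34, 5, 9, 5, 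
    27, 5, 35, 5, 9, 5, 34, 44, 5, 5, 47, 30, 5, 5, 43, 31, 5, 5, 9, 5, 5, 0, 34, 5, 5, 25, 34, 
    0, 0, 29, 41, 5, 5, 45, 44, 5, 5, 33, 25, 42, 27, 27, 5, 5, 5, 5, 31, 49, 8, 6, 5, 5, 5, 5, 
    42, 5, 37, 5, 0, 37, 5, 47, 30, 0, 31, 0, 5, 27, 5, 37, 9, 42, 5, 5, 0, 5, 34, 9, 9, 6, 5, 5, 
    5, 5, 6, 7, 42, 5, 5, 31, 5, 47, 27, 0, 1, 5, 5, 36, 5, 37, 0, 5, 1, 45, 44, 47, 30, 26, 25, 
    39, 5, 5, 5, 5, 5, 5, 5, 5, 25, 0, 25, 0, 28, 5, 41, 5, 5, 5, 0, 33, 5, 41, 5, 6, 36, 37, 5, 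
    5, 31, 37, 0, 5, 5, 5, 6, 5, 5, 5, 33, 46, 32, 5, 5, 28, 30, 0, 0, 26, 0, 27, 45, 5, 5, 44, 
    47, 5, 45, 47, 42, 47, 5, 0, 5, 5, 5, 0, 5, 5, 9, 8, 40, 33, 44, 5, 36, 5, 0, 39, 5, 45, 5, 
    41, 0, 31, 27, 5, 26, 5, 37, 1, 0, 0, 5, 5, 35, 31, 5, 5, 31, 36, 45, 25, 5, 5, 30, 5, 5, 33, 
    5, 45, 33, 5, 5, 1, 30, 5, 31, 5, 5, 1]

/-- Data for `|L| = 9`, rank `2`. -/
def d92 : SmallData where
  q := 9
  n := 2
  x := [3, 0, 5, 6]
  y := [4, 3, 4, 1]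
  o := 0
  bs := [1, 2, 4, 8]
  tbl := [86, 130, 90, 114, 100, 9, 112, 9, 120, 121, 9, 0, 133, 9, 9, 119]

/-- Data for `|L| = 9`, rank `3`. -/
def d93 : SmallData where
  q := 9
  n := 3
  x := [1, 4, 1, 0, 4, 1, 2, 1]
  y := [4, 2, 4, 5, 1, 6, 3, 4]
  o := 0
  bs := [1, 2, 5, 24, 32, 42]
  tbl := [131, 114, 128, 94, 116, 95, 104, 124, 84, 9, 129, 9, 121, 9, 132, 9, 116, 84, 9, 9, 86, 134, 
    9, 0, 109, 9, 9, 134, 129, 9, 9, 111, 118, 112, 104, 112, 9, 9, 9, 9, 85, 9, 127, 9, 9, 124, 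
    9, 133, 132, 111, 0, 9, 9, 9, 121, 85, 123, 9, 9, 123, 9, 86, 110, 9]

/-- Data for `|L| = 9`, rank `4`. -/
def d94 : SmallData where
  q := 9
  n := 4
  x := [7, 8, 3, 3, 6, 7, 6, 7, 6, 0, 5, 2, 3, 1, 8, 8]
  y := [8, 0, 2, 8, 5, 4, 5, 3, 7, 8, 5, 1, 2, 5, 6, 8]
  o := 24
  bs := [57, 74, 64, 126, 112, 99, 156, 131]
  tbl := [130, 104, 95, 12, 113, 104, 121, 85, 1, 84, 101, 103, 118, 104, 101, 111, 123, 9, 84, 9, 1, 
    9, 116, 9, 134, 0, 124, 9, 125, 9, 104, 0, 129, 83, 9, 9, 110, 90, 9, 9, 110, 118, 9, 9, 12, 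
    123, 9, 9, 91, 9, 9, 90, 115, 9, 9, 129, 125, 9, 9, 108, 103, 9, 9, 90, 91, 123, 84, 113, 9, 
    9, 9, 9, 114, 116, 9, 103, 0, 9, 9, 0, 113, 9, 81, 9, 9, 109, 9, 129, 14, 9, 93, 9, 9, 104, 
    0, 125, 12, 95, 9, 9, 9, 9, 102, 129, 100, 121, 9, 9, 9, 9, 115, 124, 95, 9, 9, 133, 9, 85, 
    125, 9, 103, 9, 9, 119, 9, 115, 94, 9, 121, 115, 95, 93, 99, 131, 113, 82, 9, 9, 9, 0, 9, 9, 
    9, 9, 108, 9, 117, 9, 108, 9, 125, 9, 9, 127, 9, 126, 9, 124, 9, 93, 128, 9, 0, 9, 95, 1, 9, 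
    0, 9, 9, 93, 117, 9, 9, 10, 94, 128, 9, 9, 101, 120, 9, 9, 129, 9, 112, 91, 9, 9, 130, 124, 
    9, 95, 115, 109, 103, 9, 9, 9, 9, 9, 9, 9, 9, 130, 111, 116, 124, 128, 0, 122, 9, 9, 12, 9, 
    112, 9, 110, 9, 130, 118, 9, 123, 9, 133, 108, 9, 0, 9, 9, 103, 13, 9, 9, 114, 129, 124, 120, 
    9, 9, 91, 9, 9, 113, 9, 109, 85, 0, 9, 108, 130, 9, 92, 9, 9, 131]

lemma data_ok :
    (d33.tblOK && d33.stabOK && d33.cert d33.isInv16) &&
    (d34.tblOK && d34.stabOK && d34.cert d34.isId) &&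
    (d52.tblOK && d52.stabOK && d52.cert d52.isId) &&
    (d53.tblOK && d53.stabOK && d53.cert d53.isId) &&
    (d54.tblOK && d54.stabOK && d54.cert d54.isId) &&
    (d92.tblOK && d92.stabOK && d92.cert d92.isId && d92.galOK) &&
    (d93.tblOK && d93.stabOK && d93.cert d93.isId && d93.galOK) &&
    (d94.tblOK && d94.stabOK && d94.cert d94.isId && d94.galOK) = true := by
  decide +kernel

end CfsgLib.SolvBase.SmallModel
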