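import Cfsg.Agent.OddBase.Prim
import Cfsg.Agent.SolvBase.Frame
import Cfsg.Agent.SolvBase.SmallModel

/-!
Involutory lifts of a symplectic basis adapted to a frame, for fields with three, five or nine
elements.
-/

set_option autoImplicit false
set_option linter.style.haveILetI false
set_option linter.unusedSectionVars false

universe u

namespace CfsgLib.SolvBase.SmallModel

open OddBase
open scoped commutatorElement

variable {V : Type u} [AddCommGroup V] {S : Setup (Aut V)}

lemma exists_code (n : ℕ) (s : ℕ → Bool) : ∃ b < 2 ^ n, ∀ i < n, b.testBit i = s i := by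
  induction n with
  | zero => exact ⟨0, Nat.two_pow_pos _, fun i hi => absurd hi (Nat.not_lt_zero _)⟩
  | succ m ih =>
    obtain ⟨b, hb, hbs⟩ := ih
    by_cases h : s m
    · refine ⟨2 ^ m + b, by rw [pow_succ]; omega, fun i hi => ?_⟩
      rcases Nat.lt_or_ge i m with h' | h'
      · rw [Nat.testBit_two_pow_add_gt h', hbs i h']
      · obtain rfl : i = m := by omega
        rw [Nat.testBit_two_pow_add_eq, Nat.testBit_eq_false_of_lt hb, h]; rfl
    · refine ⟨b, by rw [pow_succ]; omega, fun i hi => ?_⟩
      rcases Nat.lt_or_ge i m with h' | h'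
      · exact hbs i h'
      · obtain rfl : i = m := by omega
        rw [Nat.testBit_eq_false_of_lt hb]
        simpa using h

/-- The product over the bits of a code. -/
def prodBits {M : Type*} [Monoid M] (f : ℕ → M) : ℕ → ℕ → M
  | 0, _ => 1
  | m + 1, i => prodBits f m i * if i.testBit m then f m else 1

lemma map_prodBits {M N : Type*} [Monoid M] [Monoid N] (φ : M →* N) (f : ℕ → M) (m i : ℕ) :
    φ (prodBits f m i) = prodBits (fun j => φ (f j)) m i := by
  induction m with
  | zero => exact map_one φ
  | succ m ih => simp only [prodBits, map_mul, ih, apply_ite φ, map_one]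

lemma commute_prodBits {M : Type*} [Monoid M] {f : ℕ → M} {z : M} {m : ℕ}
    (h : ∀ j < m, Commute z (f j)) (i : ℕ) : Commute z (prodBits f m i) := by
  induction m with
  | zero => exact Commute.one_right z
  | succ m ih =>
    refine (ih fun j hj => h j (by omega)).mul_right ?_
    split_ifs
    · exact h m (Nat.lt_succ_self m)
    · exact Commute.one_right z

lemma prodBits_zero {M : Type*} [Monoid M] (f : ℕ → M) (m : ℕ) : prodBits f m 0 = 1 := by
  induction m with
  | zero => rfl
  | succ m ih => simp [prodBits, ih]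

lemma prodBits_xor {M : Type*} [Monoid M] {f : ℕ → M} {m : ℕ}
    (hc : ∀ i < m, ∀ j < m, Commute (f i) (f j)) (h2 : ∀ i < m, f i * f i = 1) (a b : ℕ) :
    prodBits f m (a ^^^ b) = prodBits f m a * prodBits f m b := by
  induction m with
  | zero => exact (one_mul 1).symm
  | succ m ih =>
    have h := ih (fun i hi j hj => hc i (by omega) j (by omega)) fun i hi => h2 i (by omega)
    have hz : Commute (if a.testBit m then f m else 1) (prodBits f m b) := by
      split_ifs
      · exact commute_prodBits (fun j hj => hc m (Nat.lt_succ_self m) j (by omega)) b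
      · exact Commute.one_left _
    simp only [prodBits, h, Nat.testBit_xor]
    rw [show ∀ p q r s : M, p * q * (r * s) = p * (q * r) * s from
        fun p q r s => by simp only [mul_assoc], hz.eq]
    simp only [mul_assoc]
    congr 2
    cases a.testBit m <;> cases b.testBit m <;> simp [h2 m (Nat.lt_succ_self m)]

/-- Commuting involutions of `E` lifting a basis modulo a frame, and the dual involutions. -/
structure Lifts (F : Frame S) (n : ℕ) where
  f : ℕ → S.E
  k : ℕ → S.E
  c : Aut V
  c_mem : c ∈ S.A0
  c_neg : ∀ v : V, c • v = -v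
  k_mem : ∀ i < n, (k i : Aut V) ∈ F.K
  f_sq : ∀ i < n, f i * f i = 1
  k_sq : ∀ i < n, k i * k i = 1
  f_comm : ∀ i < n, ∀ j < n, Commute (f i) (f j)
  k_comm : ∀ i < n, ∀ j < n, Commute (k i) (k j)
  kf : ∀ i < n, ∀ j < n, ((k i : S.E) : Aut V) * f j = (if i = j then c else 1) * (f j * k i)
  surj : ∀ u : S.U, ∃ a < 2 ^ n, ∃ b < 2 ^ n, u = cl S (prodBits f n a * prodBits k n b)

lemma prodBits_eq_prod {M : Type*} [CommMonoid M] (f : ℕ → M) (m i : ℕ) :
    prodBits f m i = ∏ j ∈ Finset.range m, if i.testBit j then f j else 1 := by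
  induction m with
  | zero => rfl
  | succ m ih => rw [prodBits, ih, Finset.prod_range_succ]

lemma zpow_even_exists {G : Type*} [Group G] {x y : G} (hy : ∀ z : G, ∃ i : ℤ, y ^ i = z)
    (hx : ¬ ∃ a, x = a * a) : ∃ i : ℤ, Odd i ∧ y ^ i = x := by
  obtain ⟨i, hi⟩ := hy x
  refine ⟨i, Int.not_even_iff_odd.mp ?_, hi⟩
  rintro ⟨j, rfl⟩
  exact hx ⟨y ^ j, by rw [← hi, zpow_add]⟩

variable [Finite V]

set_option maxHeartbeats 1000000 in
/-- Lifts exist. -/
theorem exists_lifts [Nontrivial V] (hf : Fpf S) (F : Frame S) (hD : F.D ≤ F.X) {q : ℕ}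
    (hq : q = 3 ∨ q = 5 ∨ q = 9) (hA0 : Nat.card S.A0 + 1 = q)
    (hneg : ∃ c ∈ S.A0, ∀ v : V, c • v = -v)
    (hi : q ≠ 3 → ∃ t ∈ S.A0, ∀ v : V, (t * t) • v = -v)
    (n : ℕ) (hn : Nat.card (S.U ⧸ F.D) = 2 ^ n) :
    Nonempty (Lifts F n) ∧ (∀ u : S.U, u * u = 1) ∧ Nat.card F.X = 2 ^ n := by
  classical
  obtain ⟨c, hc, hcneg⟩ := hneg
  haveI := S.cyc
  -- exponent two
  have hU2 : ∀ u : S.U, u * u = 1 := by
    intro u
    have hdvd : Monoid.exponent S.U ∣ 2 := by
      rw [← Nat.prod_primeFactors_of_squarefree exponent_squarefree]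
      have hsub : (Monoid.exponent S.U).primeFactors ⊆ {2} := fun r hr => by
        have hrp := Nat.prime_of_mem_primeFactors hr
        have h1 := prime_dvd_of_dvd_exponent hrp (Nat.dvd_of_mem_primeFactors hr)
        rw [Finset.mem_singleton]
        have h8 : Nat.card S.A0 ∣ 2 ^ 3 := by
          rcases hq with h | h | h <;> rw [show Nat.card S.A0 = q - 1 by omega, h] <;> norm_num
        exact (Nat.prime_dvd_prime_iff_eq hrp Nat.prime_two).mp (hrp.dvd_of_dvd_pow (h1.trans h8))
      exact (Finset.prod_dvd_prod_of_subset _ _ _ hsub).trans (by simp)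
    rw [← sq]
    exact Monoid.exponent_dvd_iff_forall_pow_eq_one.mp hdvd u
  -- the values of the pairing
  have hne : c ≠ 1 := by
    intro h
    obtain ⟨x, hx, -⟩ := F.wit
    have h1 := hcneg x
    rw [h, one_smul, eq_neg_iff_add_eq_zero, ← two_nsmul] at h1
    refine hx (nsmul_eq_zero_of_fpf hf (fun r hr hd => ?_) two_ne_zero h1)
    obtain rfl := (Nat.prime_dvd_prime_iff_eq hr Nat.prime_two).mp hd
    rcases hq with h | h | h <;> rw [show Nat.card S.A0 = q - 1 by omega, h] <;> norm_num
  have hbeta : ∀ u v : S.U, S.beta u v = 1 ∨ ((S.beta u v : S.A0) : Aut V) = c := by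
    intro u v
    by_cases h : S.beta u v = 1
    · exact Or.inl h
    refine Or.inr (aut_ext fun w => ?_)
    rw [hcneg, smul_eq_neg_of_sq hf (S.beta u v).2 ?_ fun e => h (Subtype.ext e)]
    rw [← Subgroup.coe_mul, ← MonoidHom.mul_apply, ← map_mul, hU2, map_one, MonoidHom.one_apply,
      OneMemClass.coe_one]
  have hDX : F.D = F.X := le_antisymm hD (F.X_le_D hf)
  -- coordinates modulo `D`
  letI : Module (ZMod 2) (Additive (S.U ⧸ F.D)) := AddCommGroup.zmodModule fun z => by
    obtain ⟨u, hu⟩ := QuotientGroup.mk_surjective (Additive.toMul z)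
    rw [two_nsmul]
    refine Additive.toMul.injective ?_
    rw [toMul_add, toMul_zero, ← hu, ← QuotientGroup.mk_mul, hU2, QuotientGroup.mk_one]
  have hfin : Module.finrank (ZMod 2) (Additive (S.U ⧸ F.D)) = n := by
    have h := Module.natCard_eq_pow_finrank (K := ZMod 2) (V := Additive (S.U ⧸ F.D))
    rw [Nat.card_zmod, show Nat.card (Additive (S.U ⧸ F.D)) = Nat.card (S.U ⧸ F.D) from
      Nat.card_congr Additive.toMul, hn] at h
    exact (Nat.pow_right_injective le_rfl h).symm
  let bas := Module.finBasisOfFinrankEq (ZMod 2) (Additive (S.U ⧸ F.D)) hfin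
  have hw0 : ∀ i : Fin n, ∃ u : S.U, Additive.ofMul (QuotientGroup.mk u : S.U ⧸ F.D) = bas i :=
    fun i => by
      obtain ⟨u, hu⟩ := QuotientGroup.mk_surjective (Additive.toMul (bas i))
      exact ⟨u, by rw [hu, ofMul_toMul]⟩
  choose w0 hw0 using hw0
  let w : ℕ → S.U := fun i => if h : i < n then w0 ⟨i, h⟩ else 1
  have hgen : ∀ u : S.U, ∃ a < 2 ^ n, u * prodBits w n a ∈ F.D := by
    intro u
    set z := Additive.ofMul (QuotientGroup.mk u : S.U ⧸ F.D)
    obtain ⟨a, ha, hbits⟩ :=
      exists_code n fun i => if h : i < n then decide (bas.repr z ⟨i, h⟩ = 1) else false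
    refine ⟨a, ha, ?_⟩
    rw [← QuotientGroup.eq_one_iff, QuotientGroup.mk_mul]
    have hs : Additive.ofMul (QuotientGroup.mk (prodBits w n a) : S.U ⧸ F.D) = z := by
      rw [prodBits_eq_prod, ← QuotientGroup.mk'_apply, map_prod, ofMul_prod, Finset.sum_range]
      conv_rhs => rw [← bas.sum_repr z]
      refine Finset.sum_congr rfl fun i _ => ?_
      have h := hbits i i.2
      rw [dif_pos i.2] at h
      simp only [w, dif_pos i.2, h]
      rcases Fin.exists_fin_two.mp ⟨bas.repr z i, rfl⟩ with h' | h'
      · rw [show bas.repr z i = 0 from h']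
        simp
      · rw [show bas.repr z i = 1 from h']
        simp [hw0]
    have hs' := Additive.ofMul.injective hs
    rw [hs', ← QuotientGroup.mk_mul, hU2, QuotientGroup.mk_one]
  have hperp : ∀ {x d : S.U}, x ∈ F.X → d ∈ F.D → S.beta x d = 1 := fun {x d} hx hd =>
    beta_symm_one S (hd x hx)
  have hXX : ∀ {x y : S.U}, x ∈ F.X → y ∈ F.X → S.beta x y = 1 := fun hx hy =>
    hperp hx (hDX ▸ hy)
  -- the map to the dual
  let Ψ : F.X → Fin n → Bool := fun x i => decide (S.beta x (w i) ≠ 1)
  have hΨ : Function.Injective Ψ := by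
    intro x y h
    have hb : ∀ i < n, S.beta ((x : S.U) * y) (w i) = 1 := by
      intro i hi
      have h1 := congrFun h ⟨i, hi⟩
      simp only [Ψ, ne_eq, decide_not, Bool.not_inj_iff, decide_eq_decide] at h1
      rw [map_mul, MonoidHom.mul_apply]
      rcases hbeta x (w i) with hx | hx
      · rw [hx, h1.mp hx, mul_one]
      · rcases hbeta y (w i) with hy | hy
        · rw [hy, h1.mpr hy, mul_one]
        · rw [show S.beta (y : S.U) (w i) = S.beta (x : S.U) (w i) from Subtype.ext (hy.trans hx.symm),
            ← MonoidHom.mul_apply, ← map_mul, hU2, map_one, MonoidHom.one_apply]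
    have h1 : (x : S.U) * y = 1 := by
      refine S.beta_nd _ fun u => ?_
      obtain ⟨a, -, ha⟩ := hgen u
      have hpb : S.beta ((x : S.U) * y) (prodBits w n a) = 1 := by
        rw [prodBits_eq_prod, map_prod]
        refine Finset.prod_eq_one fun i hi => ?_
        split_ifs
        · exact hb i (Finset.mem_range.mp hi)
        · exact map_one _
      have h2 := hperp (F.X.mul_mem x.2 y.2) ha
      rwa [map_mul, hpb, mul_one] at h2
    refine Subtype.ext ?_
    calc (x : S.U) = x * y * y := by rw [mul_assoc, hU2, mul_one]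
      _ = y := by rw [h1, one_mul]
  have hXcard : Nat.card F.X = 2 ^ n := by
    refine le_antisymm ((Nat.card_le_card_of_injective Ψ hΨ).trans (le_of_eq (by simp))) ?_
    have h1 := card_le_mul_perp S.beta F.X
    have h2 : Nat.card S.U = 2 ^ n * Nat.card F.D := by
      rw [Subgroup.card_eq_card_quotient_mul_card_subgroup F.D, hn]
    exact Nat.le_of_mul_le_mul_right (h2 ▸ h1) Nat.card_pos
  have hΨs : ∀ s : ℕ → Bool, ∃ x ∈ F.X, ∀ i < n, (S.beta x (w i) ≠ 1 ↔ s i = true) := by
    intro s
    have hbij : Function.Bijective Ψ := hΨ.bijective_of_nat_card_le (by rw [hXcard]; simp)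
    obtain ⟨x, hx⟩ := hbij.2 fun i => s i
    refine ⟨x, x.2, fun i hi => ?_⟩
    rw [← decide_eq_true_iff (p := S.beta (x : S.U) (w i) ≠ 1)]
    rw [show decide (S.beta (x : S.U) (w i) ≠ 1) = s i from congrFun hx ⟨i, hi⟩]
  -- orthogonalisation
  choose xa hxaX hxa using fun i : ℕ => hΨs fun j => decide (j < i ∧ S.beta (w i) (w j) ≠ 1)
  choose xd hxdX hxd using fun i : ℕ => hΨs fun j => decide (j = i)
  let u : ℕ → S.U := fun i => w i * xa i
  have hbeq : ∀ {a b a' b' : S.U}, (S.beta a b ≠ 1 ↔ S.beta a' b' ≠ 1) → S.beta a b = S.beta a' b' := by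
    intro a b a' b' h
    rcases hbeta a b with h1 | h1 <;> rcases hbeta a' b' with h2 | h2
    · rw [h1, h2]
    · rw [h1, not_not.mp fun hh => (h.mpr hh) h1]
    · rw [h2, not_not.mp fun hh => (h.mp hh) h2]
    · exact Subtype.ext (h1.trans h2.symm)
  have hb2 : ∀ a b : S.U, S.beta a b * S.beta a b = 1 := fun a b => by
    rw [← MonoidHom.mul_apply, ← map_mul, hU2, map_one, MonoidHom.one_apply]
  have horth0 : ∀ i < n, ∀ j < i, S.beta (u i) (u j) = 1 := by
    intro i hi j hj
    have h1 : S.beta (w i) (xa j) = 1 := by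
      refine beta_symm_one S ?_
      by_contra h
      have := (hxa j i hi).mp h
      simp only [decide_eq_true_eq] at this
      omega
    have h2 : S.beta (xa i) (w j) = S.beta (w i) (w j) := hbeq (by
      rw [hxa i j (by omega)]
      simp [hj])
    simp only [u, map_mul, MonoidHom.mul_apply]
    rw [h1, h2, hXX (hxaX i) (hxaX j), mul_one, mul_one, hb2]
  have horth : ∀ i < n, ∀ j < n, S.beta (u i) (u j) = 1 := by
    intro i hi j hj
    rcases lt_trichotomy i j with h | rfl | h
    · exact beta_symm_one S (horth0 j hj i h)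
    · exact S.beta_alt _
    · exact horth0 i hi j h
  have hxu : ∀ i, ∀ j < n, i ≠ j → S.beta (xd i) (u j) = 1 := by
    intro i j hj hij
    simp only [u, map_mul]
    rw [hXX (hxdX i) (hxaX j), mul_one]
    by_contra h
    have := (hxd i j hj).mp h
    simp only [decide_eq_true_eq] at this
    exact hij this.symm
  have hxu' : ∀ i < n, S.beta (xd i) (u i) ≠ 1 := by
    intro i hi
    simp only [u, map_mul]
    rw [hXX (hxdX i) (hxaX i), mul_one]
    exact (hxd i i hi).mpr (by simp)
  -- lifts in `K`
  choose k hkK hkcl using fun i : ℕ => (hxdX i : xd i ∈ (F.K.subgroupOf S.E).map (cl S))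
  have hk2 : ∀ i, k i * k i = 1 := fun i => Subtype.ext
    (F.eq_one_of_mem_A0 hf (F.K.mul_mem (hkK i) (hkK i))
      ((cl_eq_one S (e := k i * k i)).mp (by rw [map_mul, hU2])))
  have hcomm_of : ∀ a b : S.E, S.beta (cl S a) (cl S b) ≠ 1 →
      (a : Aut V) * b = c * ((b : Aut V) * a) := by
    intro a b h
    have h1 := (hbeta (cl S a) (cl S b)).resolve_left h
    rw [beta_cl] at h1
    rw [← h1, commutatorElement_def]
    group
  have hsqA : ∀ e : S.E, (e : Aut V) * e ∈ S.A0 := fun e =>
    (cl_eq_one S (e := e * e)).mp (by rw [map_mul, hU2])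
  have hcc : c * c = 1 := aut_ext fun v => by rw [mul_smul, hcneg, hcneg, neg_neg, one_smul]
  have hf0 : ∀ i : ℕ, ∃ e : S.E, e * e = 1 ∧ (i < n → cl S e = u i ∨ cl S e = u i * xd i) := by
    intro i
    by_cases hi' : i < n
    swap
    · exact ⟨1, mul_one 1, fun h => absurd h hi'⟩
    obtain ⟨e, he⟩ := cl_surjective S (u i)
    rcases eq_or_ne q 3 with h3 | h3
    · by_cases h1 : (e : Aut V) * e = 1
      · exact ⟨e, Subtype.ext h1, fun _ => Or.inl he⟩
      · refine ⟨e * k i, Subtype.ext ?_, fun _ => Or.inr (by rw [map_mul, he, hkcl])⟩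
        have hee : (e : Aut V) * e = c := by
          have hA2 : ∀ a : S.A0, a ≠ 1 → ∀ b : S.A0, b ≠ 1 → a = b := fun a ha b hb => by
            obtain ⟨y, z, hyz, huniv⟩ := Nat.card_eq_two_iff.mp (show Nat.card S.A0 = 2 by omega)
            have hmem : ∀ a : S.A0, a = y ∨ a = z := fun a => by
              have : a ∈ ({y, z} : Set S.A0) := huniv ▸ Set.mem_univ a
              simpa using this
            rcases hmem 1 with h | h <;> rcases hmem a with h' | h' <;> rcases hmem b with h'' | h'' <;>
              simp_all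
          exact congrArg Subtype.val (hA2 ⟨_, hsqA e⟩ (fun h => h1 (congrArg Subtype.val h)) ⟨c, hc⟩
            fun h => hne (congrArg Subtype.val h))
        have hek : (k i : Aut V) * e = c * ((e : Aut V) * k i) :=
          hcomm_of _ _ (by rw [hkcl, he]; exact hxu' i hi')
        show (e : Aut V) * k i * ((e : Aut V) * k i) = 1
        calc (e : Aut V) * k i * ((e : Aut V) * k i) = e * ((k i : Aut V) * e) * k i := by group
          _ = ((e : Aut V) * c) * e * ((k i : Aut V) * k i) := by rw [hek]; group
          _ = c * ((e : Aut V) * e) * ((k i : Aut V) * k i) := by rw [S.cen _ (S.e_le e.2) c hc]; group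
          _ = 1 := by
            rw [hee, hcc, one_mul, ← Subgroup.coe_mul, hk2, OneMemClass.coe_one]
    · -- every class has a lift whose square is a square in `A₀`
      obtain ⟨t, ht, htneg⟩ := hi h3
      let Y : AddSubgroup (Additive S.U) :=
        { carrier := {z | ∃ e : S.E, cl S e = Additive.toMul z ∧ ∃ a ∈ S.A0, (e : Aut V) * e = a * a}
          zero_mem' := ⟨1, map_one _, 1, S.A0.one_mem, rfl⟩
          add_mem' := by
            rintro y z ⟨e, he, a, ha, hea⟩ ⟨e', he', a', ha', hea'⟩
            refine ⟨e * e', by rw [map_mul, he, he']; rfl, ?_⟩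
            rcases hbeta (cl S e') (cl S e) with h | h
            · refine ⟨a * a', S.A0.mul_mem ha ha', ?_⟩
              rw [beta_cl_eq_one] at h
              rw [Subgroup.coe_mul]
              calc (e : Aut V) * e' * ((e : Aut V) * e')
                  = (e : Aut V) * ((e' : Aut V) * e) * e' := by group
                _ = (a * a) * (a' * a') := by rw [h, ← hea, ← hea']; group
                _ = a * (a * a') * a' := by group
                _ = a * (a' * a) * a' := by rw [S.cen a (S.e_le (S.a0_le ha)) a' ha']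
                _ = a * a' * (a * a') := by group
            · refine ⟨t * (a * a'), S.A0.mul_mem ht (S.A0.mul_mem ha ha'), ?_⟩
              rw [beta_cl, commutatorElement_def] at h
              have htc : t * t = c := aut_ext fun v => by rw [htneg, hcneg]
              have hab : t * (a * a') = (a * a') * t := S.cen t (S.e_le (S.a0_le ht)) _
                (S.A0.mul_mem ha ha')
              rw [Subgroup.coe_mul]
              calc (e : Aut V) * e' * ((e : Aut V) * e')
                  = (e : Aut V) * ((e' : Aut V) * e) * e' := by group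
                _ = ((e : Aut V) * c) * ((e : Aut V) * e') * e' := by rw [← h]; group
                _ = c * ((e : Aut V) * e) * ((e' : Aut V) * e') := by
                    rw [S.cen _ (S.e_le e.2) c hc]; group
                _ = c * ((a * a) * (a' * a')) := by rw [hea, hea']; group
                _ = c * (a * (a * a') * a') := by group
                _ = c * (a * (a' * a) * a') := by rw [S.cen a (S.e_le (S.a0_le ha)) a' ha']
                _ = t * (t * (a * a')) * (a * a') := by rw [← htc]; group
                _ = t * ((a * a') * t) * (a * a') := by rw [hab]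
                _ = t * (a * a') * (t * (a * a')) := by group
          neg_mem' := fun {z} hz => by
            rwa [show -z = z from neg_eq_of_add_eq_zero_left (Additive.toMul.injective (hU2 _))] }
      have hY : Inv S.act.range Y := by
        rintro _ ⟨g, rfl⟩ z ⟨e, he, a, ha, hea⟩
        obtain rfl : z = Additive.ofMul (cl S e) := by rw [he, ofMul_toMul]
        refine ⟨⟨(g : Aut V) * e * (g : Aut V)⁻¹, S.e_norm g g.2 e e.2⟩, ?_,
          (g : Aut V) * a * (g : Aut V)⁻¹, S.a0_norm g g.2 a ha, ?_⟩
        · rw [show cl S e = QuotientGroup.mk e from rfl, S.act_mk]; rfl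
        · show (g : Aut V) * e * (g : Aut V)⁻¹ * ((g : Aut V) * e * (g : Aut V)⁻¹) = _
          calc (g : Aut V) * e * (g : Aut V)⁻¹ * ((g : Aut V) * e * (g : Aut V)⁻¹)
              = (g : Aut V) * ((e : Aut V) * e) * (g : Aut V)⁻¹ := by group
            _ = _ := by rw [hea]; group
      have hall : ∀ z : S.U, Additive.ofMul z ∈ Y := by
        by_contra hne'
        push Not at hne'
        obtain ⟨z0, hz0⟩ := hne'
        obtain ⟨γ, hγ⟩ := IsCyclic.exists_zpow_surjective (G := S.A0)
        have hodd : ∀ z : S.U, Additive.ofMul z ∉ Y → ∀ e : S.E, cl S e = z →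
            ∃ i : ℤ, Odd i ∧ γ ^ i = (⟨_, hsqA e⟩ : S.A0) := fun z hz e he =>
          zpow_even_exists hγ fun ⟨a, ha⟩ => hz ⟨e, he, a, a.2, congrArg Subtype.val ha⟩
        have hsum : ∀ z, Additive.ofMul z ∉ Y → Additive.ofMul (z0 * z) ∈ Y := by
          intro z hz
          obtain ⟨e0, he0⟩ := cl_surjective S z0
          obtain ⟨e, he⟩ := cl_surjective S z
          obtain ⟨i, hi1, hi2⟩ := hodd z0 hz0 e0 he0
          obtain ⟨j, hj1, hj2⟩ := hodd z hz e he
          obtain ⟨l, hl⟩ := hi1.add_odd hj1
          have hsq : ∃ a ∈ S.A0, (e0 : Aut V) * e0 * ((e : Aut V) * e) = a * a := by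
            refine ⟨((γ ^ l : S.A0) : Aut V), (γ ^ l).2, ?_⟩
            exact congrArg Subtype.val (show (⟨_, hsqA e0⟩ : S.A0) * ⟨_, hsqA e⟩ = γ ^ l * γ ^ l by
              rw [← hi2, ← hj2, ← zpow_add, ← zpow_add, hl])
          obtain ⟨a, ha, hea⟩ := hsq
          refine ⟨e0 * e, by rw [map_mul, he0, he]; rfl, ?_⟩
          rcases hbeta (cl S e) (cl S e0) with h | h
          · refine ⟨a, ha, ?_⟩
            rw [beta_cl_eq_one] at h
            rw [Subgroup.coe_mul]
            calc (e0 : Aut V) * e * ((e0 : Aut V) * e)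
                = (e0 : Aut V) * ((e : Aut V) * e0) * e := by group
              _ = a * a := by rw [h, ← hea]; group
          · refine ⟨t * a, S.A0.mul_mem ht ha, ?_⟩
            rw [beta_cl, commutatorElement_def] at h
            have htc : t * t = c := aut_ext fun v => by rw [htneg, hcneg]
            rw [Subgroup.coe_mul]
            calc (e0 : Aut V) * e * ((e0 : Aut V) * e)
                = (e0 : Aut V) * ((e : Aut V) * e0) * e := by group
              _ = ((e0 : Aut V) * c) * ((e0 : Aut V) * e) * e := by rw [← h]; group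
              _ = c * ((e0 : Aut V) * e0 * ((e : Aut V) * e)) := by
                  rw [S.cen _ (S.e_le e0.2) c hc]; group
              _ = t * (t * a) * a := by rw [hea, ← htc]; group
              _ = t * (a * t) * a := by rw [S.cen t (S.e_le (S.a0_le ht)) a ha]
              _ = t * a * (t * a) := by group
        have hidx : Nat.card S.U ≤ 2 * Nat.card Y := by
          rw [show 2 = Nat.card Bool by simp, ← Nat.card_prod]
          refine Nat.card_le_card_of_injective (fun z : S.U =>
            if hz : Additive.ofMul z ∈ Y then (true, (⟨_, hz⟩ : Y)) else (false, ⟨_, hsum z hz⟩)) ?_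
          intro a b hab
          simp only at hab
          split_ifs at hab with ha hb hb
          · simpa using hab
          · simp at hab
          · simp at hab
          · simpa using hab
        have hlt : Nat.card Y < Nat.card S.U := by
          refine lt_of_le_of_ne (Nat.card_le_card_of_injective (fun z : Y => Additive.toMul (z : Additive S.U))
            (Additive.toMul.injective.comp Subtype.val_injective)) fun e => hz0 ?_
          have := AddSubgroup.eq_top_of_card_eq Y (e.trans (Nat.card_congr Additive.ofMul))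
          rw [this]; trivial
        have hUc : Nat.card S.U = 2 ^ (2 * n) := by
          rw [Subgroup.card_eq_card_quotient_mul_card_subgroup F.D, hn, hDX, hXcard, ← pow_add, two_mul]
        obtain ⟨s, hs⟩ := S.isSquare_inv hY
        have hdvd : Nat.card Y ∣ 2 ^ (2 * n) := by
          rw [← hUc, Nat.card_congr (Additive.ofMul : S.U ≃ Additive S.U)]
          exact AddSubgroup.card_addSubgroup_dvd_card Y
        obtain ⟨e', he', hY'⟩ := (Nat.dvd_prime_pow Nat.prime_two).mp hdvd
        obtain ⟨e'', -, hs'⟩ := (Nat.dvd_prime_pow Nat.prime_two).mp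
          (show s ∣ 2 ^ (2 * n) from (Dvd.intro s hs.symm).trans hdvd)
        rw [hY'] at hlt hidx hs
        rw [hUc] at hlt hidx
        rw [hs', ← pow_add] at hs
        have e1 := Nat.pow_right_injective le_rfl hs
        have e2 : e' < 2 * n := (Nat.pow_lt_pow_iff_right one_lt_two).mp hlt
        have e3 : 2 * n ≤ e' + 1 := by
          rw [← Nat.pow_le_pow_iff_right one_lt_two, pow_succ']; exact hidx
        omega
      obtain ⟨e', he', a, ha, hea⟩ := hall (u i)
      refine ⟨e' * ⟨a⁻¹, S.a0_le (S.A0.inv_mem ha)⟩, Subtype.ext ?_, fun _ => Or.inl ?_⟩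
      · show (e' : Aut V) * a⁻¹ * ((e' : Aut V) * a⁻¹) = 1
        calc (e' : Aut V) * a⁻¹ * ((e' : Aut V) * a⁻¹)
            = ((e' : Aut V) * a⁻¹) * e' * a⁻¹ := by group
          _ = a⁻¹ * ((e' : Aut V) * e') * a⁻¹ := by
              rw [S.cen _ (S.e_le e'.2) _ (S.A0.inv_mem ha)]; group
          _ = 1 := by rw [hea]; group
      · rw [map_mul, he', (cl_eq_one S).mpr (S.A0.inv_mem ha), mul_one]; rfl
  choose f hf2 hfcl using hf0
  have hff : ∀ i < n, ∀ j < n, S.beta (cl S (f i)) (cl S (f j)) = 1 := by
    intro i hi j hj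
    rcases eq_or_ne i j with rfl | hij
    · exact S.beta_alt _
    rcases hfcl i hi with h | h <;> rcases hfcl j hj with h' | h' <;>
      simp only [h, h', map_mul, MonoidHom.mul_apply, horth i hi j hj, hxu i j hj hij,
        beta_symm_one S (hxu j i hi hij.symm), hXX (hxdX i) (hxdX j), mul_one]
  have hkf : ∀ i < n, ∀ j < n, S.beta (cl S (k i)) (cl S (f j)) = S.beta (xd i) (u j) := by
    intro i _ j hj
    rw [hkcl]
    rcases hfcl j hj with h | h
    · rw [h]
    · rw [h, map_mul, hXX (hxdX i) (hxdX j), mul_one]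
  refine ⟨⟨⟨f, k, c, hc, hcneg, fun i _ => hkK i, fun i _ => hf2 i, fun i _ => hk2 i,
    fun i hi j hj => Subtype.ext ((beta_cl_eq_one S _ _).mp (hff i hi j hj)),
    fun i _ j _ => Subtype.ext (F.K_comm hf (hkK i) (hkK j)), fun i hi j hj => ?_, fun v => ?_⟩⟩,
    hU2, hXcard⟩
  · split_ifs with hij
    · subst hij
      exact hcomm_of _ _ (by rw [hkf i hi i hi]; exact hxu' i hi)
    · rw [one_mul]
      exact (beta_cl_eq_one S _ _).mp (by rw [hkf i hi j hj]; exact hxu i j hj hij)
  · -- generation
    obtain ⟨a, ha, had⟩ := hgen v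
    have hdiff : prodBits w n a * cl S (prodBits f n a) ∈ F.X := by
      rw [map_prodBits, prodBits_eq_prod, prodBits_eq_prod, ← Finset.prod_mul_distrib]
      refine Subgroup.prod_mem _ fun i hi => ?_
      split_ifs with h
      · rcases hfcl i (Finset.mem_range.mp hi) with h' | h' <;> rw [h'] <;> simp only [u, ← mul_assoc]
        · rw [hU2, one_mul]; exact hxaX i
        · rw [hU2, one_mul]; exact F.X.mul_mem (hxaX i) (hxdX i)
      · rw [one_mul]; exact F.X.one_mem
    have hr : v * cl S (prodBits f n a) ∈ F.X := by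
      have := F.X.mul_mem (hDX ▸ had : v * prodBits w n a ∈ F.X) hdiff
      rwa [mul_assoc, ← mul_assoc (prodBits w n a), hU2, one_mul] at this
    set r := v * cl S (prodBits f n a)
    obtain ⟨b, hb, hbits⟩ := exists_code n fun j => decide (S.beta r (w j) ≠ 1)
    refine ⟨a, ha, b, hb, ?_⟩
    have hpk : cl S (prodBits k n b) = r := by
      have hmem : cl S (prodBits k n b) ∈ F.X := by
        rw [map_prodBits, prodBits_eq_prod]
        refine Subgroup.prod_mem _ fun j _ => ?_
        split_ifs
        · rw [hkcl]; exact hxdX j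
        · exact F.X.one_mem
      refine congrArg Subtype.val (hΨ (a₁ := (⟨_, hmem⟩ : F.X)) (a₂ := (⟨r, hr⟩ : F.X)) (funext fun j => ?_))
      simp only [Ψ]
      have hval : S.beta (cl S (prodBits k n b)) (w j) =
          if b.testBit j then S.beta (xd j) (w j) else 1 := by
        rw [map_prodBits, prodBits_eq_prod, map_prod, MonoidHom.finsetProd_apply,
          Finset.prod_eq_single (j : ℕ)]
        · split_ifs with h
          · rw [hkcl]
          · rw [map_one, MonoidHom.one_apply]
        · intro l _ hl
          split_ifs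
          · rw [hkcl]
            by_contra h
            have := (hxd l j j.2).mp h
            simp only [decide_eq_true_eq] at this
            exact hl this.symm
          · rw [map_one, MonoidHom.one_apply]
        · exact fun h => absurd (Finset.mem_range.mpr j.2) h
      rw [hval, hbits j j.2]
      by_cases h : S.beta r (w j) ≠ 1
      · rw [if_pos (decide_eq_true h)]
        simp [(hxd j j j.2).mpr (by simp), h]
      · rw [if_neg (by simpa using h)]
        simp only [not_not] at h
        simp [h]
    rw [map_mul, hpk]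
    show v = _ * (v * _)
    rw [mul_comm v, ← mul_assoc, hU2, one_mul]

end CfsgLib.SolvBase.SmallModel
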