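import Cfsg.Agent.SolvBase.Leftover
import Cfsg.Agent.SolvBase.Certificate
import Cfsg.Agent.SolvBase.SmallBasis

/-!
Pairs from twisted colourings in a few small dimensions.
-/

set_option autoImplicit false
set_option linter.style.haveILetI false
set_option linter.unusedSectionVars false

universe u

namespace CfsgLib.SolvBase

open OddBase Certificate
open scoped commutatorElement

lemma look_lt (w d b : ℕ) : look w d b < 2 ^ w := Nat.mod_lt _ (Nat.two_pow_pos w)

lemma difSum_eq_zero {M : Type*} [AddCommGroup M] {w g : ℕ} {s : List ℕ} (κ : ℕ → M)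
    (h0 : κ 0 = 0) (hadd : ∀ a b, a < 2 ^ w → b < 2 ^ w → κ (a ^^^ b) = κ a + κ b)
    (hker : ∀ a, a < 2 ^ w → κ a = 0 → a = 0) (θ : ℕ → M) (L : List ℕ)
    (hd : ∀ b ∈ L, κ (dif w g s b) = θ b) (hsum : (L.map θ).sum = 0) : difSum w g s L = 0 := by
  have key : ∀ L : List ℕ, (∀ b ∈ L, κ (dif w g s b) = θ b) →
      difSum w g s L < 2 ^ w ∧ κ (difSum w g s L) = (L.map θ).sum := by
    intro L
    induction L with
    | nil => exact fun _ => ⟨Nat.two_pow_pos w, by simp [difSum, h0]⟩
    | cons b L ih =>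
      intro h
      obtain ⟨h1, h2⟩ := ih fun c hc => h c (List.mem_cons_of_mem _ hc)
      have hlt : dif w g s b < 2 ^ w := Nat.xor_lt_two_pow (look_lt _ _ _) (look_lt _ _ _)
      refine ⟨Nat.xor_lt_two_pow hlt h1, ?_⟩
      rw [difSum, hadd _ _ hlt h1, h b List.mem_cons_self, h2, List.map_cons, List.sum_cons]
  obtain ⟨h1, h2⟩ := key L hd
  exact hker _ h1 (h2.trans hsum)

/-- A quadratic map vanishes on the quadratic relations. -/
lemma quad_relations {M : Type*} [AddCommGroup M] (h2 : ∀ a : M, a + a = 0)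
    (P : (Fin 5 → ZMod 2) → M) (bl : (Fin 5 → ZMod 2) → (Fin 5 → ZMod 2) → M)
    (hP : ∀ u v, P (u + v) = P u + P v + bl u v)
    (hbl : ∀ u u' v, bl (u + u') v = bl u v + bl u' v) :
    ∀ L ∈ C5, (L.map fun b => P (vec 5 b)).sum = 0 := by
  have hn : ∀ a : M, -a = a := fun a => neg_eq_of_add_eq_zero_left (h2 a)
  have h3 : ∀ a b c, P (a + b + c) + (P (a + b) + (P (a + c) + (P (b + c) +
      (P a + (P b + (P c + 0)))))) = 0 := by
    intro a b c
    simp only [hP, hbl, add_zero]
    have := h2 (P a + P b + P c + bl a b + bl a c + bl b c)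
    rw [← this]
    have e1 := h2 (P a)
    have e2 := h2 (P b)
    have e3 := h2 (P c)
    rw [show P a + P b + bl a b + P c + (bl a c + bl b c) + (P a + P b + bl a b +
        (P a + P c + bl a c + (P b + P c + bl b c + (P a + (P b + P c))))) =
      P a + P b + P c + bl a b + bl a c + bl b c + (P a + P b + P c + bl a b + bl a c + bl b c) +
        ((P a + P a) + (P b + P b) + (P c + P c)) by abel, e1, e2, e3]
    simp
  have h4 : ∀ a b c d, P (a + b + c + d) + (P (a + b) + (P (a + c) + (P (a + d) + (P (b + c) +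
      (P (b + d) + (P (c + d) + 0)))))) = 0 := by
    intro a b c d
    simp only [hP, hbl, add_zero]
    have e : ∀ z : M, z + z = 0 := h2
    rw [show P a + P b + bl a b + P c + (bl a c + bl b c) + P d + (bl a d + bl b d + bl c d) +
        (P a + P b + bl a b + (P a + P c + bl a c + (P a + P d + bl a d + (P b + P c + bl b c +
          (P b + P d + bl b d + (P c + P d + bl c d)))))) =
      ((P a + P a) + (P a + P a)) + ((P b + P b) + (P b + P b)) + ((P c + P c) + (P c + P c)) +
        ((P d + P d) + (P d + P d)) + (bl a b + bl a b) + (bl a c + bl a c) + (bl a d + bl a d) +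
        (bl b c + bl b c) + (bl b d + bl b d) + (bl c d + bl c d) by abel]
    simp only [e, add_zero]
  have hv : vec 5 13 = vec 5 1 + vec 5 4 + vec 5 8 ∧ vec 5 14 = vec 5 2 + vec 5 4 + vec 5 8 ∧
      vec 5 15 = vec 5 1 + vec 5 2 + vec 5 4 + vec 5 8 ∧
      vec 5 19 = vec 5 1 + vec 5 2 + vec 5 16 ∧ vec 5 21 = vec 5 1 + vec 5 4 + vec 5 16 ∧
      vec 5 23 = vec 5 1 + vec 5 2 + vec 5 4 + vec 5 16 ∧
      vec 5 25 = vec 5 1 + vec 5 8 + vec 5 16 ∧
      vec 5 29 = vec 5 1 + vec 5 4 + vec 5 8 + vec 5 16 ∧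
      vec 5 30 = vec 5 2 + vec 5 4 + vec 5 8 + vec 5 16 ∧
      vec 5 3 = vec 5 1 + vec 5 2 ∧ vec 5 5 = vec 5 1 + vec 5 4 ∧ vec 5 6 = vec 5 2 + vec 5 4 ∧
      vec 5 9 = vec 5 1 + vec 5 8 ∧ vec 5 10 = vec 5 2 + vec 5 8 ∧ vec 5 12 = vec 5 4 + vec 5 8 ∧
      vec 5 17 = vec 5 1 + vec 5 16 ∧ vec 5 18 = vec 5 2 + vec 5 16 ∧
      vec 5 20 = vec 5 4 + vec 5 16 ∧ vec 5 24 = vec 5 8 + vec 5 16 := by decide +kernel
  obtain ⟨a1, a2, a3, a4, a5, a6, a7, a8, a9, b1, b2, b3, b4, b5, b6, b7, b8, b9, b10⟩ := hv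
  intro L hL
  simp only [C5, List.mem_cons, List.not_mem_nil, or_false] at hL
  rcases hL with rfl | rfl | rfl | rfl | rfl | rfl | rfl | rfl | rfl <;>
    simp only [List.map_cons, List.map_nil, List.sum_cons, List.sum_nil, a1, a2, a3, a4, a5, a6, a7,
      a8, a9, b1, b2, b3, b4, b5, b6, b7, b8, b9, b10]
  exacts [h3 _ _ _, h3 _ _ _, h4 _ _ _ _, h3 _ _ _, h3 _ _ _, h4 _ _ _ _, h3 _ _ _, h4 _ _ _ _,
    h4 _ _ _ _]

lemma exists_parity {G : Type u} [Group G] [Finite G] [IsCyclic G] (h2 : 2 ∣ Nat.card G) :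
    ∃ χ : Additive G →+ ZMod 2, Function.Surjective χ := by
  obtain ⟨e⟩ : Nonempty (Multiplicative (ZMod (Nat.card G)) ≃* G) := ⟨zmodCyclicMulEquiv inferInstance⟩
  refine ⟨(ZMod.castHom h2 (ZMod 2)).toAddMonoidHom.comp
    (MonoidHom.toAdditiveLeft e.symm.toMonoidHom), fun z => ?_⟩
  obtain ⟨y, hy⟩ := ZMod.castHom_surjective h2 z
  refine ⟨Additive.ofMul (e (Multiplicative.ofAdd y)), ?_⟩
  show ZMod.castHom h2 (ZMod 2) (Multiplicative.toAdd (e.symm (e (Multiplicative.ofAdd y)))) = z
  rw [MulEquiv.symm_apply_apply]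
  exact hy

lemma zmod_two_cases : ∀ x : ZMod 2, x = 0 ∨ x = 1 := by decide

lemma mask_lt5 : ∀ v : Fin 5 → ZMod 2, mask v < 2 ^ 5 := by decide +kernel

lemma vec_mask5 : ∀ v : Fin 5 → ZMod 2, vec 5 (mask v) = v := by decide +kernel

lemma mask_vec5 : ∀ b : Fin 32, mask (vec 5 b) = b := by decide +kernel

variable {V : Type u} [AddCommGroup V] [Finite V] [Nontrivial V] {S : Setup (Aut V)} {F : Frame S}

set_option maxHeartbeats 1000000 in
open SmallModel in
/-- Five classes of order two and no extra generators. -/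
theorem hasPair_five (hf : Fpf S) (W : Witness F) (T : Lifts F 5) (hU2 : ∀ u : S.U, u * u = 1)
    (hD : F.D ≤ F.X) (hQ : Nat.card (S.U ⧸ F.D) = 2 ^ 5) (h2A : 2 ∣ Nat.card S.A0) :
    HasPair S.A := by
  classical
  haveI := S.cyc
  obtain ⟨χ, hχ⟩ := exists_parity h2A
  choose α hα using fun k : ℕ => hχ (k : ZMod 2)
  let R : (Fin 5 → ZMod 2) → S.E := fun v => prodBits T.f 5 (mask v)
  have hRadd : ∀ v w, R (v + w) = R v * R w := fun v w => by
    simp only [R, mask_add5]
    exact prodBits_xor T.f_comm T.f_sq _ _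
  have hR0 : R 0 = 1 := by
    simp only [R, show mask (0 : Fin 5 → ZMod 2) = 0 by simp [mask]]
    exact prodBits_zero _ _
  have hcard : Nat.card F.X = 2 ^ 5 := (card_X F).trans hQ
  let el : (Fin 5 → ZMod 2) → S.U ⧸ F.D := fun v => F.qc (R v)
  have heladd : ∀ v w, el (v + w) = el v * el w := fun v w => by simp only [el, hRadd, map_mul]
  have helsurj : Function.Surjective el := fun q => by
    obtain ⟨e, rfl⟩ := F.qc_surjective q
    obtain ⟨a, ha, b, -, hab⟩ := T.surj (cl S e)
    refine ⟨vec 5 a, ?_⟩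
    simp only [el, R, mask_vec5 ⟨a, by simpa using ha⟩]
    refine QuotientGroup.eq.mpr (F.X_le_D hf ?_)
    rw [hab, map_mul, ← mul_assoc, inv_mul_cancel, one_mul]
    have hkm : ∀ m ≤ 5, ((prodBits T.k m b : S.E) : Aut V) ∈ F.K := by
      intro m
      induction m with
      | zero => exact fun _ => F.K.one_mem
      | succ m ih =>
        intro hm
        simp only [prodBits, Subgroup.coe_mul]
        refine F.K.mul_mem (ih (by omega)) ?_
        split_ifs
        · exact T.k_mem m (by omega)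
        · exact F.K.one_mem
    exact ⟨prodBits T.k 5 b, hkm 5 le_rfl, rfl⟩
  have helbij : Function.Bijective el :=
    helsurj.bijective_of_nat_card_le (by simp [hQ])
  let co : (Fin 5 → ZMod 2) ≃ S.U ⧸ F.D := Equiv.ofBijective el helbij
  have : Fintype (S.U ⧸ F.D) := Fintype.ofFinite _
  let T' : Finset (S.U ⧸ F.D) := Finset.univ.filter fun q => inSet B5 (co.symm q)
  have hT : ∀ v, el v ∈ T' ↔ inSet B5 v := fun v => by
    simp only [T', Finset.mem_filter, Finset.mem_univ, true_and]
    rw [show el v = co v from rfl, Equiv.symm_apply_apply]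
  have hco : ∀ v, co.symm (el v) = v := fun v => co.symm_apply_apply v
  let col : (Fin 5 → ZMod 2) → S.A0 := fun v => Additive.toMul (α (look 1 G5 (mask v)))
  have hbas : ∀ i : Fin 5, mask (Pi.single (M := fun _ => ZMod 2) i 1) = 2 ^ i.val ∧
      inSet B5 (Pi.single (M := fun _ => ZMod 2) i 1) := by decide +kernel
  have hpair : ∀ i j : Fin 5, i ≠ j →
      inSet B5 (Pi.single (M := fun _ => ZMod 2) i 1 + Pi.single (M := fun _ => ZMod 2) j 1) := by
    decide +kernel
  have hRf : ∀ i : Fin 5, R (Pi.single (M := fun _ => ZMod 2) i 1) = T.f i := fun i => by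
    simp only [R, (hbas i).1]
    fin_cases i <;> simp [prodBits, Nat.testBit, Nat.shiftRight_eq_div_pow]
  have hqc2 : ∀ e : S.E, F.qc e ^ 2 = 1 := fun e => by
    rw [← map_pow, Frame.qc_eq_one, map_pow, sq, hU2]
    exact F.D.one_mem
  refine Colouring.hasPair (W := W)
    { ι := ULift.{u} (Fin 5)
      finite := inferInstance
      f := fun i => T.f i.down
      pr := fun _ => 2
      pr_prime := fun _ => Nat.prime_two
      f_pow := fun i => hqc2 _
      gen := ?_
      T := T'
      one_notMem := fun h => ?_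
      R := fun q => R (co.symm q)
      R_mem := fun q _ => co.apply_symm_apply q
      t := fun q => (col (co.symm q) : Aut V) • W.x
      t_ne := fun q _ e => W.x_ne ((smul_eq_zero_iff_eq _).mp e)
      t_W := fun q _ => F.inW_A0 (col _).2 W.x_W
      t_fix := fun g hg hgx _ q _ => by
        rw [← mul_smul, S.cen g hg _ (col _).2, mul_smul, hgx]
      basis := fun i => ⟨el (Pi.single i.down 1), (hT _).mpr (hbas i.down).2, by
        simp only [hco, hRf]⟩
      pairs := ?_
      rigid := ?_ } hf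
  · rw [eq_top_iff]
    intro q _
    obtain ⟨v, rfl⟩ := helsurj q
    set H := Subgroup.closure (Set.range fun i : ULift.{u} (Fin 5) => F.qc (T.f i.down))
    let H' : AddSubgroup (Fin 5 → ZMod 2) :=
      { carrier := {v | el v ∈ H}
        zero_mem' := by
          show el 0 ∈ H
          simp only [el, hR0, map_one]
          exact H.one_mem
        add_mem' := fun {a b} ha hb => by
          show el (a + b) ∈ H
          rw [heladd]
          exact H.mul_mem ha hb
        neg_mem' := fun {a} ha => by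
          show el (-a) ∈ H
          rwa [show -a = a from funext fun i => CharTwo.neg_eq _] }
    show v ∈ H'
    rw [← Finset.univ_sum_single v]
    refine sum_mem fun i _ => ?_
    rw [← ZMod.natCast_zmod_val (v i), ← nsmul_one, Pi.single_smul]
    refine H'.nsmul_mem ?_ _
    show el _ ∈ H
    simp only [el, hRf]
    exact Subgroup.subset_closure ⟨⟨i⟩, rfl⟩
  · have h0 : el 0 = 1 := by simp only [el, hR0, map_one]
    rw [← h0, hT] at h
    exact absurd h (by decide +kernel)
  · rintro ⟨i⟩ ⟨j⟩ -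
    rcases eq_or_ne i j with rfl | hij
    · refine Or.inr (Or.inr ⟨rfl, ?_⟩)
      rw [← Subgroup.coe_mul, T.f_sq i i.2, OneMemClass.coe_one]
      exact S.A0.one_mem
    · refine Or.inl ⟨el (Pi.single i 1 + Pi.single j 1), (hT _).mpr (hpair i j hij), ?_⟩
      simp only [hco, hRadd, hRf]
  · intro g hg hgx _ σ hσ hσT hσR
    let φ₀ : (Fin 5 → ZMod 2) →+ (Fin 5 → ZMod 2) := AddMonoidHom.mk' (fun v => co.symm (σ (el v)))
      fun v w => co.injective (by
        rw [co.apply_symm_apply]
        show σ (el (v + w)) = el (co.symm (σ (el v)) + co.symm (σ (el w)))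
        rw [heladd, heladd, map_mul]
        exact congrArg₂ (· * ·) (co.apply_symm_apply _).symm (co.apply_symm_apply _).symm)
    have hφinj : Function.Injective φ₀ := fun v w e =>
      helbij.1 (σ.injective (co.symm.injective e))
    let φ := AddEquiv.ofBijective φ₀ ⟨hφinj, Finite.injective_iff_surjective.mp hφinj⟩
    have hφ : ∀ v, el (φ v) = σ (el v) := fun v => co.apply_symm_apply _
    have hB : ∀ v, inSet B5 (φ v) ↔ inSet B5 v := fun v => by rw [← hT, ← hT, hφ, hσT]
    let cj : (Fin 5 → ZMod 2) → S.E := fun v =>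
      ⟨g * R v * g⁻¹, S.e_norm g (S.c_le hg) (R v) (R v).2⟩
    have hcjadd : ∀ v w, cj (v + w) = cj v * cj w := fun v w => by
      refine Subtype.ext ?_
      show g * (R (v + w) : Aut V) * g⁻¹ = g * R v * g⁻¹ * (g * R w * g⁻¹)
      rw [hRadd, Subgroup.coe_mul]
      group
    have hz : ∀ v, ∃ z : S.A0, (cj v : Aut V) • W.x = (z : Aut V) • (R (φ v) : Aut V) • W.x := by
      intro v
      have hmem : cl S ((R (φ v))⁻¹ * cj v) ∈ F.X := by
        refine hD ?_
        have h1 : F.qc (R (φ v)) = F.qc (cj v) := (hφ v).trans (hσ (R v) _)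
        rw [map_mul, map_inv]
        exact QuotientGroup.eq.mp h1
      obtain ⟨k, hk, hkcl⟩ := hmem
      have hkA : ((k⁻¹ * ((R (φ v))⁻¹ * cj v) : S.E) : Aut V) ∈ S.A0 :=
        (cl_eq_one S).mp (by rw [map_mul, map_inv, hkcl, inv_mul_cancel])
      refine ⟨⟨_, hkA⟩, ?_⟩
      set z : Aut V := ((k⁻¹ * ((R (φ v))⁻¹ * cj v) : S.E) : Aut V) with hzdef
      have hsplit : (cj v : Aut V) = (R (φ v) : Aut V) * (k : Aut V) * z := by
        rw [hzdef]
        simp only [Subgroup.coe_mul, Subgroup.coe_inv]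
        group
      show (cj v : Aut V) • W.x = z • (R (φ v) : Aut V) • W.x
      rw [hsplit, S.cen _ (S.C.mul_mem (S.e_le (R (φ v)).2) (S.e_le k.2)) z hkA, mul_smul, mul_smul,
        W.x_W (k : Aut V) hk]
    choose z hz using hz
    let bt : (Fin 5 → ZMod 2) → (Fin 5 → ZMod 2) → S.A0 := fun v w =>
      S.beta (cl S (cj v)) (cl S (R (φ w)))
    have hzadd : ∀ v w, z (v + w) = z v * z w * bt v w := by
      intro v w
      refine Subtype.ext ?_
      by_contra hne
      have hb : (cj v : Aut V) * R (φ w) = (bt v w : Aut V) * ((R (φ w) : Aut V) * cj v) := by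
        show _ = ((S.beta (cl S (cj v)) (cl S (R (φ w))) : S.A0) : Aut V) * _
        rw [beta_cl, commutatorElement_def]
        group
      have hlin : ∀ (e : S.E) (a : S.A0) (y : V),
          (e : Aut V) • (a : Aut V) • y = (a : Aut V) • (e : Aut V) • y := fun e a y => by
        rw [← mul_smul, S.cen _ (S.e_le e.2) _ a.2, mul_smul]
      have h1 : ((z (v + w) : S.A0) : Aut V) • (R (φ (v + w)) : Aut V) • W.x =
          ((z v * z w * bt v w : S.A0) : Aut V) • (R (φ (v + w)) : Aut V) • W.x := by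
        rw [← hz, hcjadd, Subgroup.coe_mul, mul_smul, hz w, hlin, ← mul_smul (cj v : Aut V), hb,
          mul_smul, mul_smul, hz v, hlin, ← mul_smul (R (φ w) : Aut V), ← Subgroup.coe_mul,
          ← hRadd, ← map_add, add_comm w v, ← mul_smul, ← mul_smul, ← mul_smul, ← mul_smul]
        congr 1
        rw [show z v * z w * bt v w = z w * bt v w * z v by
          letI : CommGroup S.A0 := IsCyclic.commGroup
          rw [mul_comm (z w * bt v w), mul_assoc]]
        simp only [Subgroup.coe_mul]
      refine W.x_ne ((smul_eq_zero_iff_eq (R (φ (v + w)) : Aut V)).mp (hf _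
        (S.A0.mul_mem (S.A0.inv_mem (z v * z w * bt v w).2) (z (v + w)).2)
        (fun e => hne (inv_mul_eq_one.mp e).symm) _ ?_))
      rw [mul_smul, h1, inv_smul_smul]
    let P : (Fin 5 → ZMod 2) → ZMod 2 := fun v => χ (Additive.ofMul (z v))
    let bl : (Fin 5 → ZMod 2) → (Fin 5 → ZMod 2) → ZMod 2 := fun v w => χ (Additive.ofMul (bt v w))
    have hrel := quad_relations (fun a => CharTwo.add_self_eq_zero a) P bl
      (fun u v => by simp only [P, bl, hzadd, ofMul_mul, map_add])
      (fun u u' v => by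
        simp only [bl, bt, hcjadd, map_mul, MonoidHom.mul_apply, ofMul_mul, map_add])
    have himg : ∀ b, b < 2 ^ 5 →
        img (List.ofFn fun i => mask (φ (Pi.single i 1))) b = mask (φ (vec 5 b)) := fun b hb =>
      img_ofFn mask_add5 5 φ.toAddMonoidHom b hb
    have hdif : ∀ b : Fin 32, inSet B5 (vec 5 b) →
        ((dif 1 G5 (List.ofFn fun i => mask (φ (Pi.single i 1))) b : ℕ) : ZMod 2) = P (vec 5 b) := by
      intro b hb
      have h1 := hσR (el (vec 5 b)) ((hT _).mpr hb)
      rw [hco, ← hφ, hco] at h1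
      have hlin : ∀ (e : Aut V), e ∈ S.C → ∀ (a : S.A0) (y : V),
          e • (a : Aut V) • y = (a : Aut V) • e • y := fun e he a y => by
        rw [← mul_smul, S.cen _ he _ a.2, mul_smul]
      have hgR : g • (R (vec 5 b) : Aut V) • W.x = (cj (vec 5 b) : Aut V) • W.x := by
        show _ = (g * (R (vec 5 b) : Aut V) * g⁻¹) • W.x
        rw [mul_smul, mul_smul, inv_smul_eq_iff.mpr hgx.symm]
      rw [hlin _ (S.e_le (R _).2), hlin g hg, hgR, hz, ← mul_smul, ← Subgroup.coe_mul,
        hlin _ (S.e_le (R _).2)] at h1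
      have hcol : col (vec 5 b) * z (vec 5 b) = col (φ (vec 5 b)) := by
        refine Subtype.ext ?_
        by_contra hne
        refine W.x_ne ((smul_eq_zero_iff_eq (R (φ (vec 5 b)) : Aut V)).mp (hf _
          (S.A0.mul_mem (S.A0.inv_mem (col (φ (vec 5 b))).2) (col (vec 5 b) * z (vec 5 b)).2)
          (fun e => hne (inv_mul_eq_one.mp e).symm) _ ?_))
        rw [mul_smul, h1, inv_smul_smul]
      have h2 := congrArg (fun a : S.A0 => χ (Additive.ofMul a)) hcol
      simp only [col, ofMul_mul, map_add, ofMul_toMul, hα] at h2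
      rw [dif, himg b b.2, ← mask_vec5 b]
      have hlt1 := look_lt 1 G5 (mask (φ (vec 5 b)))
      have hlt2 := look_lt 1 G5 (mask (vec 5 b))
      rw [vec_mask5]
      have h3 : ∀ a c : ℕ, a < 2 → c < 2 → ((a ^^^ c : ℕ) : ZMod 2) = a + c := by
        intro a c ha hc
        interval_cases a <;> interval_cases c <;> decide
      rw [h3 _ _ hlt1 hlt2, ← h2, add_comm (look 1 G5 (mask (vec 5 b)) : ZMod 2), add_assoc,
        CharTwo.add_self_eq_zero, add_zero]
    have hC5 : ∀ L ∈ C5, ∀ b ∈ L, b < 32 ∧ inSet B5 (vec 5 b) := by decide +kernel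
    have hid := rigid5 φ hB fun L hL => by
      refine difSum_eq_zero (fun a => (a : ZMod 2)) Nat.cast_zero ?_ ?_ (fun b => P (vec 5 b)) L
        (fun b hb => hdif ⟨b, (hC5 L hL b hb).1⟩ (hC5 L hL b hb).2) (hrel L hL)
      · intro a c ha hc
        interval_cases a <;> interval_cases c <;> decide
      · intro a ha h
        interval_cases a
        · rfl
        · exact absurd h (by decide)
    intro q
    obtain ⟨v, rfl⟩ := helsurj q
    rw [← hφ, hid]

lemma mask_lt3 : ∀ v : Fin 3 → ZMod 2, mask v < 2 ^ 3 := by decide +kernel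

lemma mask_lt4 : ∀ v : Fin 4 → ZMod 2, mask v < 2 ^ 4 := by decide +kernel

set_option maxHeartbeats 1000000 in
/-- Linearly twisted colours by the four lines in the component of the trivial class. -/
theorem hasPair_lines (hf : Fpf S) (W : Witness F) (hN : Nat.card S.A0 = 2) (hDX : ¬ F.D ≤ F.X)
    {n B G : ℕ} {cs : List (List ℕ)} (hQ : Nat.card (S.U ⧸ F.D) = 2 ^ n)
    (hadd : ∀ v w : Fin n → ZMod 2, mask (v + w) = mask v ^^^ mask w)
    (h0 : ¬ inSet B (0 : Fin n → ZMod 2))
    (hbas : ∀ i : Fin n, inSet B (Pi.single (M := fun _ => ZMod 2) i 1))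
    (hpair : ∀ i j : Fin n, i ≠ j →
      inSet B (Pi.single (M := fun _ => ZMod 2) i 1 + Pi.single (M := fun _ => ZMod 2) j 1))
    (hcs : ∀ L ∈ cs, (∀ b ∈ L, b < 2 ^ n ∧ inSet B (vec n b) ∧ mask (vec n b) = b) ∧
      (L.map (vec n)).sum = 0)
    (hrigid : ∀ φ : (Fin n → ZMod 2) ≃+ (Fin n → ZMod 2), (∀ v, inSet B (φ v) ↔ inSet B v) →
      (∀ L ∈ cs, difSum 2 G (List.ofFn fun i => mask (φ (Pi.single i 1))) L = 0) → ∀ v, φ v = v) :
    HasPair S.A := by
  classical
  have hsq : ∀ u : S.U, u * u = 1 := fun u => by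
    rw [← sq]; exact sq_eq_one_of_small (Or.inl hN) u
  haveI := Fact.mk Nat.prime_two
  have hpart : part F 2 = ⊤ := by
    refine eq_top_iff.mpr fun q _ => ?_
    obtain ⟨e, rfl⟩ := F.qc_surjective q
    rw [mem_part, ← map_pow, Frame.qc_eq_one, map_pow, sq, hsq]
    exact F.D.one_mem
  obtain ⟨n', ⟨c0⟩⟩ := exists_coord F 2
  obtain rfl : n' = n := by
    have h := Nat.card_congr c0.toEquiv
    rw [show Nat.card (Additive (part F 2)) = Nat.card (part F 2) from rfl, hpart,
      Subgroup.card_top, hQ, Nat.card_fun, Nat.card_zmod, Nat.card_fin] at h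
    exact (Nat.pow_right_injective le_rfl h).symm
  -- a linear section
  have hlift : ∀ i : Fin n', ∃ e : S.E,
      F.qc e = ((Additive.toMul (c0.symm (Pi.single i 1)) : part F 2) : S.U ⧸ F.D) := fun i =>
    F.qc_surjective _
  choose f hf1 using hlift
  have hU : ∀ x : Additive S.U, x + x = 0 := fun x => hsq (Additive.toMul x)
  letI : Module (ZMod 2) (Additive S.U) :=
    AddCommGroup.zmodModule (n := 2) (fun x => by rw [two_nsmul]; exact hU x)
  let sl : (Fin n' → ZMod 2) →ₗ[ZMod 2] Additive S.U :=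
    Fintype.linearCombination (ZMod 2) fun i => Additive.ofMul (cl S (f i))
  have hsl1 : ∀ i, sl (Pi.single i 1) = Additive.ofMul (cl S (f i)) := fun i => by
    rw [Fintype.linearCombination_apply_single, one_smul]
  let el : (Fin n' → ZMod 2) → S.U ⧸ F.D := fun v =>
    ((Additive.toMul (c0.symm v) : part F 2) : S.U ⧸ F.D)
  have heladd : ∀ v w, el (v + w) = el v * el w := fun v w => by
    simp only [el, map_add, toMul_add, Subgroup.coe_mul]
  have helinj : Function.Injective el := fun v w e =>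
    c0.symm.injective (Additive.toMul.injective (Subtype.ext e))
  have helsurj : Function.Surjective el := fun q =>
    ⟨c0 (Additive.ofMul ⟨q, hpart ▸ Subgroup.mem_top q⟩), by simp [el]⟩
  have hel0 : el 0 = 1 := by simp [el]
  let co : (Fin n' → ZMod 2) ≃ S.U ⧸ F.D := Equiv.ofBijective el ⟨helinj, helsurj⟩
  have hslq : ∀ v, (QuotientGroup.mk (Additive.toMul (sl v)) : S.U ⧸ F.D) = el v := by
    intro v
    let d : (Fin n' → ZMod 2) →+ Additive (S.U ⧸ F.D) :=
      AddMonoidHom.mk' (fun v => Additive.ofMul (QuotientGroup.mk (Additive.toMul (sl v))))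
        fun v w => by rw [map_add, toMul_add, QuotientGroup.mk_mul, ofMul_mul]
    let d' : (Fin n' → ZMod 2) →+ Additive (S.U ⧸ F.D) :=
      AddMonoidHom.mk' (fun v => Additive.ofMul (el v)) fun v w => by rw [heladd, ofMul_mul]
    have hdd : d = d' := AddMonoidHom.functions_ext _ _ _ fun i x => by
      rcases zmod_two_cases x with rfl | rfl
      · simp
      · show Additive.ofMul (QuotientGroup.mk (Additive.toMul (sl (Pi.single i 1)))) =
          Additive.ofMul (el (Pi.single i 1))
        rw [hsl1, toMul_ofMul]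
        exact congrArg Additive.ofMul (hf1 i)
    exact Additive.ofMul.injective (DFunLike.congr_fun hdd v)
  have hR : ∀ v, ∃ e : S.E, cl S e = Additive.toMul (sl v) ∧
      (∀ i, v = unitVec (fun _ => 2) i → e = f i) ∧
      ∀ i j, i ≤ j → v = unitVec (fun _ => 2) i + unitVec (fun _ => 2) j → v ≠ 0 → e = f i * f j := by
    intro v
    have hM : ∀ _a : Fin n', 1 < 2 := fun _ => Nat.one_lt_two
    by_cases h1 : ∃ i, v = unitVec (fun _ => 2) i
    · obtain ⟨i, rfl⟩ := h1
      refine ⟨f i, by rw [show unitVec (fun _ : Fin n' => 2) i = Pi.single i 1 from rfl, hsl1]; rfl,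
        fun i' e => ?_, fun a b _ e _ => ?_⟩
      · rw [unitVec_injective (M := fun _ => 2) hM e]
      · exact absurd e.symm (pair_ne (M := fun _ => 2) hM a b i)
    push Not at h1
    by_cases h2 : ∃ i j, i ≤ j ∧ v = unitVec (fun _ => 2) i + unitVec (fun _ => 2) j ∧ v ≠ 0
    · obtain ⟨i, j, hij, rfl, hv⟩ := h2
      refine ⟨f i * f j, ?_, fun i' e => absurd e (h1 i'), fun i' j' hij' e _ => ?_⟩
      · show _ = Additive.toMul (sl (Pi.single i 1 + Pi.single j 1))
        rw [map_add, hsl1, hsl1, map_mul]; rfl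
      · obtain ⟨rfl, rfl⟩ := pair_unique (M := fun _ => 2) hM hij hij' e hv
        rfl
    push Not at h2
    obtain ⟨e, he⟩ := cl_surjective S (Additive.toMul (sl v))
    exact ⟨e, he, fun i e' => absurd e' (h1 i), fun i j hij e' hv => absurd (h2 i j hij e') hv⟩
  choose R hRcl hRone hRpair using hR
  -- the four lines
  let μ : ℕ → S.E := fun a => (if a.testBit 0 then W.m1 else 1) * (if a.testBit 1 then W.m2 else 1)
  have hμD : ∀ a, cl S (μ a) ∈ F.D := fun a => by
    simp only [μ, map_mul, apply_ite (cl S), map_one]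
    refine F.D.mul_mem ?_ ?_ <;> split_ifs
    exacts [W.m1_D, F.D.one_mem, W.m2_D, F.D.one_mem]
  let M := Additive (S.U ⧸ F.X)
  let κ : ℕ → M := fun a => Additive.ofMul (QuotientGroup.mk (cl S (μ a)))
  obtain ⟨hn1, hn2, hn12⟩ := witness_notMem W hDX
  have hκ0 : κ 0 = 0 := by simp [κ, μ]
  have hκadd : ∀ a b, a < 2 ^ 2 → b < 2 ^ 2 → κ (a ^^^ b) = κ a + κ b := by
    intro a b ha hb
    show Additive.ofMul (QuotientGroup.mk (cl S (μ (a ^^^ b)))) =
      Additive.ofMul (QuotientGroup.mk (cl S (μ a)) * QuotientGroup.mk (cl S (μ b)) : S.U ⧸ F.X)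
    rw [← QuotientGroup.mk_mul]
    congr 2
    have e1 := hsq (cl S W.m1)
    have e2 := hsq (cl S W.m2)
    simp only [μ, Nat.testBit_xor, map_mul, apply_ite (cl S), map_one]
    rw [mul_mul_mul_comm]
    congr 1
    · cases a.testBit 0 <;> cases b.testBit 0 <;> simp [e1]
    · cases a.testBit 1 <;> cases b.testBit 1 <;> simp [e2]
  have hκker : ∀ a, a < 2 ^ 2 → κ a = 0 → a = 0 := by
    intro a ha h
    have h' : cl S (μ a) ∈ F.X := (QuotientGroup.eq_one_iff _).mp h
    norm_num at ha
    interval_cases a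
    · rfl
    · exact absurd (by simpa [μ, Nat.testBit] using h') hn1
    · exact absurd (by simpa [μ, Nat.testBit] using h') hn2
    · exact absurd (by simpa [μ, Nat.testBit] using h') hn12
  have : Fintype (S.U ⧸ F.D) := Fintype.ofFinite _
  let T' : Finset (S.U ⧸ F.D) := Finset.univ.filter fun q => inSet B (co.symm q)
  have hco : ∀ v, co.symm (el v) = v := fun v => co.symm_apply_apply v
  have hT : ∀ v, el v ∈ T' ↔ inSet B v := fun v => by
    simp only [T', Finset.mem_filter, Finset.mem_univ, true_and, hco]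
  let col : (Fin n' → ZMod 2) → ℕ := fun v => look 2 G (mask v)
  have hgμ : ∀ g ∈ S.C, g • W.x = W.x → g • W.w = W.w → ∀ a,
      g • (μ a : Aut V) • W.x = (μ a : Aut V) • W.x := by
    intro g hg hgx hgw a
    obtain ⟨-, h1, h2⟩ := W.pin g (S.c_le hg) hgx hgw
    by_cases b0 : a.testBit 0 = true <;> by_cases b1 : a.testBit 1 = true <;>
      simp only [μ, b0, b1, if_true, Bool.false_eq_true, if_false, one_mul, mul_one]
    · -- both
      have hk : (W.m1 : Aut V)⁻¹ * (g * W.m1 * g⁻¹) ∈ F.K := by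
        refine F.max W.x W.x_ne W.x_W _
          (S.E.mul_mem (S.E.inv_mem W.m1.2) (S.e_norm g (S.c_le hg) _ W.m1.2)) ?_
        rw [mul_smul, mul_smul, mul_smul, inv_smul_eq_iff.mpr hgx.symm, h1, inv_smul_smul]
      rw [Subgroup.coe_mul, mul_smul]
      calc g • (W.m1 : Aut V) • (W.m2 : Aut V) • W.x
          = (W.m1 : Aut V) • ((W.m1 : Aut V)⁻¹ * (g * W.m1 * g⁻¹)) • g • (W.m2 : Aut V) • W.x := by
            simp only [← mul_smul]; congr 1; group
        _ = (W.m1 : Aut V) • (W.m2 : Aut V) • W.x := by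
            rw [h2, F.inW_smul W.m2_D W.x_W _ hk]
    · exact h1
    · exact h2
    · simpa using hgx
  refine Colouring.hasPair (W := W)
    { ι := ULift.{u} (Fin n')
      finite := inferInstance
      f := fun i => f i.down
      pr := fun _ => 2
      pr_prime := fun _ => Nat.prime_two
      f_pow := fun i => by
        rw [← map_pow, Frame.qc_eq_one, map_pow, sq, hsq]
        exact F.D.one_mem
      gen := ?_
      T := T'
      one_notMem := fun h => h0 ((hT 0).mp (by rwa [hel0]))
      R := fun q => R (co.symm q)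
      R_mem := fun q _ => by
        show (QuotientGroup.mk (cl S (R (co.symm q))) : S.U ⧸ F.D) = q
        rw [hRcl, hslq]
        exact co.apply_symm_apply q
      t := fun q => (μ (col (co.symm q)) : Aut V) • W.x
      t_ne := fun q _ e => W.x_ne ((smul_eq_zero_iff_eq _).mp e)
      t_W := fun q _ => F.inW_smul (hμD _) W.x_W
      t_fix := fun g hg hgx hgw q _ => hgμ g hg hgx hgw _
      basis := fun i => ⟨el (Pi.single i.down 1), (hT _).mpr (hbas i.down), by
        show R (co.symm _) = _
        rw [hco]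
        exact hRone _ i.down rfl⟩
      pairs := ?_
      rigid := ?_ } hf
  · rw [eq_top_iff]
    intro q _
    obtain ⟨v, rfl⟩ := helsurj q
    set H := Subgroup.closure (Set.range fun i : ULift.{u} (Fin n') => F.qc (f i.down))
    let d' : (Fin n' → ZMod 2) →+ Additive (S.U ⧸ F.D) :=
      AddMonoidHom.mk' (fun v => Additive.ofMul (el v)) fun v w => by rw [heladd, ofMul_mul]
    show v ∈ (Subgroup.toAddSubgroup H).comap d'
    rw [← Finset.univ_sum_single v]
    refine sum_mem fun i _ => ?_
    rw [← ZMod.natCast_zmod_val (v i), ← nsmul_one, Pi.single_smul]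
    refine nsmul_mem ?_ _
    exact Subgroup.subset_closure ⟨⟨i⟩, hf1 i⟩
  · rintro ⟨i⟩ ⟨j⟩ -
    rcases eq_or_ne i j with rfl | hij
    · refine Or.inr (Or.inr ⟨rfl, ?_⟩)
      exact (cl_eq_one S (e := f i * f i)).mp (by rw [map_mul, hsq])
    · have hne : unitVec (fun _ : Fin n' => 2) i + unitVec (fun _ => 2) j ≠ 0 := fun h =>
        h0 (h ▸ hpair i j hij)
      have hmem := (hT _).mpr (hpair i j hij)
      rcases le_total i j with h | h
      · refine Or.inl ⟨_, hmem, ?_⟩
        show R (co.symm _) = _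
        rw [hco]
        exact hRpair _ i j h rfl hne
      · refine Or.inr (Or.inl ⟨_, hmem, ?_⟩)
        show R (co.symm _) = _
        rw [hco]
        exact hRpair _ j i h (add_comm _ _) hne
  · intro g hg hgx hgw σ _ hσT hσR
    let φ₀ : (Fin n' → ZMod 2) →+ (Fin n' → ZMod 2) := AddMonoidHom.mk' (fun v => co.symm (σ (el v)))
      fun v w => co.injective (by
        rw [co.apply_symm_apply]
        show σ (el (v + w)) = el (co.symm (σ (el v)) + co.symm (σ (el w)))
        rw [heladd, heladd, map_mul]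
        exact congrArg₂ (· * ·) (co.apply_symm_apply _).symm (co.apply_symm_apply _).symm)
    have hφinj : Function.Injective φ₀ := fun v w e =>
      helinj (σ.injective (co.symm.injective e))
    let φ := AddEquiv.ofBijective φ₀ ⟨hφinj, Finite.injective_iff_surjective.mp hφinj⟩
    have hφ : ∀ v, el (φ v) = σ (el v) := fun v => co.apply_symm_apply _
    have hB : ∀ v, inSet B (φ v) ↔ inSet B v := fun v => by rw [← hT, ← hT, hφ, hσT]
    let q' : Additive S.U →+ M := MonoidHom.toAdditive (QuotientGroup.mk' F.X)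
    let lam : (Fin n' → ZMod 2) →+ M := AddMonoidHom.mk'
      (fun v => q' (sl (φ v) + S.act ⟨g, S.c_le hg⟩ • sl v))
      fun v w => by
        rw [map_add φ, map_add sl, map_add sl, smul_add, ← map_add q']
        congr 1
        abel
    have hlam : ∀ v, inSet B v → κ (col (φ v)) + κ (col v) = lam v := by
      intro v hv
      have h1 := hσR (el v) ((hT _).mpr hv)
      simp only [hco, ← hφ] at h1
      let e : S.E := ⟨g * R v * g⁻¹, S.e_norm g (S.c_le hg) _ (R v).2⟩
      have he : (e : Aut V) • (μ (col v) : Aut V) • W.x = g • (R v : Aut V) • (μ (col v) : Aut V) • W.x := by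
        show (g * (R v : Aut V) * g⁻¹) • _ = _
        rw [mul_smul, mul_smul, inv_smul_eq_iff.mpr (hgμ g hg hgx hgw _).symm]
      let k : S.E := (R (φ v) * μ (col (φ v)))⁻¹ * (e * μ (col v))
      have hk : (k : Aut V) ∈ F.K := by
        refine F.max W.x W.x_ne W.x_W _ k.2 ?_
        show (((R (φ v) : Aut V) * μ (col (φ v)))⁻¹ * ((e : Aut V) * μ (col v))) • W.x = W.x
        rw [mul_smul, mul_smul, he, h1, inv_smul_eq_iff, mul_smul]
      have hX : cl S k ∈ F.X := ⟨k, hk, rfl⟩
      have he' : Additive.ofMul (cl S e) = S.act ⟨g, S.c_le hg⟩ • sl v := by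
        rw [show sl v = Additive.ofMul (QuotientGroup.mk (R v) : S.U) from
          congrArg Additive.ofMul (hRcl v).symm, S.act_mk]
        rfl
      have h2 : q' (Additive.ofMul (cl S k)) = 0 := (QuotientGroup.eq_one_iff _).mpr hX
      have hneg : ∀ x : Additive S.U, -x = x := fun x => neg_eq_of_add_eq_zero_left (hU x)
      have hkval : Additive.ofMul (cl S k) = (sl (φ v) + Additive.ofMul (cl S (μ (col (φ v))))) +
          (S.act ⟨g, S.c_le hg⟩ • sl v + Additive.ofMul (cl S (μ (col v)))) := by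
        rw [← he']
        simp only [k, map_mul (cl S), map_inv (cl S)]
        rw [ofMul_mul, ofMul_inv, ofMul_mul, ofMul_mul, hneg, hRcl, ofMul_toMul]
      rw [hkval, map_add, map_add, map_add] at h2
      have hself : ∀ z : M, z + z = 0 := fun z => by
        obtain ⟨x, rfl⟩ : ∃ x, q' x = z := by
          obtain ⟨y, hy⟩ := QuotientGroup.mk'_surjective F.X (Additive.toMul z)
          exact ⟨Additive.ofMul y, congrArg Additive.ofMul hy⟩
        rw [← map_add, hU, map_zero]
      show κ (col (φ v)) + κ (col v) = q' (sl (φ v) + S.act ⟨g, S.c_le hg⟩ • sl v)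
      rw [map_add]
      change q' (sl (φ v)) + κ (col (φ v)) + (q' (S.act ⟨g, S.c_le hg⟩ • sl v) + κ (col v)) = 0 at h2
      rw [add_add_add_comm] at h2
      rw [eq_neg_of_add_eq_zero_right h2, neg_eq_of_add_eq_zero_left (hself _)]
    have hid := hrigid φ hB fun L hL => by
      obtain ⟨hL1, hL2⟩ := hcs L hL
      refine difSum_eq_zero κ hκ0 hκadd hκker (fun b => lam (vec n' b)) L (fun b hb => ?_) ?_
      · obtain ⟨hb1, hb2, hb3⟩ := hL1 b hb
        have himg := img_ofFn hadd n' φ.toAddMonoidHom b hb1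
        rw [dif, show img (List.ofFn fun i => mask (φ (Pi.single i 1))) b = mask (φ (vec n' b)) from himg,
          hκadd _ _ (look_lt _ _ _) (look_lt _ _ _), ← hlam _ hb2]
        simp only [col, hb3]
      · rw [show (fun b => lam (vec n' b)) = lam ∘ vec n' from rfl, ← List.map_map, ← map_list_sum,
          hL2, map_zero]
    intro q
    obtain ⟨v, rfl⟩ := helsurj q
    rw [← hφ, hid]

/-- Three classes of order two and two extra generators. -/
theorem hasPair_lines3 (hf : Fpf S) (W : Witness F) (hN : Nat.card S.A0 = 2) (hDX : ¬ F.D ≤ F.X)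
    (hQ : Nat.card (S.U ⧸ F.D) = 2 ^ 3) : HasPair S.A :=
  hasPair_lines hf W hN hDX (B := B3) (G := G3) (cs := C3) hQ mask_add3 (by decide +kernel)
    (by decide +kernel) (by decide +kernel) (by decide +kernel) rigid3

/-- Four classes of order two and two extra generators. -/
theorem hasPair_lines4 (hf : Fpf S) (W : Witness F) (hN : Nat.card S.A0 = 2) (hDX : ¬ F.D ≤ F.X)
    (hQ : Nat.card (S.U ⧸ F.D) = 2 ^ 4) : HasPair S.A :=
  hasPair_lines hf W hN hDX (B := B4) (G := G4) (cs := C4) hQ mask_add4 (by decide +kernel)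
    (by decide +kernel) (by decide +kernel) (by decide +kernel) rigid4

end CfsgLib.SolvBase
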