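import Cfsg.Agent.SolvBase.CoprimeBlocks
import Cfsg.Agent.SolvBase.Count
import Cfsg.Agent.SolvBase.NoTwo
import Cfsg.Agent.SolvBase.SmallPairs
import Cfsg.Agent.SolvBase.Twisted

/-!
Pairs for soluble linear groups of order prime to the odd characteristic: all cases together.
-/

set_option autoImplicit false
set_option linter.style.haveILetI false
set_option linter.unusedSectionVars false

universe u

namespace CfsgLib.SolvBase

open OddBase SmallModel
open scoped commutatorElement

variable {V : Type u} [AddCommGroup V] [Finite V] [Nontrivial V] {S : Setup (Aut V)}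

lemma card_spanRing_full (hfull : Full S) :
    Nat.card (spanRing S.A0) = Nat.card S.A0 + 1 := by
  classical
  rw [← Finite.card_option]
  obtain ⟨v, hv⟩ := exists_ne (0 : V)
  refine (Nat.card_eq_of_bijective
    (fun o : Option S.A0 => (o.elim 0 (toRing S.A0) : spanRing S.A0)) ⟨?_, fun z => ?_⟩).symm
  · rintro (_ | a) (_ | b) h
    · rfl
    · exact absurd (DFunLike.congr_fun (congrArg Subtype.val h) v) (fun e => hv
        ((smul_eq_zero_iff_eq (b : Aut V)).mp e.symm))
    · exact absurd (DFunLike.congr_fun (congrArg Subtype.val h) v) (fun e => hv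
        ((smul_eq_zero_iff_eq (a : Aut V)).mp e))
    · exact congrArg some (toRing_injective _ h)
  · by_cases h0 : z = 0
    · exact ⟨none, h0.symm⟩
    · obtain ⟨a, ha, hza⟩ := hfull _ z.2 fun e => h0 (Subtype.ext e)
      exact ⟨some ⟨a, ha⟩, Subtype.ext hza⟩

lemma prime_dvd_card_spanRing {p : ℕ} (hp : p.Prime) (hV : ∀ v : V, p • v = 0) :
    p ∣ Nat.card (spanRing S.A0) := by
  have h : p • (1 : spanRing S.A0) = 0 := Subtype.ext (AddMonoidHom.ext fun v => by
    show ((p • (1 : spanRing S.A0) : spanRing S.A0) : AddMonoid.End V) v = 0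
    rw [nsmul_one, Subring.coe_natCast, AddMonoid.End.natCast_apply, hV])
  have h1 : addOrderOf (1 : spanRing S.A0) = p := by
    haveI := Fact.mk hp
    refine addOrderOf_eq_prime h fun e => ?_
    obtain ⟨v, hv⟩ := exists_ne (0 : V)
    exact hv (DFunLike.congr_fun (congrArg Subtype.val e) v)
  rw [← h1]
  exact addOrderOf_dvd_natCard _

lemma exists_neg (hfull : Full S) : ∃ c ∈ S.A0, ∀ v : V, c • v = -v := by
  obtain ⟨v, hv⟩ := exists_ne (0 : V)
  have h1 : (-1 : AddMonoid.End V) ≠ 0 := fun h => hv (by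
    have := DFunLike.congr_fun h v
    change -v = 0 at this
    exact neg_eq_zero.mp this)
  obtain ⟨a, ha, hae⟩ := hfull _ (Subring.neg_mem _ (Subring.one_mem _)) h1
  refine ⟨a, ha, fun w => ?_⟩
  show (a : AddMonoid.End V) w = -w
  rw [hae]
  rfl

lemma exists_sqrt_neg (hfull : Full S) (h4 : Nat.card S.A0 = 4 ∨ Nat.card S.A0 = 8) :
    ∃ t ∈ S.A0, ∀ v : V, (t * t) • v = -v := by
  obtain ⟨c, hc, hcneg⟩ := exists_neg hfull
  haveI := S.cyc
  obtain ⟨γ, hγ⟩ := IsCyclic.exists_zpow_surjective (G := S.A0)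
  obtain ⟨j, hj⟩ := hγ ⟨c, hc⟩
  have hc2 : (⟨c, hc⟩ : S.A0) ^ 2 = 1 := by
    refine Subtype.ext (aut_ext fun v => ?_)
    rw [Subgroup.coe_pow, sq, mul_smul, hcneg, hcneg, neg_neg, OneMemClass.coe_one, one_smul]
  have hjeven : Even j := by
    have hd : (orderOf γ : ℤ) ∣ j * 2 := by
      rw [orderOf_dvd_iff_zpow_eq_one, zpow_mul, show γ ^ j = ⟨c, hc⟩ from hj, zpow_two, ← sq, hc2]
    rw [orderOf_eq_card_of_forall_mem_zpowers fun x => hγ x] at hd
    rcases h4 with h | h <;> rw [h] at hd <;> obtain ⟨i, hi⟩ := hd <;> push_cast at hi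
    · exact ⟨i, by omega⟩
    · exact ⟨2 * i, by omega⟩
  obtain ⟨i, rfl⟩ := hjeven
  refine ⟨(γ ^ i : S.A0), (γ ^ i).2, fun v => ?_⟩
  rw [← Subgroup.coe_mul, ← zpow_add, show γ ^ (i + i) = ⟨c, hc⟩ from hj]
  exact hcneg v

/-- Soluble groups all of whose normal abelian subgroups span fields have pairs. -/
theorem primPairs : PrimPairs.{u} := by
  intro p hp hp2 V _ _ hnt hV A hsol hA _ hfield
  obtain ⟨S, hAS, hsol', hA', hAn, hC, hf, hfull, hfl⟩ := exists_full_setup hsol hfield hp hV hA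
  suffices h : HasPair S.A by
    obtain ⟨v, w, hvw⟩ := h
    exact ⟨v, w, fun a ha => hvw a (hAS ha)⟩
  obtain ⟨F⟩ := exists_frame S
  obtain ⟨W⟩ := exists_witness hAn hC hf hfull hfl F
  have h2 := two_dvd_card_A0 hp hp2 hV hfull
  by_cases hN : Nat.card S.A0 = 2 ∨ Nat.card S.A0 = 4 ∨ Nat.card S.A0 = 8
  swap
  · push Not at hN
    exact hasPair_large hf W h2 (Or.inl hN)
  have hU2 : ∀ u : S.U, u * u = 1 := fun u => by rw [← sq]; exact sq_eq_one_of_small hN u
  -- the characteristic
  have hq := card_spanRing_full (S := S) hfull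
  obtain ⟨k, hk⟩ : ∃ k, Nat.card S.A0 + 1 = p ^ k := by
    have hd := prime_dvd_card_spanRing (S := S) hp hV
    rw [hq] at hd
    rcases hN with h | h | h <;> rw [h] at hd ⊢
    · exact ⟨1, by rw [(Nat.prime_dvd_prime_iff_eq hp Nat.prime_three).mp hd]; norm_num⟩
    · exact ⟨1, by rw [(Nat.prime_dvd_prime_iff_eq hp Nat.prime_five).mp hd]; norm_num⟩
    · exact ⟨2, by
        rw [(Nat.prime_dvd_prime_iff_eq hp Nat.prime_three).mp (hp.dvd_of_dvd_pow (n := 2) hd)]
        norm_num⟩
  have hcop : (Nat.card S.A).Coprime (Nat.card (spanRing S.A0)) := by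
    rw [hq, hk]
    exact ((hp.coprime_iff_not_dvd.mpr hA').symm).pow_right k
  -- the number of classes
  haveI := Fact.mk Nat.prime_two
  obtain ⟨n, ⟨c0⟩⟩ := exists_coord F 2
  have hpart : part F 2 = ⊤ := by
    refine eq_top_iff.mpr fun q _ => ?_
    obtain ⟨e, rfl⟩ := F.qc_surjective q
    rw [mem_part, ← map_pow, Frame.qc_eq_one, map_pow, sq, hU2]
    exact F.D.one_mem
  have hcard : Nat.card (part F 2) = 2 ^ n := by
    rw [show Nat.card (part F 2) = Nat.card (Additive (part F 2)) from rfl, Nat.card_congr c0.toEquiv,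
      Nat.card_fun, Nat.card_zmod, Nat.card_fin]
  have hQ : Nat.card (S.U ⧸ F.D) = 2 ^ n := by rw [← hcard, hpart, Subgroup.card_top]
  by_cases hn1 : n ≤ 1
  · refine hasPair_large hf W h2 (Or.inr ?_)
    rw [hcard]
    exact (Nat.pow_le_pow_right two_pos hn1).trans (by norm_num)
  by_cases hn6 : 6 ≤ n
  · refine hasPair_count hsol' hC hf hfull W hN (Or.inl ?_)
    rw [hQ]
    exact le_trans (by norm_num) (Nat.pow_le_pow_right two_pos hn6)
  by_cases hDX : F.D ≤ F.X
  · by_cases hn4 : n ≤ 4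
    · exact small_pairs S hsol' hAn hC hf hfull (by rw [hq]; omega) hcop F hDX n hQ (by omega) hn4
    · obtain rfl : n = 5 := by omega
      obtain ⟨⟨T⟩, -, -⟩ := exists_lifts hf F hDX (q := Nat.card S.A0 + 1) (by omega) rfl
        (exists_neg hfull) (fun h3 => exists_sqrt_neg hfull (by omega)) 5 hQ
      exact hasPair_five hf W T hU2 hDX hQ h2
  · have hN2 : Nat.card S.A0 = 2 := by
      rcases hN with h | h
      · exact h
      · exact absurd (D_le_X_of_four hf W h) hDX
    interval_cases n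
    · refine (no_two hsol' (fun h3 => ?_) hN2 hf W hDX hQ).elim
      rw [hq, hN2] at hcop
      exact absurd (Nat.eq_one_of_dvd_coprimes hcop h3 dvd_rfl) (by norm_num)
    · exact hasPair_lines3 hf W hN2 hDX hQ
    · exact hasPair_lines4 hf W hN2 hDX hQ
    · refine hasPair_count hsol' hC hf hfull W hN (Or.inr ⟨hDX, ?_⟩)
      rw [hQ]
      norm_num

/-- The coprime pairs. -/
theorem coprimePairs : CoprimePairs.{u} := coprimePairs_of_prim primPairs

end CfsgLib.SolvBase
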