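import Cfsg.Agent.SolvBase.CoprimeGroup
import Cfsg.Agent.FTRows.PiSep
import Cfsg.Agent.Kinf.TechExercises

/-!
Three conjugates of a Hall π-subgroup of a π-soluble group meet in the π-core, from pairs for
coprime soluble linear groups.
-/

set_option autoImplicit false
set_option linter.style.haveILetI false

universe u

namespace CfsgLib.SolvBase

open Subgroup Pointwise

variable {G : Type u} [Group G] [Finite G] {π : Set ℕ}

lemma piCore_primes (π : Set ℕ) (G : Type u) [Group G] [Finite G] :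
    ∀ p : ℕ, p.Prime → p ∣ Nat.card (Cfsg.piCore π G) → p ∈ π :=
  Cfsg.Agent.S3743.isPi_of_sup _ (fun _ hN => hN.1) (fun _ hN => hN.2)

lemma relIndex_dvd_of_normal {H K L : Subgroup G} [H.Normal] (h : K ≤ L) :
    H.relIndex K ∣ H.relIndex L := by
  rw [← QuotientGroup.ker_mk' H, relIndex_ker, relIndex_ker]
  exact card_dvd_of_le (map_mono h)

/-- The π'-core of a π-separable group without π-core is self-centralising. -/
theorem centralizer_piCore_le {n : ℕ} (N : Fin (n + 1) → Subgroup G) (h0 : N 0 = ⊥)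
    (h1 : N (Fin.last n) = ⊤) (hmono : Monotone N) (hn : ∀ i, (N i).Normal)
    (hi : ∀ i : Fin n, (∀ q : ℕ, q.Prime → q ∣ (N i.castSucc).relIndex (N i.succ) → q ∈ π) ∨
      (∀ q : ℕ, q.Prime → q ∣ (N i.castSucc).relIndex (N i.succ) → q ∉ π))
    (hO : Cfsg.piCore π G = ⊥) :
    centralizer (Cfsg.piCore {q | q ∉ π} G : Set G) ≤ Cfsg.piCore {q | q ∉ π} G := by
  set K := Cfsg.piCore {q | q ∉ π} G
  set C := centralizer (K : Set G) with hC
  by_contra hcon
  obtain ⟨i, hlo, hhi⟩ : ∃ i : Fin n, N i.castSucc ⊓ C ≤ K ∧ ¬ N i.succ ⊓ C ≤ K := by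
    by_contra h
    push Not at h
    have hall : ∀ j, N j ⊓ C ≤ K := fun j => Fin.induction (by rw [h0, bot_inf_eq]; exact bot_le)
      (fun j hj => h j hj) j
    exact hcon (by simpa [h1] using hall (Fin.last n))
  set M := N i.succ ⊓ C with hM
  haveI := hn i.succ
  haveI := hn i.castSucc
  haveI : K.Normal := inferInstance
  haveI : C.Normal := by rw [hC]; infer_instance
  haveI hMn : M.Normal := Subgroup.normal_inf_normal _ _
  have hdvd : (M ⊓ K).relIndex M ∣ (N i.castSucc).relIndex (N i.succ) := by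
    refine dvd_trans ?_ (relIndex_dvd_of_normal (H := N i.castSucc) (K := M) inf_le_left)
    rw [← inf_relIndex_right (N i.castSucc) M]
    exact relIndex_dvd_of_le_left M (le_inf inf_le_right
      ((le_inf inf_le_left (inf_le_right.trans inf_le_right)).trans hlo))
  have hcard : Nat.card ↥(M ⊓ K) * (M ⊓ K).relIndex M = Nat.card M := by
    rw [← relIndex_bot_left, ← relIndex_bot_left]
    exact relIndex_mul_relIndex ⊥ (M ⊓ K) M bot_le inf_le_left
  have hZ : ∀ p : ℕ, p.Prime → p ∣ Nat.card ↥(M ⊓ K) → p ∉ π := fun p hp hd =>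
    piCore_primes {q | q ∉ π} G p hp (hd.trans (card_dvd_of_le inf_le_right))
  rcases hi i with hπ | hπ'
  · set m := (M ⊓ K).relIndex M with hm
    have hcen : (M ⊓ K).subgroupOf M ≤ center M := fun z hz => Subgroup.mem_center_iff.mpr fun g =>
      Subtype.ext ((Subgroup.mem_centralizer_iff.mp g.2.2 z hz.2).symm)
    obtain ⟨c, hc⟩ : (center M).index ∣ m := index_dvd_of_le hcen
    have hhom : ∀ a b : M, (a * b) ^ m = a ^ m * b ^ m := fun a b => by
      have h := map_mul (MonoidHom.transferCenterPow M) a b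
      have h' : (a * b) ^ (center M).index = a ^ (center M).index * b ^ (center M).index :=
        congrArg Subtype.val h
      have hcomm : Commute (a ^ (center M).index) (b ^ (center M).index) :=
        (Subgroup.mem_center_iff.mp ((center M).pow_index_mem b) _)
      rw [hc, pow_mul, pow_mul, pow_mul, h', hcomm.mul_pow]
    let Q : Subgroup G :=
      { carrier := {x | x ∈ M ∧ x ^ m = 1}
        one_mem' := ⟨M.one_mem, one_pow _⟩
        mul_mem' := fun {a b} ha hb => ⟨M.mul_mem ha.1 hb.1, by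
          have := congrArg Subtype.val (hhom ⟨a, ha.1⟩ ⟨b, hb.1⟩)
          simp only [Subgroup.coe_mul, SubgroupClass.coe_pow] at this
          rw [this, ha.2, hb.2, one_mul]⟩
        inv_mem' := fun {a} ha => ⟨M.inv_mem ha.1, by rw [inv_pow, ha.2, inv_one]⟩ }
    have hQn : Q.Normal := ⟨fun a ha g => ⟨hMn.conj_mem a ha.1 g, by
      rw [conj_pow, ha.2, mul_one, mul_inv_cancel]⟩⟩
    have hQ : Q ≤ ⊥ := hO ▸ le_sSup ⟨hQn, fun p hp hd => by
      haveI := Fact.mk hp
      obtain ⟨x, hx⟩ := exists_prime_orderOf_dvd_card' p hd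
      refine hπ p hp (dvd_trans ?_ hdvd)
      rw [← hx, ← Subgroup.orderOf_coe]
      exact orderOf_dvd_of_pow_eq_one x.2.2⟩
    refine hhi (le_sSup ⟨hMn, fun p hp hd hpπ => ?_⟩)
    haveI := Fact.mk hp
    obtain ⟨x, hx⟩ := exists_prime_orderOf_dvd_card' p hd
    have hpm : p ∣ m := by
      rw [← hcard] at hd
      exact (hp.dvd_mul.mp hd).resolve_left fun h => hZ p hp h hpπ
    have h2 : ((x : G)) ∈ (⊥ : Subgroup G) := hQ ⟨x.2, by
      rw [← orderOf_dvd_iff_pow_eq_one, Subgroup.orderOf_coe, hx]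
      exact hpm⟩
    rw [Subgroup.mem_bot] at h2
    exact hp.one_lt.ne' (by rw [← hx, ← Subgroup.orderOf_coe, h2, orderOf_one])
  · refine hhi (le_sSup ⟨hMn, fun p hp hd => ?_⟩)
    rw [← hcard] at hd
    exact (hp.dvd_mul.mp hd).elim (hZ p hp) fun h => hπ' p hp (h.trans hdvd)

/-- A Hall subgroup of a π-soluble group is soluble. -/
theorem hall_solvable {n : ℕ} (N : Fin (n + 1) → Subgroup G) (h0 : N 0 = ⊥)
    (h1 : N (Fin.last n) = ⊤) (hn : ∀ i, (N i).Normal)
    (hi : ∀ i : Fin n, (∃ p ∈ π, p.Prime ∧ ∃ k : ℕ, (N i.castSucc).relIndex (N i.succ) = p ^ k) ∨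
      (∀ q : ℕ, q.Prime → q ∣ (N i.castSucc).relIndex (N i.succ) → q ∉ π))
    (H : Subgroup G) (hH : ∀ p : ℕ, p.Prime → p ∣ Nat.card H → p ∈ π) : Group.IsSolvable H := by
  have key : ∀ j, Group.IsSolvable ↥(H ⊓ N j) := by
    intro j
    induction j using Fin.induction with
    | zero =>
      rw [h0, inf_bot_eq]
      infer_instance
    | succ i ih =>
      haveI := hn i.castSucc
      haveI := ih
      let f : ↥(H ⊓ N i.succ) →* G ⧸ N i.castSucc :=
        (QuotientGroup.mk' (N i.castSucc)).comp (H ⊓ N i.succ).subtype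
      have hker : ∀ x : f.ker, ((x : ↥(H ⊓ N i.succ)) : G) ∈ H ⊓ N i.castSucc := fun x =>
        ⟨(x : ↥(H ⊓ N i.succ)).2.1, (QuotientGroup.eq_one_iff _).mp x.2⟩
      haveI : Group.IsSolvable f.ker :=
        Group.isSolvable_of_isSolvable_injective
          (f := MonoidHom.codRestrict ((H ⊓ N i.succ).subtype.comp f.ker.subtype)
            (H ⊓ N i.castSucc) hker) fun a b h => Subtype.ext (Subtype.ext (congrArg (fun z : ↥(H ⊓ N i.castSucc) => (z : G)) h))
      have hr : Nat.card f.range ∣ (N i.castSucc).relIndex (N i.succ) := by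
        rw [MonoidHom.range_comp, Subgroup.range_subtype]
        rw [← relIndex_ker, QuotientGroup.ker_mk']
        exact relIndex_dvd_of_normal inf_le_right
      have hr' : Nat.card f.range ∣ Nat.card H :=
        (Subgroup.card_range_dvd f).trans (card_dvd_of_le inf_le_left)
      haveI : Group.IsSolvable f.range := by
        rcases hi i with ⟨p, -, hp, k, hk⟩ | hπ'
        · haveI := Fact.mk hp
          obtain ⟨j, -, hj⟩ := (Nat.dvd_prime_pow hp).mp (hk ▸ hr)
          haveI := (IsPGroup.of_card hj).isNilpotent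
          infer_instance
        · have h1' : Nat.card f.range = 1 := by
            by_contra hne
            obtain ⟨p, hp, hpd⟩ := Nat.exists_prime_and_dvd hne
            exact hπ' p hp (hpd.trans hr) (hH p hp (hpd.trans hr'))
          haveI := (Nat.card_eq_one_iff_unique.mp h1').1
          infer_instance
      exact Group.isSolvable_of_ker_le_range f.ker.subtype f.rangeRestrict
        (by rw [MonoidHom.ker_rangeRestrict, Subgroup.range_subtype])
  have := key (Fin.last n)
  rwa [h1, inf_top_eq] at this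

/-- Three conjugates of a Hall subgroup meeting in the π-core. -/
theorem three_hall_conjugates (hP : CoprimePairs.{u})
    (hsolv : (∃ (n : ℕ) (N : Fin (n + 1) → Subgroup G), N 0 = ⊥ ∧ N (Fin.last n) = ⊤ ∧ Monotone N ∧
      (∀ i, (N i).Normal) ∧
      ∀ i : Fin n, (∃ p ∈ π, p.Prime ∧ ∃ k : ℕ, (N i.castSucc).relIndex (N i.succ) = p ^ k) ∨
        (∀ q : ℕ, q.Prime → q ∣ (N i.castSucc).relIndex (N i.succ) → q ∉ π)))
    (H : Subgroup G) (hH : Cfsg.IsPiHall π H) :
    ∃ x y : G, H ⊓ MulAut.conj x • H ⊓ MulAut.conj y • H = Cfsg.piCore π G := by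
  classical
  obtain ⟨n, N, h0, h1, hmono, hn, hi⟩ := hsolv
  set O := Cfsg.piCore π G with hOdef
  have hOH : O ≤ H := by
    have hsup : Cfsg.IsPiSubgroup π (H ⊔ O) := by
      intro p hp hd
      have hc : Nat.card ↥(H ⊔ O) ∣ Nat.card H * Nat.card O :=
        ⟨Nat.card ↥(H ⊓ O), (CfsgLib.Solvable.card_sup_mul_card_inf (A := H) (K := O)
          (by rw [Subgroup.normalizer_eq_top]; exact le_top)).symm⟩
      exact (hp.dvd_mul.mp (hd.trans hc)).elim (hH.1 p hp) (piCore_primes π G p hp)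
    have h2 := Nat.le_of_dvd Nat.card_pos (FTRows.hall_card_dvd hH hsup)
    rw [Subgroup.eq_of_le_of_card_ge (le_sup_left : H ≤ H ⊔ O) h2]
    exact le_sup_right
  set f := QuotientGroup.mk' O with hf
  have hfs : Function.Surjective f := QuotientGroup.mk'_surjective O
  set Hb := H.map f with hHb
  have hNb : ∀ i : Fin n,
      ((N i.castSucc).map f).relIndex ((N i.succ).map f) ∣ (N i.castSucc).relIndex (N i.succ) := by
    intro i
    rw [relIndex_map_map, hf, QuotientGroup.ker_mk']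
    haveI : ((N i.castSucc) ⊔ O).Normal := by haveI := hn i.castSucc; infer_instance
    rw [sup_comm (N i.succ) O, ← relIndex_sup_right (H := O ⊔ N i.succ) (K := N i.castSucc ⊔ O)]
    have : O ⊔ N i.succ ⊔ (N i.castSucc ⊔ O) = N i.succ ⊔ (N i.castSucc ⊔ O) := by
      apply le_antisymm
      · exact sup_le (sup_le (le_sup_right.trans le_sup_right) le_sup_left) le_sup_right
      · exact sup_le (le_sup_right.trans le_sup_left) le_sup_right
    rw [this, relIndex_sup_right]
    exact relIndex_dvd_of_le_left _ le_sup_left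
  have hOb : Cfsg.piCore π (G ⧸ O) = ⊥ := (Kinf.piCore_basic π).1
  set K := Cfsg.piCore {q | q ∉ π} (G ⧸ O) with hK
  have hcent : centralizer (K : Set (G ⧸ O)) ≤ K := by
    refine centralizer_piCore_le (π := π) (fun i => (N i).map f) (by rw [h0, Subgroup.map_bot])
      (by rw [h1, Subgroup.map_top_of_surjective f hfs]) (fun a b h => map_mono (hmono h))
      (fun i => (hn i).map f hfs) (fun i => ?_) hOb
    rcases hi i with ⟨p, hp, hpp, k, hk⟩ | hπ'
    · refine Or.inl fun q hq hd => ?_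
      have := hq.dvd_of_dvd_pow (hk ▸ hd.trans (hNb i))
      exact (Nat.prime_dvd_prime_iff_eq hq hpp).mp this ▸ hp
    · exact Or.inr fun q hq hd => hπ' q hq (hd.trans (hNb i))
  have hHbπ : ∀ p : ℕ, p.Prime → p ∣ Nat.card Hb → p ∈ π := fun p hp hd =>
    hH.1 p hp (hd.trans (Subgroup.card_map_dvd H f))
  have hHK : ∀ z, z ∈ Hb → z ∈ K → z = 1 := by
    intro z hz hzK
    by_contra hne
    obtain ⟨p, hp, hpd⟩ := Nat.exists_prime_and_dvd (show orderOf z ≠ 1 from fun e => hne (orderOf_eq_one_iff.mp e))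
    exact piCore_primes {q | q ∉ π} (G ⧸ O) p hp (hpd.trans (by
      rw [← Subgroup.orderOf_mk z hzK]; exact orderOf_dvd_natCard _))
      (hHbπ p hp (hpd.trans (by rw [← Subgroup.orderOf_mk z hz]; exact orderOf_dvd_natCard _)))
  haveI : Group.IsSolvable Hb := by
    haveI := hall_solvable N h0 h1 hn hi H hH.1
    exact Group.isSolvable_of_surjective (f.subgroupMap_surjective H)
  letI act : MulDistribMulAction Hb K :=
    MulDistribMulAction.compHom K ((MulAut.conjNormal (H := K)).comp Hb.subtype)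
  have hact : ∀ (h : Hb) (k : K), ((h • k : K) : G ⧸ O) = (h : G ⧸ O) * k * (h : G ⧸ O)⁻¹ :=
    fun h k => MulAut.conjNormal_apply _ _
  haveI : FaithfulSMul Hb K := ⟨fun {a b} hab => by
    have hmem : (b : G ⧸ O)⁻¹ * a ∈ K := hcent (Subgroup.mem_centralizer_iff.mpr fun k hk => by
      have h := congrArg Subtype.val (hab ⟨k, hk⟩)
      rw [hact, hact] at h
      dsimp only at h
      calc k * ((b : G ⧸ O)⁻¹ * a) = (b : G ⧸ O)⁻¹ * ((b : G ⧸ O) * k * (b : G ⧸ O)⁻¹) * a := by group
        _ = (b : G ⧸ O)⁻¹ * a * k := by rw [← h]; group)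
    exact Subtype.ext (inv_mul_eq_one.mp (hHK _ (Hb.mul_mem (Hb.inv_mem b.2) a.2) hmem)).symm⟩
  obtain ⟨x, y, hxy⟩ := exists_pair_group (A := Hb) (K := K) hP inferInstance
    (Nat.coprime_of_dvd fun p hp h h' => piCore_primes {q | q ∉ π} (G ⧸ O) p hp h' (hHbπ p hp h))
  obtain ⟨a, ha⟩ := hfs x
  obtain ⟨b, hb⟩ := hfs y
  refine ⟨a, b, le_antisymm (fun z hz => ?_) (fun z hz => ?_)⟩
  · obtain ⟨⟨hzH, hza⟩, hzb⟩ := hz
    have hfz : f z ∈ Hb := ⟨z, hzH, rfl⟩
    have hfix : ∀ (k : K) (g : G), f g = k → z ∈ MulAut.conj g • H → (⟨f z, hfz⟩ : Hb) • k = k := by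
      intro k g hg hzg
      rw [Subgroup.mem_pointwise_smul_iff_inv_smul_mem, ← map_inv, MulAut.smul_def, MulAut.conj_apply,
        inv_inv] at hzg
      have h2 : (k : G ⧸ O)⁻¹ * f z * k ∈ Hb := ⟨_, hzg, by rw [map_mul, map_mul, map_inv, hg]⟩
      have h3 : (f z)⁻¹ * ((k : G ⧸ O)⁻¹ * f z * k) ∈ K := by
        rw [show (f z)⁻¹ * ((k : G ⧸ O)⁻¹ * f z * k) = (f z)⁻¹ * (k : G ⧸ O)⁻¹ * ((f z)⁻¹)⁻¹ * k by group]
        exact K.mul_mem (Subgroup.Normal.conj_mem inferInstance _ (K.inv_mem k.2) _) k.2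
      have h4 := inv_mul_eq_one.mp (hHK _ (Hb.mul_mem (Hb.inv_mem hfz) h2) h3)
      refine Subtype.ext ?_
      rw [hact]
      calc f z * (k : G ⧸ O) * (f z)⁻¹ = (k : G ⧸ O) * ((k : G ⧸ O)⁻¹ * f z * k) * (f z)⁻¹ := by group
        _ = (k : G ⧸ O) := by rw [← h4]; group
    have h5 := congrArg Subtype.val (hxy ⟨f z, hfz⟩ (hfix x a ha hza) (hfix y b hb hzb))
    exact (QuotientGroup.eq_one_iff z).mp h5
  · have hc : ∀ g : G, z ∈ MulAut.conj g • H := fun g => by
      rw [Subgroup.mem_pointwise_smul_iff_inv_smul_mem, ← map_inv, MulAut.smul_def, MulAut.conj_apply,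
        inv_inv]
      exact hOH (by simpa using (inferInstance : O.Normal).conj_mem z hz g⁻¹)
    exact ⟨⟨hOH hz, hc a⟩, hc b⟩

end CfsgLib.SolvBase
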