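import Cfsg.Agent.SolvBase.CoprimeBlocks

/-!
Coprime soluble groups of linear maps over a finite field of odd characteristic, from coprime pairs.
-/

set_option autoImplicit false
set_option linter.style.haveILetI false
set_option linter.unusedSectionVars false

universe u v w

namespace CfsgLib.SolvBase

/-- Two vectors for a representation. -/
theorem rep_pair (hP : CoprimePairs.{v}) {F : Type w} [Field F] [Fintype F] (hF : ringChar F ≠ 2)
    {V : Type v} [AddCommGroup V] [Module F V] [FiniteDimensional F V] [Finite V]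
    {G : Type u} [Group G] [Finite G] [Group.IsSolvable G] (ρ : Representation F G V)
    (hfaith : Function.Injective ρ) (hcop : (Nat.card G).Coprime (Nat.card V)) :
    ∃ x y : V, ∀ g : G, ρ g x = x → ρ g y = y → g = 1 := by
  rcases subsingleton_or_nontrivial V with hs | hnt
  · exact ⟨0, 0, fun g _ _ => hfaith (LinearMap.ext fun v => Subsingleton.elim _ _)⟩
  set p := ringChar F
  haveI : CharP F p := ringChar.charP F
  have hp : p.Prime := CharP.char_is_prime F p
  have hV : ∀ x : V, p • x = 0 := fun x => by
    rw [← Nat.cast_smul_eq_nsmul F, CharP.cast_eq_zero, zero_smul]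
  let ρ0 : G →* AddMonoid.End V :=
    { toFun := fun g => (ρ g).toAddMonoidHom
      map_one' := AddMonoidHom.ext fun v => by rw [map_one]; rfl
      map_mul' := fun a b => AddMonoidHom.ext fun v => by rw [map_mul]; rfl }
  let σ := ρ0.toHomUnits
  have hσ : ∀ (g : G) (v : V), σ g • v = ρ g v := fun g v => rfl
  have hpV : p ∣ Nat.card V := by
    obtain ⟨x, hx⟩ := exists_ne (0 : V)
    haveI := Fact.mk hp
    rw [← addOrderOf_eq_prime (hV x) hx]
    exact addOrderOf_dvd_natCard x
  obtain ⟨x, y, h⟩ := hP p hp hF V hV σ.range (OddBase.solvable_range σ inferInstance) fun hd =>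
    hp.not_dvd_one (hcop ▸ Nat.dvd_gcd (hd.trans (Subgroup.card_range_dvd σ)) hpV)
  refine ⟨x, y, fun g hgx hgy => hfaith (LinearMap.ext fun v => ?_)⟩
  have h1 : σ g = 1 := h _ ⟨g, rfl⟩ ((hσ g x).trans hgx) ((hσ g y).trans hgy)
  rw [← hσ g v, h1, one_smul, map_one]
  rfl

end CfsgLib.SolvBase
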