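import Cfsg.Agent.OddBase.Gluck
import Cfsg.Agent.Solvable.Basics

/-!
Colourings with five colours of soluble permutation groups, rigid under shifts of the colours.
-/

set_option autoImplicit false
set_option linter.style.haveILetI false
set_option linter.unusedSectionVars false

universe u

namespace CfsgLib.SolvBase

open Equiv
open scoped Pointwise

/-- A colouring by `ZMod 5` whose translates are moved apart by every group element. -/
def Col5 {Ω : Type u} (S : Subgroup (Perm Ω)) : Prop :=
  ∃ δ : Ω → ZMod 5, ∀ g ∈ S, ∀ J : ZMod 5, (∀ x, δ (g x) = δ x + J) → g = 1 ∧ J = 0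

variable {Ω : Type u}

open scoped Classical in
lemma col_union (S : Subgroup (Perm Ω)) (P : Ω → Prop) (h : ∀ g ∈ S, ∀ x, P (g x) ↔ P x)
    (h1 : Col5 (OddBase.resPerm S P h).range)
    (h2 : Col5 (OddBase.resPerm S (fun x => ¬ P x) (fun g hg x => not_congr (h g hg x))).range) :
    Col5 S := by
  obtain ⟨a, ha⟩ := h1
  obtain ⟨b, hb⟩ := h2
  refine ⟨fun x => if hx : P x then a ⟨x, hx⟩ else b ⟨x, hx⟩, fun g hg J hfix => ?_⟩
  obtain ⟨e1, hJ⟩ := ha _ ⟨⟨g, hg⟩, rfl⟩ J fun x => by
    have := hfix x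
    simp only [x.2, (h g hg x).mpr x.2, dif_pos] at this
    exact this
  obtain ⟨e2, -⟩ := hb _ ⟨⟨g, hg⟩, rfl⟩ J fun x => by
    have := hfix x
    simp only [x.2, mt (h g hg x).mp x.2, dif_neg, not_false_iff] at this
    exact this
  refine ⟨?_, hJ⟩
  ext x
  by_cases hx : P x
  · exact congrArg Subtype.val (Perm.ext_iff.mp e1 ⟨x, hx⟩)
  · exact congrArg Subtype.val (Perm.ext_iff.mp e2 ⟨x, hx⟩)

/-- Composition of a colouring of the blocks with one inside a block. -/
lemma col_blocks {Q : Type u} (S : Subgroup (Perm Ω)) (φ : S →* Perm Q) (π : Ω → Q)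
    (hπ : ∀ (g : S) x, π ((g : Perm Ω) x) = φ g (π x)) (j0 : Q) (sec : Q → S)
    (hsec : ∀ j, φ (sec j) j0 = j) (η : Ω → ZMod 5)
    (hη : ∀ (t : S) (J : ZMod 5), φ t j0 = j0 →
      (∀ x, π x = j0 → η ((t : Perm Ω) x) = η x + J) →
      (∀ x, π x = j0 → (t : Perm Ω) x = x) ∧ J = 0)
    (hε : Col5 φ.range) : Col5 S := by
  obtain ⟨ε, hε⟩ := hε
  refine ⟨fun x => η ((↑(sec (π x))⁻¹ : Perm Ω) x) + ε (π x), fun g hg J hfix => ?_⟩
  set G : S := ⟨g, hg⟩ with hG
  have key : ∀ j, φ ((sec (φ G j))⁻¹ * G * sec j) j0 = j0 := by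
    intro j
    simp only [map_mul, map_inv, Perm.mul_apply, hsec]
    rw [Perm.inv_eq_iff_eq]
    exact (hsec _).symm
  have hcol : ∀ j x, π x = j0 →
      η ((↑((sec (φ G j))⁻¹ * G * sec j) : Perm Ω) x) = η x + (ε j + J - ε (φ G j)) := by
    intro j x hx
    have hpx : π ((sec j : Perm Ω) x) = j := by rw [hπ, hx, hsec]
    have := hfix ((sec j : Perm Ω) x)
    simp only at this
    rw [show π (g ((sec j : Perm Ω) x)) = φ G (π ((sec j : Perm Ω) x)) from hπ G _, hpx] at this
    simp only [Subgroup.coe_mul, Perm.mul_apply]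
    simp only [Subgroup.coe_inv, Perm.inv_def, Equiv.symm_apply_apply] at this ⊢
    rw [eq_sub_iff_add_eq.mpr this]
    ring
  have hJ0 : ∀ j, ε j + J - ε (φ G j) = 0 := fun j => (hη _ _ (key j) (hcol j)).2
  obtain ⟨hφ, hJ⟩ := hε _ ⟨G, rfl⟩ J fun j => by
    have := hJ0 j
    rw [sub_eq_zero] at this
    exact this.symm
  refine ⟨?_, hJ⟩
  ext x
  set j := π x
  have hj : φ G j = j := by rw [hφ]; rfl
  have hy : π ((↑(sec j)⁻¹ : Perm Ω) x) = j0 := by
    rw [hπ, map_inv, Perm.inv_eq_iff_eq]
    exact (hsec j).symm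
  have h3 := (hη _ _ (key j) (hcol j)).1 _ hy
  simp only [hj, Subgroup.coe_mul, Subgroup.coe_inv, Perm.mul_apply] at h3
  simp only [Perm.one_apply]
  have h4 := congrArg (sec j : Perm Ω) h3
  simpa using h4

lemma col_imprimitive [Finite Ω] (S : Subgroup (Perm Ω)) (hsol : Group.IsSolvable S)
    [MulAction.IsPretransitive S Ω] {B : Set Ω} (hB : MulAction.IsBlock S B)
    (hns : ¬ B.Subsingleton) (huniv : B ≠ Set.univ)
    (ih : ∀ (Ω' : Type u) [Finite Ω'] [Nonempty Ω'], Nat.card Ω' < Nat.card Ω →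
      ∀ S' : Subgroup (Perm Ω'), Group.IsSolvable S' → Col5 S') : Col5 S := by
  classical
  obtain ⟨b0, hb0, b1, hb1, hb01⟩ := Set.not_subsingleton_iff.mp hns
  let Q : Type u := MulAction.orbit S B
  have hex : ∀ x : Ω, ∃ j : Q, x ∈ (j : Set Ω) := by
    intro x
    obtain ⟨g, hg⟩ := MulAction.exists_smul_eq S b0 x
    exact ⟨⟨g • B, g, rfl⟩, Set.mem_smul_set.mpr ⟨b0, hb0, hg⟩⟩
  have huniq : ∀ (x : Ω) (j k : Q), x ∈ (j : Set Ω) → x ∈ (k : Set Ω) → j = k := by
    rintro x ⟨_, g, rfl⟩ ⟨_, g', rfl⟩ hj hk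
    by_contra hne
    exact Set.disjoint_left.mp (hB fun e => hne (Subtype.ext e)) hj hk
  choose π hπmem using hex
  let φ : S →* Perm Q := MulAction.toPermHom S Q
  have hπ : ∀ (g : S) x, π ((g : Perm Ω) x) = φ g (π x) := fun g x =>
    huniq _ _ _ (hπmem _) (Set.mem_smul_set.mpr ⟨x, hπmem x, rfl⟩)
  let j0 : Q := ⟨B, MulAction.mem_orbit_self B⟩
  have hsec' : ∀ j : Q, ∃ g : S, φ g j0 = j := fun j => by
    obtain ⟨g, hg⟩ := j.2
    exact ⟨g, Subtype.ext hg⟩
  choose sec hsec using hsec'
  have hfib : ∀ x, π x = j0 ↔ x ∈ B := fun x =>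
    ⟨fun h => by have := hπmem x; rw [h] at this; exact this, fun h => huniq x _ j0 (hπmem x) h⟩
  have hQlt : Nat.card Q < Nat.card Ω := by
    have : Fintype Ω := Fintype.ofFinite Ω
    have : Fintype Q := Fintype.ofFinite Q
    rw [Nat.card_eq_fintype_card, Nat.card_eq_fintype_card]
    refine Fintype.card_lt_of_surjective_not_injective π (fun j => ⟨(sec j : Perm Ω) b0, ?_⟩) fun h => ?_
    · rw [hπ, (hfib b0).mpr hb0, hsec]
    · exact hb01 (h (((hfib b0).mpr hb0).trans ((hfib b1).mpr hb1).symm))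
  let T : Subgroup (Perm Ω) := (MulAction.stabilizer S j0).map S.subtype
  have hT : ∀ t ∈ T, ∀ x, (π (t x) = j0) ↔ π x = j0 := by
    rintro _ ⟨t, ht, rfl⟩ x
    rw [Subgroup.coe_subtype, hπ]
    have h0 : φ t j0 = j0 := ht
    exact ⟨fun h => (φ t).injective (h.trans h0.symm), fun h => by rw [h, h0]⟩
  have hBlt : Nat.card {x // π x = j0} < Nat.card Ω := by
    have : Fintype Ω := Fintype.ofFinite Ω
    rw [Nat.card_eq_fintype_card, Nat.card_eq_fintype_card]
    obtain ⟨z, hz⟩ := (Set.ne_univ_iff_exists_notMem B).mp huniv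
    exact Fintype.card_subtype_lt (x := z) (fun h => hz ((hfib z).mp h))
  have : Nonempty {x // π x = j0} := ⟨⟨b0, (hfib b0).mpr hb0⟩⟩
  have : Nonempty Q := ⟨j0⟩
  have hTsol : Group.IsSolvable T := OddBase.subgroup_solvable_map _ _ (by
    haveI := hsol
    exact Group.isSolvable_of_isSolvable_injective (MulAction.stabilizer S j0).subtype_injective)
  obtain ⟨η, hη⟩ := ih _ hBlt (OddBase.resPerm T (fun x => π x = j0) hT).range
    (OddBase.solvable_range _ hTsol)
  refine col_blocks S φ π hπ j0 sec hsec (fun x => if hx : π x = j0 then η ⟨x, hx⟩ else 0)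
    (fun t J ht hfix => ?_) (ih _ hQlt φ.range (OddBase.solvable_range _ hsol))
  have hmem : (t : Perm Ω) ∈ T := ⟨t, ht, rfl⟩
  obtain ⟨h1, h2⟩ := hη _ ⟨⟨(t : Perm Ω), hmem⟩, rfl⟩ J fun y => by
    have h1 := hfix y y.2
    simp only [y.2, (hT _ hmem y).mpr y.2, dif_pos] at h1
    exact h1
  exact ⟨fun x hx => congrArg Subtype.val (Perm.ext_iff.mp h1 ⟨x, hx⟩), h2⟩

set_option maxHeartbeats 1600000 in
/-- A colouring of a coordinate space fixed only by the identity. -/
lemma exists_affine_colouring (r k : ℕ) [Fact r.Prime] (hk : 1 ≤ k) :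
    ∃ c : (Fin k → ZMod r) → ZMod 5, c 0 = 0 ∧ (∀ v, c v = 0 → v = 0) ∧
      (∃ a : ZMod 5, ∀ v w, c v = a → c w = a → v ≠ w → False) ∧
      (∃ b : ZMod 5, (∀ v, c v ≠ b) ∨ ∃ v w, v ≠ w ∧ c v = b ∧ c w = b) ∧
      ∀ φ : (Fin k → ZMod r) ≃+ (Fin k → ZMod r), (∀ v, c (φ v) = c v) → ∀ v, φ v = v := by
  classical
  have hr : 2 ≤ r := (Fact.out : r.Prime).two_le
  let e : Fin k → (Fin k → ZMod r) := fun i => Pi.single i 1
  have he0 : ∀ i, e i ≠ 0 := fun i h => by
    have := congrFun h i
    simp [e] at this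
  have heinj : Function.Injective e := fun i j h => by
    by_contra hne
    have := congrFun h i
    simp [e, hne] at this
  have hext : ∀ φ : (Fin k → ZMod r) ≃+ (Fin k → ZMod r), (∀ i, φ (e i) = e i) → ∀ v, φ v = v := by
    intro φ h v
    have hm : φ.toAddMonoidHom.toZModLinearMap r = LinearMap.id :=
      (Pi.basisFun (ZMod r) (Fin k)).ext fun i => by simpa [e] using h i
    exact LinearMap.congr_fun hm v
  by_cases hk3 : k ≤ 3
  · let c : (Fin k → ZMod r) → ZMod 5 := fun v =>
      if v = 0 then 0 else if h : ∃ i, v = e i then ((h.choose.val + 1 : ℕ) : ZMod 5) else 4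
    have hce : ∀ i, c (e i) = ((i.val + 1 : ℕ) : ZMod 5) := fun i => by
      have h : ∃ j, e i = e j := ⟨i, rfl⟩
      simp only [c, if_neg (he0 i), dif_pos h]
      rw [← heinj h.choose_spec]
    have hval : ∀ (m : ℕ), m < 5 → ((m : ZMod 5)).val = m := fun m hm => by
      rw [ZMod.val_natCast, Nat.mod_eq_of_lt hm]
    have hsmall : ∀ v, c v = 0 → v = 0 := by
      intro v hv
      by_contra h0
      by_cases h : ∃ i, v = e i
      · obtain ⟨i, rfl⟩ := h
        have := congrArg ZMod.val ((hce i).symm.trans hv)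
        rw [hval _ (by omega)] at this
        simp at this
      · simp only [c, if_neg h0, dif_neg h] at hv
        exact absurd hv (by decide)
    refine ⟨c, by simp [c], hsmall, ⟨0, fun v w hv hw hne => hne ((hsmall v hv).trans (hsmall w hw).symm)⟩,
      ?_, fun φ hφ => hext φ fun i => ?_⟩
    · by_cases hk2 : k ≤ 2
      · refine ⟨3, Or.inl fun v hv => ?_⟩
        by_cases h0 : v = 0
        · simp only [c, if_pos h0] at hv
          exact absurd hv (by decide)
        by_cases h : ∃ i, v = e i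
        · obtain ⟨i, rfl⟩ := h
          have := congrArg ZMod.val ((hce i).symm.trans hv)
          rw [hval _ (by omega)] at this
          change i.val + 1 = 3 at this
          omega
        · simp only [c, if_neg h0, dif_neg h] at hv
          exact absurd hv (by decide)
      · refine ⟨4, Or.inr ?_⟩
        obtain rfl : k = 3 := by omega
        have h4 : ∀ v : Fin 3 → ZMod r, (∃ i j, i ≠ j ∧ v i ≠ 0 ∧ v j ≠ 0) → c v = 4 := by
          rintro v ⟨i, j, hij, hi, hj⟩
          have h0 : v ≠ 0 := fun h => hi (by rw [h]; rfl)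
          have h : ¬ ∃ l, v = e l := by
            rintro ⟨l, rfl⟩
            rcases eq_or_ne i l with rfl | hil
            · exact hj (by simp [e, Ne.symm hij])
            · exact hi (by simp [e, hil])
          simp only [c, if_neg h0, dif_neg h]
        refine ⟨e 0 + e 1, e 0 + e 2, fun h => ?_, h4 _ ⟨0, 1, by decide, by simp [e], by simp [e]⟩,
          h4 _ ⟨0, 2, by decide, by simp [e], by simp [e]⟩⟩
        simpa [e] using congrFun h 1
    · have h := hφ (e i)
      rw [hce] at h
      by_cases h0 : φ (e i) = 0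
      · exact absurd (φ.injective (h0.trans φ.map_zero.symm)) (he0 i)
      by_cases hj : ∃ j, φ (e i) = e j
      · obtain ⟨j, hj⟩ := hj
        rw [hj, hce] at h
        have := congrArg ZMod.val h
        rw [hval _ (by omega), hval _ (by omega)] at this
        rw [hj, show j = i from Fin.ext (by omega)]
      · simp only [c, if_neg h0, dif_neg hj] at h
        have := congrArg ZMod.val h
        rw [hval _ (by omega)] at this
        change 4 = i.val + 1 at this
        omega
  · -- the basis, a path and a triple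
    let a0 : Fin k := ⟨0, by omega⟩
    let a1 : Fin k := ⟨1, by omega⟩
    let a2 : Fin k := ⟨2, by omega⟩
    let C : Set (Fin k → ZMod r) :=
      {v | (∃ i j : Fin k, j.val = i.val + 1 ∧ v = e i + e j) ∨ v = e a0 + e a1 + e a2}
    let c : (Fin k → ZMod r) → ZMod 5 := fun v =>
      if v = 0 then 0 else if ∃ i, v = e i then 1 else if v ∈ C then 2 else 3
    have hnz : ∀ v, c v = 0 → v = 0 := fun v hv => by
      by_contra h0
      simp only [c, if_neg h0] at hv
      split_ifs at hv <;> exact absurd hv (by decide)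
    have hpair : ∀ i j, i ≠ j → ∀ l, e i + e j ≠ e l := by
      intro i j hij l h
      rcases eq_or_ne i l with rfl | hil
      · exact he0 j (add_eq_left.mp h)
      · have := congrFun h i
        simp [e, hij, hil] at this
    have hpair0 : ∀ i j, i ≠ j → e i + e j ≠ 0 := fun i j hij h => by
      have := congrFun h i
      simp [e, hij] at this
    refine ⟨c, by simp [c], hnz, ⟨0, fun v w hv hw hne => hne ((hnz v hv).trans (hnz w hw).symm)⟩,
      ⟨4, Or.inl fun v hv => by simp only [c] at hv; split_ifs at hv <;> exact absurd hv (by decide)⟩,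
      fun φ hφ => ?_⟩
    have hb : ∀ i, ∃ j, φ (e i) = e j := fun i => by
      by_contra hno
      have h1 : c (e i) = 1 := by simp only [c, if_neg (he0 i), if_pos (⟨i, rfl⟩ : ∃ j, e i = e j)]
      have h2 := (hφ (e i)).trans h1
      simp only [c, if_neg hno] at h2
      split_ifs at h2 <;> exact absurd h2 (by decide)
    choose σ hσ using hb
    have hσinj : Function.Injective σ := fun i j h => heinj (φ.injective (by rw [hσ, hσ, h]))
    -- elements of `C` go to `C`
    have hC : ∀ v ∈ C, v ≠ 0 → (∀ i, v ≠ e i) → φ v ∈ C := by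
      intro v hv hv0 hve
      have h1 : c v = 2 := by
        simp only [c, if_neg hv0, if_neg (fun ⟨i, hi⟩ => hve i hi : ¬ ∃ i, v = e i), if_pos hv]
      have h2 := (hφ v).trans h1
      simp only [c] at h2
      split_ifs at h2 with u1 u2 u3
      all_goals first | exact u3 | exact absurd h2 (by decide)
    have hsupp2 : ∀ a b i j, a ≠ b → e a + e b = e i + e j →
        (a = i ∧ b = j) ∨ (a = j ∧ b = i) := by
      intro a b i j hab h
      by_cases hai : a = i
      · subst hai; exact Or.inl ⟨rfl, heinj (add_left_cancel h)⟩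
      by_cases haj : a = j
      · subst haj; rw [add_comm (e i)] at h; exact Or.inr ⟨rfl, heinj (add_left_cancel h)⟩
      have := congrFun h a
      simp [e, hab, hai, haj] at this
    have hne01 : a0 ≠ a1 ∧ a0 ≠ a2 ∧ a1 ≠ a2 := by simp [a0, a1, a2]
    have htri2 : ∀ a b, a ≠ b → e a + e b ≠ e a0 + e a1 + e a2 := by
      intro a b hab h
      have hin : ∀ l ∈ ({a0, a1, a2} : Set (Fin k)), l = a ∨ l = b := by
        intro l hl
        by_contra hno
        push Not at hno
        have := congrFun h l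
        rcases hl with rfl | rfl | rfl <;> simp [e, hno.1, hno.2, hne01, Ne.symm hne01.1, Ne.symm hne01.2.1, Ne.symm hne01.2.2] at this
      rcases hin a0 (by simp) with h0 | h0 <;> rcases hin a1 (by simp) with h1 | h1 <;>
        rcases hin a2 (by simp) with h2 | h2 <;> simp_all
    have hadj : ∀ i j : Fin k, j.val = i.val + 1 →
        (σ j).val = (σ i).val + 1 ∨ (σ i).val = (σ j).val + 1 := by
      intro i j hij
      have hne : i ≠ j := fun h => by rw [h] at hij; omega
      have h := hC (e i + e j) (Or.inl ⟨i, j, hij, rfl⟩) (hpair0 i j hne) (hpair i j hne)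
      rw [map_add, hσ, hσ] at h
      rcases h with ⟨a, b, hab, h⟩ | h
      · rcases hsupp2 _ _ _ _ (hσinj.ne hne) h with ⟨h1, h2⟩ | ⟨h1, h2⟩
        · rw [h1, h2]; exact Or.inl hab
        · rw [h1, h2]; exact Or.inr hab
      · exact absurd h (htri2 _ _ (hσinj.ne hne))
    have htri : ∀ l, l = σ a0 ∨ l = σ a1 ∨ l = σ a2 → l.val < 3 := by
      have hv0 : e a0 + e a1 + e a2 ≠ 0 := fun h => by
        have := congrFun h a0
        simp [e, hne01] at this
      have hve : ∀ i, e a0 + e a1 + e a2 ≠ e i := fun i h => by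
        rcases eq_or_ne a0 i with rfl | hne
        · exact hpair0 a1 a2 hne01.2.2 (add_eq_left.mp (by rw [← add_assoc]; exact h))
        · have := congrFun h a0
          simp [e, hne01, hne] at this
      have h := hC _ (Or.inr rfl) hv0 hve
      rw [map_add, map_add, hσ, hσ, hσ] at h
      have d01 := hσinj.ne hne01.1
      have d02 := hσinj.ne hne01.2.1
      have d12 := hσinj.ne hne01.2.2
      intro l hl
      rcases h with ⟨a, b, hab, h⟩ | h
      · exfalso
        have hin : ∀ l, l = σ a0 ∨ l = σ a1 ∨ l = σ a2 → l = a ∨ l = b := by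
          intro l hl
          by_contra hno
          push Not at hno
          have := congrFun h l
          rcases hl with rfl | rfl | rfl <;>
            simp [e, hno.1, hno.2, d01, d02, d12, Ne.symm d01, Ne.symm d02, Ne.symm d12] at this
        rcases hin _ (Or.inl rfl) with h0 | h0 <;> rcases hin _ (Or.inr (Or.inl rfl)) with h1 | h1 <;>
          rcases hin _ (Or.inr (Or.inr rfl)) with h2 | h2 <;> simp_all
      · by_contra hl3
        have hno : l ≠ a0 ∧ l ≠ a1 ∧ l ≠ a2 := by
          refine ⟨?_, ?_, ?_⟩ <;> rintro rfl <;> simp [a0, a1, a2] at hl3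
        have := congrFun h l
        rcases hl with rfl | rfl | rfl <;>
          simp [e, hno.1, hno.2.1, hno.2.2, d01, d02, d12, Ne.symm d01, Ne.symm d02, Ne.symm d12] at this
    have h0 := htri _ (Or.inl rfl)
    have h1 := htri _ (Or.inr (Or.inl rfl))
    have h2 := htri _ (Or.inr (Or.inr rfl))
    let a3 : Fin k := ⟨3, by omega⟩
    have h01 := hadj a0 a1 rfl
    have h12 := hadj a1 a2 rfl
    have h23 := hadj a2 a3 rfl
    have n02 : (σ a0).val ≠ (σ a2).val := fun h => hne01.2.1 (hσinj (Fin.ext h))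
    have n31 : (σ a3).val ≠ (σ a1).val := fun h => by
      have := congrArg Fin.val (hσinj (Fin.ext h))
      simp [a3, a1] at this
    have n30 : (σ a3).val ≠ (σ a0).val := fun h => by
      have := congrArg Fin.val (hσinj (Fin.ext h))
      simp [a3, a0] at this
    have hid : ∀ n, ∀ i : Fin k, i.val = n → (σ i).val = n := by
      intro n
      induction n using Nat.strong_induction_on with
      | _ n ih =>
        intro i hi
        rcases Nat.lt_or_ge n 3 with hn | hn
        · interval_cases n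
          · rw [show i = a0 from Fin.ext hi]; omega
          · rw [show i = a1 from Fin.ext hi]; omega
          · rw [show i = a2 from Fin.ext hi]; omega
        · obtain ⟨m, rfl⟩ : ∃ m, n = m + 2 := ⟨n - 2, by omega⟩
          have hk' : i.val < k := i.isLt
          have := ih (m + 1) (by omega) ⟨m + 1, by omega⟩ rfl
          have hm := ih m (by omega) ⟨m, by omega⟩ rfl
          have hne : (σ i).val ≠ (σ ⟨m, by omega⟩).val := fun h => by
            have := congrArg Fin.val (hσinj (Fin.ext h))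
            simp at this
            omega
          have := hadj ⟨m + 1, by omega⟩ i hi
          omega
    exact hext φ fun i => by rw [hσ, show σ i = i from Fin.ext (hid _ i rfl)]

/-- Primitive soluble groups. -/
lemma col_primitive [Finite Ω] (S : Subgroup (Perm Ω)) (hsol : Group.IsSolvable S) [Nontrivial S]
    [MulAction.IsPretransitive S Ω]
    (hprim : ∀ B : Set Ω, MulAction.IsBlock S B → B.Subsingleton ∨ B = Set.univ) : Col5 S := by
  classical
  have : Fintype Ω := Fintype.ofFinite Ω
  haveI := hsol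
  have htop : (⊤ : Subgroup S) ≠ ⊥ := top_ne_bot
  haveI : Group.IsSolvable (⊤ : Subgroup S) :=
    Group.isSolvable_of_isSolvable_injective (Subgroup.subtype_injective (⊤ : Subgroup S))
  obtain ⟨N, hNn, hN0, -, hNc, -, r, hr, hexp, -⟩ :=
    CfsgLib.Solvable.exists_normal_elementary_le (N := (⊤ : Subgroup S)) htop inferInstance
  haveI := Fact.mk hr
  have htrans : ∀ x y : Ω, ∃ a ∈ N, (a : Perm Ω) x = y := by
    intro x y
    rcases hprim _ (MulAction.IsBlock.orbit_of_normal (N := N) x) with hsub | huniv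
    · exfalso
      refine hN0 (Subgroup.eq_bot_iff_forall _ |>.mpr fun a ha => Subtype.ext (Perm.ext fun z => ?_))
      obtain ⟨g, rfl⟩ := MulAction.exists_smul_eq S x z
      have h1 := hsub (show ((⟨g⁻¹ * a * g, by simpa using hNn.conj_mem a ha g⁻¹⟩ : N) • x) ∈
        MulAction.orbit N x from ⟨_, rfl⟩) (MulAction.mem_orbit_self x)
      change (g⁻¹ * a * g) • x = x at h1
      show a • g • x = g • x
      rw [mul_smul, mul_smul, inv_smul_eq_iff] at h1
      exact h1
    · obtain ⟨⟨a, ha⟩, hay⟩ : y ∈ MulAction.orbit N x := by rw [huniv]; trivial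
      exact ⟨a, ha, hay⟩
  have hcomm : ∀ a ∈ N, ∀ b ∈ N, a * b = b * a := fun a ha b hb =>
    congrArg Subtype.val (hNc.is_comm.comm ⟨a, ha⟩ ⟨b, hb⟩)
  have hreg : ∀ a ∈ N, ∀ x : Ω, (a : Perm Ω) x = x → a = 1 := by
    intro a ha x hax
    refine Subtype.ext (Perm.ext fun z => ?_)
    obtain ⟨b, hb, rfl⟩ := htrans x z
    show (a : Perm Ω) ((b : Perm Ω) x) = _
    rw [← Perm.mul_apply, ← Subgroup.coe_mul, hcomm a ha b hb, Subgroup.coe_mul, Perm.mul_apply, hax]
    rfl
  obtain ⟨x0⟩ : Nonempty Ω := by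
    obtain ⟨g, hg⟩ := exists_ne (1 : S)
    by_contra h
    exact hg (Subtype.ext (Perm.ext fun x => (h ⟨x⟩).elim))
  letI instC : CommGroup N := { (inferInstance : Group N) with
    mul_comm := fun a b => Subtype.ext (hcomm a a.2 b b.2) }
  letI : Module (ZMod r) (Additive N) := AddCommGroup.zmodModule fun a => by
    refine Additive.toMul.injective (Subtype.ext ?_)
    exact hexp _ (Additive.toMul a).2
  have : Nontrivial (Additive N) := (Subgroup.nontrivial_iff_ne_bot N).mpr hN0
  obtain ⟨k, ⟨b⟩⟩ : ∃ k : ℕ, Nonempty (Module.Basis (Fin k) (ZMod r) (Additive N)) := by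
    haveI := Fintype.ofFinite (Module.Basis.ofVectorSpaceIndex (ZMod r) (Additive N))
    exact ⟨_, ⟨(Module.Basis.ofVectorSpace (ZMod r) (Additive N)).reindex (Fintype.equivFin _)⟩⟩
  let Fa : Additive N ≃+ (Fin k → ZMod r) := b.equivFun.toAddEquiv
  let E : N ≃ (Fin k → ZMod r) := Additive.ofMul.trans Fa.toEquiv
  have hk : 1 ≤ k := by
    by_contra h
    obtain ⟨a, ha⟩ := exists_ne (0 : Additive N)
    exact ha (Fa.injective (funext fun i => absurd i.isLt (by omega)))
  have hE1 : E 1 = 0 := by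
    show Fa (Additive.ofMul 1) = 0
    rw [ofMul_one, map_zero]
  have hEmul : ∀ a a' : N, E (a * a') = E a + E a' := fun a a' => map_add Fa _ _
  have hbij : Function.Bijective fun a : N => ((a : S) : Perm Ω) x0 := by
    refine ⟨fun a a' h => ?_, fun y => by obtain ⟨a, ha, h⟩ := htrans x0 y; exact ⟨⟨a, ha⟩, h⟩⟩
    have h' : ((a : S) : Perm Ω) x0 = ((a' : S) : Perm Ω) x0 := h
    have := hreg ((a' : S)⁻¹ * a) (N.mul_mem (N.inv_mem a'.2) a.2) x0 (by simp [h'])
    exact (Subtype.ext (inv_mul_eq_one.mp this)).symm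
  let F : Ω ≃ (Fin k → ZMod r) := (Equiv.ofBijective _ hbij).symm.trans E
  have hF : ∀ a : N, F (((a : S) : Perm Ω) x0) = E a := fun a => by
    have h : (Equiv.ofBijective _ hbij).symm (((a : S) : Perm Ω) x0) = a :=
      (Equiv.ofBijective _ hbij).symm_apply_apply a
    exact congrArg E h
  obtain ⟨c, hc0, hcz, ⟨a₁, ha₁⟩, ⟨b₁, hb₁⟩, hcφ⟩ := exists_affine_colouring r k hk
  refine ⟨fun x => c (F x), fun g hg J hfix => ?_⟩
  replace hfix : ∀ x, c (F (g x)) = c (F x) + J := hfix
  have hJ : J = 0 := by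
    by_contra hJ0
    -- all colours are used exactly once
    have hshift : ∀ (t : ℕ) (x : Ω), c (F (((g : Perm Ω) ^ t) x)) = c (F x) + (t : ZMod 5) * J := by
      intro t
      induction t with
      | zero => simp
      | succ t ih => intro x; rw [pow_succ', Perm.mul_apply, hfix, ih, Nat.cast_succ]; ring
    haveI : Fact (Nat.Prime 5) := ⟨Nat.prime_five⟩
    have hall : ∀ a : ZMod 5, (∀ v w, c v = a → c w = a → v = w) ∧ ∃ v, c v = a := by
      intro a
      have key : ∀ z : ZMod 5, ∃ t : ℕ, (t : ZMod 5) * J = z := fun z =>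
        ⟨(z * J⁻¹).val, by rw [ZMod.natCast_zmod_val, mul_assoc, inv_mul_cancel₀ hJ0, mul_one]⟩
      constructor
      · intro v w hv hw
        obtain ⟨t, ht⟩ := key (a₁ - a)
        by_contra hne
        refine ha₁ (F (((g : Perm Ω) ^ t) (F.symm v))) (F (((g : Perm Ω) ^ t) (F.symm w))) ?_ ?_ ?_
        · rw [hshift, F.apply_symm_apply, hv, ht]; ring
        · rw [hshift, F.apply_symm_apply, hw, ht]; ring
        · exact fun h => hne (F.symm.injective ((((g : Perm Ω) ^ t)).injective (F.injective h)))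
      · obtain ⟨t, ht⟩ := key a
        exact ⟨F (((g : Perm Ω) ^ t) (F.symm 0)), by rw [hshift, F.apply_symm_apply, hc0, ht, zero_add]⟩
    rcases hb₁ with h | ⟨v, w, hne, hv, hw⟩
    · obtain ⟨v, hv⟩ := (hall b₁).2
      exact h v hv
    · exact hne ((hall b₁).1 v w hv hw)
  refine ⟨?_, hJ⟩
  subst hJ
  simp only [add_zero] at hfix
  have hx0 : F x0 = 0 := by
    have := hF 1
    rw [hE1] at this
    exact this
  have hgx : g x0 = x0 := F.injective (by rw [hx0]; exact hcz _ (by rw [hfix, hx0, hc0]))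
  let G : S := ⟨g, hg⟩
  have hconj : ∀ a : N, G * (a : S) * G⁻¹ ∈ N := fun a => hNn.conj_mem _ a.2 _
  let θ : N ≃ N :=
    { toFun := fun a => ⟨_, hconj a⟩
      invFun := fun a => ⟨G⁻¹ * (a : S) * G, by simpa using hNn.conj_mem _ a.2 G⁻¹⟩
      left_inv := fun a => Subtype.ext (by simp [mul_assoc])
      right_inv := fun a => Subtype.ext (by simp [mul_assoc]) }
  have hθmul : ∀ a a', θ (a * a') = θ a * θ a' := fun a a' => Subtype.ext (by
    simp only [θ, Equiv.coe_fn_mk, Subgroup.coe_mul]; group)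
  let φ : (Fin k → ZMod r) ≃+ (Fin k → ZMod r) :=
    { toEquiv := (E.symm.trans θ).trans E
      map_add' := fun v w => by
        obtain ⟨a, rfl⟩ := E.surjective v
        obtain ⟨a', rfl⟩ := E.surjective w
        simp only [Equiv.toFun_as_coe, Equiv.trans_apply, ← hEmul, Equiv.symm_apply_apply, hθmul] }
  have hφ : ∀ a : N, φ (E a) = F (g (((a : S) : Perm Ω) x0)) := fun a => by
    show E (θ (E.symm (E a))) = _
    rw [E.symm_apply_apply, ← hF]
    congr 1
    show ((G * (a : S) * G⁻¹ : S) : Perm Ω) x0 = _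
    simp only [Subgroup.coe_mul, Subgroup.coe_inv, Perm.mul_apply, G]
    rw [Perm.inv_eq_iff_eq.mpr hgx.symm]
  have hid := hcφ φ fun v => by
    obtain ⟨a, rfl⟩ := E.surjective v
    rw [hφ, hfix, hF]
  ext x
  obtain ⟨a, ha, rfl⟩ := htrans x0 x
  refine F.injective ?_
  rw [← hφ ⟨a, ha⟩, hid, ← hF]
  rfl

/-- Every soluble permutation group has such a colouring. -/
theorem col5 : ∀ (n : ℕ) (Ω : Type u) [Finite Ω] [Nonempty Ω], Nat.card Ω = n →
    ∀ S : Subgroup (Perm Ω), Group.IsSolvable S → Col5 S := by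
  intro n
  induction n using Nat.strong_induction_on with
  | _ n ih =>
    intro Ω _ _ hn S hsol
    have ih' : ∀ (Ω' : Type u) [Finite Ω'] [Nonempty Ω'], Nat.card Ω' < Nat.card Ω →
        ∀ S' : Subgroup (Perm Ω'), Group.IsSolvable S' → Col5 S' := fun Ω' _ _ h S' hs' =>
      ih _ (hn ▸ h) Ω' rfl S' hs'
    by_cases htr : MulAction.IsPretransitive S Ω
    · rcases subsingleton_or_nontrivial S with hS | hS
      · obtain ⟨x⟩ := (inferInstance : Nonempty Ω)
        have h1 : ∀ g ∈ S, g = 1 := fun g hg => congrArg Subtype.val (Subsingleton.elim (⟨g, hg⟩ : S) 1)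
        refine ⟨fun _ => 0, fun g hg J h => ⟨h1 g hg, ?_⟩⟩
        simpa using (h x).symm
      by_cases hprim : ∀ B : Set Ω, MulAction.IsBlock S B → B.Subsingleton ∨ B = Set.univ
      · exact col_primitive S hsol hprim
      · push Not at hprim
        obtain ⟨B, hB, hns, huniv⟩ := hprim
        exact col_imprimitive S hsol hB (Set.not_subsingleton_iff.mpr hns) huniv ih'
    · obtain ⟨x, y, hxy⟩ : ∃ x y : Ω, ∀ g : S, g • x ≠ y := by
        by_contra hcon
        push Not at hcon
        exact htr ⟨hcon⟩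
      let P : Ω → Prop := fun z => z ∈ MulAction.orbit S x
      have hP : ∀ g ∈ S, ∀ z, P (g z) ↔ P z := fun g hg z => by
        constructor <;> rintro ⟨a, ha⟩
        · exact ⟨(⟨g, hg⟩ : S)⁻¹ * a, show ((⟨g, hg⟩ : S)⁻¹ * a) • x = z by
            rw [mul_smul, show a • x = (⟨g, hg⟩ : S) • z from ha, inv_smul_smul]⟩
        · exact ⟨(⟨g, hg⟩ : S) * a, show ((⟨g, hg⟩ : S) * a) • x = g z by
            rw [mul_smul, show a • x = z from ha]; rfl⟩
      have hy : ¬ P y := fun ⟨g, hg⟩ => hxy g hg
      have : Fintype Ω := Fintype.ofFinite Ω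
      have : Nonempty {z // P z} := ⟨⟨x, MulAction.mem_orbit_self x⟩⟩
      have : Nonempty {z // ¬ P z} := ⟨⟨y, hy⟩⟩
      classical
      refine col_union S P hP (ih' _ ?_ _ (OddBase.solvable_range _ hsol))
        (ih' _ ?_ _ (OddBase.solvable_range _ hsol))
      · simp only [Nat.card_eq_fintype_card]
        exact Fintype.card_subtype_lt (x := y) hy
      · simp only [Nat.card_eq_fintype_card]
        exact Fintype.card_subtype_lt (x := x) (not_not.mpr (MulAction.mem_orbit_self x))

end CfsgLib.SolvBase
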