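import Cfsg.Agent.OddBase.Blocks
import Cfsg.Agent.ThreeInvolutions.Core

/-!
Five regular orbits on triples for a soluble group possessing one.
-/

set_option autoImplicit false
set_option linter.style.haveILetI false
set_option linter.unusedSectionVars false
set_option linter.unusedSimpArgs false

universe u

namespace CfsgLib.SolvBase

open OddBase
open scoped commutatorElement

variable {W : Type u} [AddCommGroup W]

/-- Only the identity fixes all three vectors. -/
def Reg (R : Subgroup (Aut W)) (t : W × W × W) : Prop :=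
  ∀ r ∈ R, r • t.1 = t.1 → r • t.2.1 = t.2.1 → r • t.2.2 = t.2.2 → r = 1

/-- Two triples in one orbit. -/
def SameOrb (R : Subgroup (Aut W)) (s t : W × W × W) : Prop :=
  ∃ r ∈ R, r • s.1 = t.1 ∧ r • s.2.1 = t.2.1 ∧ r • s.2.2 = t.2.2

/-- Five regular orbits. -/
def FiveOrb (R : Subgroup (Aut W)) : Prop :=
  ∃ P : ZMod 5 → W × W × W, (∀ c, Reg R (P c)) ∧ ∀ c c', SameOrb R (P c) (P c') → c = c'

lemma fiveOrb_of_family {ι : Type*} [Finite ι] (R : Subgroup (Aut W)) (f : ι → W × W × W)
    (hreg : ∀ i, Reg R (f i)) (hsep : ∀ i j, SameOrb R (f i) (f j) → i = j) (hcard : 5 ≤ Nat.card ι) :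
    FiveOrb R := by
  have := Fintype.ofFinite ι
  have hle : Fintype.card (ZMod 5) ≤ Fintype.card ι := by
    rw [ZMod.card, ← Nat.card_eq_fintype_card]
    exact hcard
  obtain ⟨e⟩ := Function.Embedding.nonempty_of_card_le hle
  exact ⟨fun c => f (e c), fun c => hreg _, fun c c' h => e.injective (hsep _ _ h)⟩

/-- A regular vector. -/
lemma fiveOrb_of_vector [Finite W] (R : Subgroup (Aut W)) {a : W} (ha : a ≠ 0)
    (h : ∀ r ∈ R, r • a = a → r = 1) : FiveOrb R := by
  let f : Option (W × W) → W × W × W := fun o => o.elim (0, a, 0) fun p => (a, p.1, p.2)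
  refine fiveOrb_of_family R f (fun o => ?_) (fun o o' hoo => ?_) ?_
  · rcases o with _ | p
    · exact fun r hr _ h2 _ => h r hr h2
    · exact fun r hr h1 _ _ => h r hr h1
  · obtain ⟨r, hr, h1, h2, h3⟩ := hoo
    rcases o with _ | p <;> rcases o' with _ | p' <;> simp only [f, Option.elim] at h1 h2 h3
    · rfl
    · exact absurd (h1.symm.trans (smul_zero r)) ha
    · exact absurd (smul_left_cancel r (h1.trans (smul_zero r).symm)) ha
    · have := h r hr h1
      subst this
      rw [one_smul] at h2 h3
      exact congrArg some (Prod.ext h2 h3)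
  · have : Nontrivial W := ⟨⟨a, 0, ha⟩⟩
    have h2 : 2 ≤ Nat.card W := Finite.one_lt_card
    rw [Finite.card_option, Nat.card_prod]
    nlinarith

/-- A regular pair. -/
lemma fiveOrb_of_pair [Finite W] (R : Subgroup (Aut W)) {a b : W} (ha : a ≠ 0)
    (hW : 4 ≤ Nat.card W) (h : ∀ r ∈ R, r • a = a → r • b = b → r = 1) : FiveOrb R := by
  let f : Option W → W × W × W := fun o => o.elim (0, a, b) fun c => (a, b, c)
  refine fiveOrb_of_family R f (fun o => ?_) (fun o o' hoo => ?_) ?_
  · rcases o with _ | p
    · exact fun r hr _ h2 h3 => h r hr h2 h3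
    · exact fun r hr h1 h2 _ => h r hr h1 h2
  · obtain ⟨r, hr, h1, h2, h3⟩ := hoo
    rcases o with _ | p <;> rcases o' with _ | p' <;> simp only [f, Option.elim] at h1 h2 h3
    · rfl
    · exact absurd (h1.symm.trans (smul_zero r)) ha
    · exact absurd (smul_left_cancel r (h1.trans (smul_zero r).symm)) ha
    · have := h r hr h1 h2
      subst this
      rw [one_smul] at h3
      exact congrArg some h3
  · rw [Finite.card_option]
    omega

/-- The additive automorphism adding a multiple of one coordinate to another. -/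
def shear (p : ℕ) (i j : Fin 3) (h : i ≠ j) : Aut (Fin 3 → ZMod p) where
  val :=
    { toFun := fun v => v + Pi.single i (v j)
      map_zero' := by simp
      map_add' := fun v w => by rw [Pi.add_apply, Pi.single_add]; abel }
  inv :=
    { toFun := fun v => v - Pi.single i (v j)
      map_zero' := by simp
      map_add' := fun v w => by rw [Pi.add_apply, Pi.single_add]; abel }
  val_inv := by
    refine DFunLike.ext _ _ fun v => ?_
    show (v - Pi.single i (v j)) + Pi.single i ((v - (Pi.single i (v j) : Fin 3 → ZMod p)) j) = v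
    simp [h.symm]
  inv_val := by
    refine DFunLike.ext _ _ fun v => ?_
    show (v + Pi.single i (v j)) - Pi.single i ((v + (Pi.single i (v j) : Fin 3 → ZMod p)) j) = v
    simp [h.symm]

lemma shear_smul (p : ℕ) {i j : Fin 3} (h : i ≠ j) (v : Fin 3 → ZMod p) :
    shear p i j h • v = v + Pi.single i (v j) := rfl

lemma shear_inv_smul (p : ℕ) {i j : Fin 3} (h : i ≠ j) (v : Fin 3 → ZMod p) :
    (shear p i j h)⁻¹ • v = v - Pi.single i (v j) := rfl

lemma shear_comm (p : ℕ) {i j k : Fin 3} (hij : i ≠ j) (hik : i ≠ k) (hkj : k ≠ j) :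
    ⁅shear p i k hik, shear p k j hkj⁆ = shear p i j hij := by
  refine aut_ext fun v => ?_
  rw [commutatorElement_def, mul_smul, mul_smul, mul_smul, shear_smul, shear_smul, shear_inv_smul,
    shear_inv_smul, shear_smul]
  funext l
  simp only [Pi.add_apply, Pi.sub_apply, Pi.single_apply, hij, hik, hkj, hij.symm, hik.symm, hkj.symm,
    if_false, if_true]
  split_ifs <;> ring

lemma not_solvable_aut_three (p : ℕ) [Fact p.Prime] :
    ¬ Group.IsSolvable (Aut (Fin 3 → ZMod p)) := by
  intro hsol
  obtain ⟨n, hn⟩ := hsol.solvable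
  have key : ∀ (m : ℕ) (i j : Fin 3) (h : i ≠ j), shear p i j h ∈ derivedSeries (Aut (Fin 3 → ZMod p)) m := by
    intro m
    induction m with
    | zero => intro i j h; simp
    | succ m ih =>
      intro i j h
      obtain ⟨k, hik, hkj⟩ : ∃ k : Fin 3, i ≠ k ∧ k ≠ j := by
        revert i j
        decide
      rw [derivedSeries_succ, ← shear_comm p h hik hkj]
      exact Subgroup.commutator_mem_commutator (ih i k hik) (ih k j hkj)
  have h := key n 0 1 (by decide)
  rw [hn, Subgroup.mem_bot] at h
  have := congrArg (fun g : Aut (Fin 3 → ZMod p) => (g • (Pi.single 1 1 : Fin 3 → ZMod p)) 0) h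
  simp [shear_smul] at this

/-- A soluble subgroup of `GL(3, p)` has index at least five. -/
lemma five_le_index (p : ℕ) [Fact p.Prime] (L : Subgroup (Aut (Fin 3 → ZMod p)))
    (hL : Group.IsSolvable L) : 5 ≤ L.index := by
  by_contra hlt
  refine not_solvable_aut_three p ?_
  let φ := MulAction.toPermHom (Aut (Fin 3 → ZMod p)) (Aut (Fin 3 → ZMod p) ⧸ L)
  refine ThreeInvolutions.solvable_of_ker φ ?_ ?_
  · have hle : φ.ker ≤ L := by
      show (MulAction.toPermHom _ _).ker ≤ L
      rw [← Subgroup.normalCore_eq_ker]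
      exact Subgroup.normalCore_le L
    haveI := hL
    exact Group.isSolvable_of_isSolvable_injective (Subgroup.inclusion_injective hle)
  · haveI := ThreeInvolutions.perm_solvable (α := Aut (Fin 3 → ZMod p) ⧸ L)
      (by rw [← Subgroup.index_eq_card]; omega)
    exact Group.isSolvable_of_isSolvable_injective φ.range.subtype_injective

/-- A regular triple, no regular pair. -/
lemma fiveOrb_of_triple [Finite W] (R : Subgroup (Aut W)) (hsol : Group.IsSolvable R) (p : ℕ)
    [Fact p.Prime] (hp : ∀ w : W, p • w = 0) {x y z : W} (h : Reg R (x, y, z))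
    (hno : ∀ a b : W, ¬ ∀ r ∈ R, r • a = a → r • b = b → r = 1) : FiveOrb R := by
  letI : Module (ZMod p) W := AddCommGroup.zmodModule (n := p) hp
  have hlin : ∀ (r : Aut W) (c : ZMod p) (w : W), r • (c • w) = c • (r • w) := fun r c w =>
    ZMod.map_smul (r : AddMonoid.End W) c w
  let xs : Fin 3 → W := ![x, y, z]
  have hind : LinearIndependent (ZMod p) xs := by
    rw [Fintype.linearIndependent_iff]
    intro g hg i
    rw [Fin.sum_univ_three] at hg
    by_contra hi
    have hspan : ∀ (i j k : Fin 3), g i ≠ 0 → g i • xs i + g j • xs j + g k • xs k = 0 →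
        ∀ r : Aut W, r • xs j = xs j → r • xs k = xs k → r • xs i = xs i := by
      intro i j k hi h0 r hj hk
      have e : xs i = (g i)⁻¹ • (-(g j • xs j + g k • xs k)) := by
        rw [eq_inv_smul_iff₀ hi, eq_neg_iff_add_eq_zero, ← add_assoc]
        exact h0
      rw [e, hlin, smul_neg, smul_add, hlin, hlin, hj, hk]
    fin_cases i
    · refine hno y z fun r hr hy hz => h r hr ?_ hy hz
      exact hspan 0 1 2 hi hg r hy hz
    · refine hno x z fun r hr hx hz => h r hr hx ?_ hz
      exact hspan 1 0 2 hi (by rw [← hg]; abel) r hx hz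
    · refine hno x y fun r hr hx hy => h r hr hx hy ?_
      exact hspan 2 0 1 hi (by rw [← hg]; abel) r hx hy
  let f : (Fin 3 → ZMod p) →ₗ[ZMod p] W := Fintype.linearCombination (ZMod p) xs
  have hf : Function.Injective f := hind.fintypeLinearCombination_injective
  have hfe : ∀ i, f (Pi.single i 1) = xs i := fun i => by
    simp [f, Fintype.linearCombination_apply, Pi.single_apply]
  -- automorphisms of the span realised in `R`
  let T : Subgroup (R × Aut (Fin 3 → ZMod p)) :=
    { carrier := {rφ | ∀ v, (rφ.1 : Aut W) • f v = f (rφ.2 • v)}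
      one_mem' := fun v => by simp
      mul_mem' := fun {a b} ha hb v => by
        show ((a.1 : Aut W) * b.1) • f v = f ((a.2 * b.2) • v)
        rw [mul_smul, hb, ha, mul_smul]
      inv_mem' := fun {a} ha v => by
        show (a.1 : Aut W)⁻¹ • f v = f (a.2⁻¹ • v)
        rw [inv_smul_eq_iff, ha, smul_inv_smul] }
  have hTinj : Function.Injective ((MonoidHom.fst R (Aut (Fin 3 → ZMod p))).comp T.subtype) := by
    rintro ⟨⟨r, φ⟩, h1⟩ ⟨⟨r', φ'⟩, h2⟩ he
    obtain rfl : r = r' := he
    obtain rfl : φ = φ' := aut_ext fun v => hf ((h1 v).symm.trans (h2 v))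
    rfl
  haveI := hsol
  haveI hTsol : Group.IsSolvable T := Group.isSolvable_of_isSolvable_injective hTinj
  let L := ((MonoidHom.snd R (Aut (Fin 3 → ZMod p))).comp T.subtype).range
  have h5 := five_le_index p L (OddBase.solvable_range _ hTsol)
  rw [Subgroup.index_eq_card] at h5
  let P : Aut (Fin 3 → ZMod p) → W × W × W := fun φ =>
    (f (φ • Pi.single 0 1), f (φ • Pi.single 1 1), f (φ • Pi.single 2 1))
  -- agreement on the basis
  have hbasis : ∀ (r : Aut W) (φ ψ : Aut (Fin 3 → ZMod p)),
      (∀ i, r • f (φ • Pi.single i 1) = f (ψ • Pi.single i 1)) → ∀ v, r • f (φ • v) = f (ψ • v) := by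
    intro r φ ψ he
    let g1 : (Fin 3 → ZMod p) →+ W :=
      ((r : AddMonoid.End W) : W →+ W).comp (f.toAddMonoidHom.comp (φ : AddMonoid.End _))
    let g2 : (Fin 3 → ZMod p) →+ W := f.toAddMonoidHom.comp (ψ : AddMonoid.End _)
    have hm : g1.toZModLinearMap p = g2.toZModLinearMap p :=
      (Pi.basisFun (ZMod p) (Fin 3)).ext fun i => by rw [Pi.basisFun_apply]; exact he i
    exact fun v => LinearMap.congr_fun hm v
  refine fiveOrb_of_family R (fun c : Aut (Fin 3 → ZMod p) ⧸ L => P (Quotient.out c)⁻¹) (fun c => ?_)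
    (fun c c' hcc => ?_) h5
  · intro r hr h1 h2 h3
    have key := hbasis r (Quotient.out c)⁻¹ (Quotient.out c)⁻¹ fun i => by
      fin_cases i
      · exact h1
      · exact h2
      · exact h3
    have hid : ∀ v, r • f v = f v := fun v => by
      have := key (Quotient.out c • v)
      rwa [inv_smul_smul] at this
    refine h r hr ?_ ?_ ?_
    · have := hid (Pi.single 0 1); rwa [hfe] at this
    · have := hid (Pi.single 1 1); rwa [hfe] at this
    · have := hid (Pi.single 2 1); rwa [hfe] at this
  · obtain ⟨r, hr, h1, h2, h3⟩ := hcc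
    have key := hbasis r (Quotient.out c)⁻¹ (Quotient.out c')⁻¹ fun i => by
      fin_cases i
      · exact h1
      · exact h2
      · exact h3
    have hmem : (⟨r, hr⟩, (Quotient.out c')⁻¹ * Quotient.out c) ∈ T := fun v => by
      show r • f v = f (((Quotient.out c')⁻¹ * Quotient.out c) • v)
      rw [mul_smul, ← key, inv_smul_smul]
    rw [← Quotient.out_eq c, ← Quotient.out_eq c']
    exact (QuotientGroup.eq.mpr (⟨⟨_, hmem⟩, rfl⟩ : (Quotient.out c')⁻¹ * Quotient.out c ∈ L)).symm

/-- A soluble irreducible group with a regular triple has five regular orbits on triples. -/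
theorem fiveOrb [Finite W] [Nontrivial W] (R : Subgroup (Aut W)) (hsol : Group.IsSolvable R)
    (hirr : Irr R) (h : ∃ t, Reg R t) : FiveOrb R := by
  classical
  obtain ⟨⟨x, y, z⟩, hreg⟩ := h
  obtain ⟨p, hp, hpd⟩ := Nat.exists_prime_and_dvd
    (show Nat.card W ≠ 1 from (Finite.one_lt_card (α := W)).ne')
  haveI := Fact.mk hp
  have hpW : ∀ w : W, p • w = 0 := by
    let U : AddSubgroup W :=
      { carrier := {v | p • v = 0}
        zero_mem' := smul_zero p
        add_mem' := fun {a b} (ha : p • a = 0) (hb : p • b = 0) => show p • (a + b) = 0 by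
          rw [smul_add, ha, hb, add_zero]
        neg_mem' := fun {a} (ha : p • a = 0) => show p • (-a) = 0 by rw [smul_neg, ha, neg_zero] }
    have hU : Inv R U := fun a _ v (hv : p • v = 0) => show p • (a • v) = 0 by
      rw [smul_comm, hv, smul_zero]
    rcases hirr U hU with hb | ht
    · exfalso
      obtain ⟨v, hv⟩ := exists_prime_addOrderOf_dvd_card' p hpd
      have : v ∈ U := show p • v = 0 by rw [← hv]; exact addOrderOf_nsmul_eq_zero v
      rw [hb, AddSubgroup.mem_bot] at this
      rw [this, addOrderOf_zero] at hv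
      exact hp.ne_one hv.symm
    · exact fun w => show w ∈ U by rw [ht]; trivial
  by_cases hv : ∃ a : W, a ≠ 0 ∧ ∀ r ∈ R, r • a = a → r = 1
  · obtain ⟨a, ha, h1⟩ := hv
    exact fiveOrb_of_vector R ha h1
  by_cases hpair : ∃ a b : W, ∀ r ∈ R, r • a = a → r • b = b → r = 1
  · obtain ⟨a, b, hab⟩ := hpair
    obtain ⟨w0, hw0⟩ := exists_ne (0 : W)
    have ha : a ≠ 0 := by
      rintro rfl
      by_cases hb : b = 0
      · subst hb
        exact hv ⟨w0, hw0, fun r hr _ => hab r hr (smul_zero r) (smul_zero r)⟩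
      · exact hv ⟨b, hb, fun r hr hrb => hab r hr (smul_zero r) hrb⟩
    refine fiveOrb_of_pair R ha ?_ hab
    by_contra hlt
    have hc2 : 2 ≤ Nat.card W := Finite.one_lt_card
    have hcp : (Nat.card W).Prime := by
      rcases (show Nat.card W = 2 ∨ Nat.card W = 3 by omega) with e | e <;> rw [e] <;> norm_num
    haveI := Fact.mk hcp
    refine hv ⟨a, ha, fun r hr hra => hab r hr hra ?_⟩
    obtain ⟨n, rfl⟩ : ∃ n : ℕ, n • a = b := mem_multiples_of_prime_card rfl ha (g' := b)
    rw [smul_comm, hra]
  · push Not at hpair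
    refine fiveOrb_of_triple R hsol p hpW hreg fun a b hab => ?_
    obtain ⟨r, hr, h1, h2, h3⟩ := hpair a b
    exact h3 (hab r hr h1 h2)

end CfsgLib.SolvBase
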