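import Cfsg.Agent.OddBase.BlockPair
import Cfsg.Agent.SolvBase.Colour
import Cfsg.Agent.SolvBase.Orbits

/-!
Triples for groups with a system of blocks and for sums.
-/

set_option autoImplicit false
set_option linter.style.haveILetI false
set_option linter.unusedSectionVars false

universe u

namespace CfsgLib.SolvBase

open OddBase

variable {V : Type u} [AddCommGroup V] {A : Subgroup (Aut V)}

/-- Some triple of vectors is fixed only by the identity. -/
def HasTriple (A : Subgroup (Aut V)) : Prop := ∃ t, Reg A t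

/-- Every soluble completely reducible group on a module of the given size has a triple. -/
def TriGood (n : ℕ) : Prop :=
  ∀ (V : Type u) [AddCommGroup V] [Finite V], Nat.card V = n → ∀ A : Subgroup (Aut V),
    Group.IsSolvable A → CR A → HasTriple A

lemma hasTriple_sum {U W : AddSubgroup V} (hU : Inv A U) (hW : Inv A W) (hd : U ⊓ W = ⊥)
    (hs : U ⊔ W = ⊤) (h1 : HasTriple (res A U hU).range) (h2 : HasTriple (res A W hW).range) :
    HasTriple A := by
  obtain ⟨⟨x1, y1, z1⟩, k1⟩ := h1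
  obtain ⟨⟨x2, y2, z2⟩, k2⟩ := h2
  refine ⟨((x1 : V) + x2, (y1 : V) + y2, (z1 : V) + z2), fun a ha hx hy hz => ?_⟩
  have split : ∀ (x : U) (y : W), a • ((x : V) + y) = (x : V) + y →
      res A U hU ⟨a, ha⟩ • x = x ∧ res A W hW ⟨a, ha⟩ • y = y := by
    intro x y he
    rw [smul_add] at he
    have hm : a • (x : V) - x ∈ U ⊓ W := by
      refine ⟨U.sub_mem (hU a ha x x.2) x.2, ?_⟩
      have hr : a • (x : V) - x = (y : V) - a • (y : V) := by
        rw [sub_eq_sub_iff_add_eq_add, he, add_comm]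
      rw [hr]
      exact W.sub_mem y.2 (hW a ha y y.2)
    rw [hd, AddSubgroup.mem_bot, sub_eq_zero] at hm
    refine ⟨Subtype.ext hm, Subtype.ext ?_⟩
    rw [hm] at he
    exact add_left_cancel he
  obtain ⟨a1, a2⟩ := split x1 x2 hx
  obtain ⟨b1, b2⟩ := split y1 y2 hy
  obtain ⟨c1, c2⟩ := split z1 z2 hz
  exact congrArg Subtype.val
    (eq_one_of_res hU hW hs ⟨a, ha⟩ (k1 _ ⟨_, rfl⟩ a1 b1 c1) (k2 _ ⟨_, rfl⟩ a2 b2 c2))

/-- Triples for a group with blocks. -/
theorem blocks_hasTriple [Finite V] (Bk : Blocks A) (hsol : Group.IsSolvable A) (hirr : Irr A)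
    (ih : ∀ m < Nat.card V, TriGood.{u} m) : HasTriple A := by
  classical
  have hWlt : Nat.card Bk.space < Nat.card V := by
    rw [Bk.card_eq]
    calc Nat.card Bk.space = Nat.card Bk.space ^ 1 := (pow_one _).symm
      _ < _ := Nat.pow_lt_pow_right Bk.two_le_space Bk.two
  have hTle : Bk.stab ≤ A := fun a ha => ha.1
  haveI := hsol
  have hTsol : Group.IsSolvable Bk.stab :=
    Group.isSolvable_of_isSolvable_injective (Subgroup.inclusion_injective hTle)
  set R := (res Bk.stab Bk.space Bk.inv_space).range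
  have hirrR : Irr R := Bk.irr_space hirr
  haveI : Nontrivial Bk.space := Finite.one_lt_card_iff_nontrivial.mp Bk.two_le_space
  obtain ⟨P, hreg, horb⟩ := fiveOrb R (solvable_range _ hTsol) hirrR
    (ih _ hWlt Bk.space rfl R (solvable_range _ hTsol) (CR.of_irr hirrR))
  haveI : Nonempty Bk.O := ⟨Bk.base⟩
  obtain ⟨δ, hδ⟩ := col5 _ Bk.O rfl Bk.perm.range (solvable_range _ hsol)
  let S : (Bk.O → Bk.space) → V := fun f => ∑ i : Bk.O, Bk.rep i • (f i : V)
  refine ⟨(S fun i => (P (δ i)).1, S fun i => (P (δ i)).2.1, S fun i => (P (δ i)).2.2),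
    fun a ha hx hy hz => ?_⟩
  have hproj : ∀ (j : Bk.O) (f : Bk.O → Bk.space),
      (j : AddMonoid.End V) (∑ i : Bk.O, Bk.rep i • (f i : V)) = Bk.rep j • (f j : V) := by
    intro j f
    rw [map_sum, Finset.sum_eq_single j (fun k _ hk => by rw [Bk.proj_rep j k (f k).2, if_neg (Ne.symm hk)])
      (fun h => absurd (Finset.mem_univ j) h), Bk.proj_rep j j (f j).2, if_pos rfl]
  set A0 : A := ⟨a, ha⟩
  have hmove : ∀ (f : Bk.O → Bk.space),
      a • (∑ i : Bk.O, Bk.rep i • (f i : V)) = ∑ i : Bk.O, Bk.rep i • (f i : V) → ∀ i,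
      res Bk.stab Bk.space Bk.inv_space ⟨_, Bk.key_stab A0 i⟩ • f i = f (Bk.perm A0 i) := by
    intro f hf i
    have h1 := cj_apply_smul a (i : AddMonoid.End V) (∑ i : Bk.O, Bk.rep i • (f i : V))
    rw [hf, show cj a (i : AddMonoid.End V) = (Bk.perm A0 i : AddMonoid.End V) from rfl, hproj,
      hproj] at h1
    refine Subtype.ext ?_
    rw [res_smul]
    show ((Bk.rep (Bk.perm A0 i))⁻¹ * a * Bk.rep i) • (f i : V) = _
    rw [mul_smul, mul_smul, ← h1, inv_smul_smul]
  have hx' := hmove _ hx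
  have hy' := hmove _ hy
  have hz' := hmove _ hz
  have hperm : Bk.perm A0 = 1 := (hδ _ ⟨A0, rfl⟩ 0 fun i => by
    rw [add_zero]
    exact (horb _ _ ⟨_, ⟨_, rfl⟩, hx' i, hy' i, hz' i⟩).symm).1
  have := Bk.faith A0 hperm fun i y hy0 => by
    have e : Bk.perm A0 i = i := by rw [hperm]; rfl
    have h1 := hx' i
    have h2 := hy' i
    have h3 := hz' i
    simp only [e] at h1 h2 h3
    have h4 := hreg _ _ ⟨_, rfl⟩ h1 h2 h3
    rw [res_eq_one_iff] at h4
    have h5 := h4 y hy0
    exact h5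
  exact congrArg Subtype.val this

end CfsgLib.SolvBase
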