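import Cfsg.Agent.ColourThree.Main

/-!
Colourings with three colours for soluble permutation groups of order prime to three: no nontrivial
element fixes the colouring up to a translation of the colours.
-/

set_option autoImplicit false

universe u

namespace CfsgLib.SolvBase

/-- A colouring by three colours moved, up to a shift of the colours, by all but the identity. -/
def Col3 {Ω : Type u} (S : Subgroup (Equiv.Perm Ω)) : Prop :=
  ∃ δ : Ω → ZMod 3, ∀ g ∈ S, ∀ J : ZMod 3, (∀ x, δ (g x) = δ x + J) → g = 1 ∧ J = 0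

theorem col3 : ∀ (n : ℕ) (Ω : Type u) [Finite Ω] [Nonempty Ω], Nat.card Ω = n →
    ∀ S : Subgroup (Equiv.Perm Ω), Group.IsSolvable S → ¬ 3 ∣ Nat.card S → Col3 S := by
  intro n Ω _ _ hn S hsol h3
  obtain ⟨δ, hδ⟩ := ColourThree.col3_of_solvable n Ω hn S hsol h3
  refine ⟨δ, fun g hg J h => ?_⟩
  have hJ : J = 0 := ColourThree.shift_eq_zero (t := g) (n := Nat.card S)
    (congrArg Subtype.val (pow_card_eq_one' (x := (⟨g, hg⟩ : S)))) h3 (fun _ => True)
    (fun _ _ => trivial) δ J (fun x _ => h x) (Classical.arbitrary Ω) trivial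
  exact ⟨hδ g hg fun x => by rw [h, hJ, add_zero], hJ⟩

end CfsgLib.SolvBase
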