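import Cfsg.Agent.SolvBase.Sets

/-!
Rigid colourings of elementary abelian groups containing a basis and the sums of two basis vectors.
-/

set_option autoImplicit false
set_option linter.style.haveILetI false
set_option linter.unusedSimpArgs false

namespace CfsgLib.SolvBase

/-- A rigid colouring with fewer colours than the bound. -/
def Design (r n c : ℕ) : Prop :=
  ∃ col : (Fin n → ZMod r) → Option ℕ, col 0 = none ∧ (∀ v k, col v = some k → k < c) ∧
    (∀ i, col (unitVec (fun _ => r) i) ≠ none) ∧
    (∀ i j, unitVec (fun _ : Fin n => r) i + unitVec (fun _ => r) j ≠ 0 →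
      col (unitVec (fun _ => r) i + unitVec (fun _ => r) j) ≠ none) ∧
    ∀ φ : (Fin n → ZMod r) ≃+ (Fin n → ZMod r), (∀ v, col (φ v) = col v) → ∀ v, φ v = v

lemma design_three (n : ℕ) : Design 2 n 3 := by
  classical
  have hM : ∀ _i : Fin n, 1 < 2 := fun _ => Nat.one_lt_two
  obtain ⟨By, Bz, hy0, hz0, hyb, hzp, hrig⟩ := exists_rigid_sets (M := fun _ : Fin n => 2) hM
  let col : (Fin n → ZMod 2) → Option ℕ := fun v =>
    if v ∈ By then (if v ∈ Bz then some 1 else some 0) else if v ∈ Bz then some 2 else none
  have hY : ∀ v, (col v = some 0 ∨ col v = some 1) ↔ v ∈ By := fun v => by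
    by_cases a : v ∈ By <;> by_cases b : v ∈ Bz <;> simp [col, a, b]
  have hZ : ∀ v, (col v = some 2 ∨ col v = some 1) ↔ v ∈ Bz := fun v => by
    by_cases a : v ∈ By <;> by_cases b : v ∈ Bz <;> simp [col, a, b]
  have hlt : ∀ v k, col v = some k → k < 3 := fun v k h => by
    by_cases a : v ∈ By <;> by_cases b : v ∈ Bz <;> simp [col, a, b] at h <;> omega
  refine ⟨col, ?_, hlt, ?_, ?_, fun φ hφ => hrig φ ?_ ?_⟩
  · show (if _ then _ else _) = none
    rw [if_neg hy0, if_neg hz0]
  · intro i h
    have := (hY _).mpr (hyb i)
    rw [h] at this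
    simp at this
  · intro i j h h'
    have := (hZ _).mpr (hzp i j h)
    rw [h'] at this
    simp at this
  · intro v
    rw [← hY, ← hY, hφ v]
  · intro v
    rw [← hZ, ← hZ, hφ v]

lemma design_small (n : ℕ) (hn : n ≤ 1) : Design 2 n 1 := by
  classical
  refine ⟨fun v => if v = 0 then none else some 0, if_pos rfl, ?_, ?_, ?_, ?_⟩
  · intro v k h
    simp only at h
    split_ifs at h
    obtain rfl := Option.some.inj h
    omega
  · intro i
    have hne : unitVec (fun _ : Fin n => 2) i ≠ 0 :=
      (zero_ne_unitVec (M := fun _ : Fin n => 2) (fun _ => Nat.one_lt_two) i).symm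
    simp [hne]
  · intro i j h
    simp [h]
  · intro φ _ v
    refine eq_of_fix_unitVec (M := fun _ : Fin n => 2) (fun _ => Nat.one_lt_two) φ (fun i => ?_) v
    by_cases h0 : φ (unitVec (fun _ => 2) i) = 0
    · exact absurd (φ.injective (h0.trans φ.map_zero.symm))
        (zero_ne_unitVec (M := fun _ : Fin n => 2) (fun _ => Nat.one_lt_two) i).symm
    · funext l
      have h1 : ∀ z : ZMod 2, z ≠ 0 → z = 1 := by decide
      have hil : i = l := Fin.ext (by have := i.isLt; have := l.isLt; omega)
      subst hil
      rw [h1 (φ (unitVec (fun _ => 2) i) i) (fun e => h0 (funext fun l => by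
        rw [show l = i from Fin.ext (by have := i.isLt; have := l.isLt; omega)]; exact e))]
      simp [unitVec]

lemma design_odd (r : ℕ) [Fact r.Prime] (hr : r ≠ 2) (n : ℕ) : Design r n 2 := by
  classical
  have hr3 : 3 ≤ r := lt_of_le_of_ne (Fact.out : r.Prime).two_le (Ne.symm hr)
  have hM : ∀ _i : Fin n, 1 < r := fun _ => by omega
  have h21 : (2 : ZMod r) ≠ 1 := fun h => by
    have h1 : (1 : ZMod r) = 0 := by
      rw [← one_add_one_eq_two, add_eq_left] at h
      exact h
    exact one_ne_zero h1
  have h20 : (2 : ZMod r) ≠ 0 := fun h => by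
    have h1 : ((2 : ℕ) : ZMod r) = 0 := by exact_mod_cast h
    rw [ZMod.natCast_eq_zero_iff] at h1
    have := Nat.le_of_dvd (by norm_num) h1
    omega
  let M : Fin n → ℕ := fun _ => r
  let e : Fin n → (Fin n → ZMod r) := unitVec M
  let mk : Fin n → Fin n → (Fin n → ZMod r) := fun a b => e a + e a + e b
  let U : Set (Fin n → ZMod r) := Set.range e
  let P : Set (Fin n → ZMod r) :=
    {v | (∃ i j, v = e i + e j) ∨ ∃ a b : Fin n, b.val = a.val + 1 ∧ v = mk a b}
  have hmk : ∀ a b : Fin n, a ≠ b → supp (mk a b) = ({a, b} : Finset (Fin n)) ∧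
      mk a b a = 2 ∧ mk a b b = 1 := by
    intro a b hab
    have ea : mk a b a = 2 := by simp [mk, e, M, unitVec, hab, one_add_one_eq_two]
    have eb : mk a b b = 1 := by simp [mk, e, M, unitVec, hab.symm]
    refine ⟨?_, ea, eb⟩
    ext l
    rw [mem_supp, Finset.mem_insert, Finset.mem_singleton]
    by_cases hla : l = a
    · subst hla
      exact ⟨fun _ => Or.inl rfl, fun _ => by rw [ea]; exact h20⟩
    by_cases hlb : l = b
    · subst hlb
      exact ⟨fun _ => Or.inr rfl, fun _ => by rw [eb]; exact one_ne_zero⟩
    constructor
    · intro h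
      exact absurd (by simp [mk, e, M, unitVec, hla, hlb]) h
    · rintro (h | h)
      · exact absurd h hla
      · exact absurd h hlb
  have he0 : ∀ i, e i ≠ 0 := fun i => (zero_ne_unitVec (M := M) hM i).symm
  have hUP : ∀ v ∈ U, v ∉ P := by
    rintro _ ⟨l, rfl⟩ (⟨i, j, h⟩ | ⟨a, b, hab, h⟩)
    · exact pair_ne (M := M) hM i j l h.symm
    · have hne : a ≠ b := fun e' => by rw [e'] at hab; omega
      have h1 := (congrArg supp h).trans (hmk a b hne).1
      rw [supp_unitVec (M := M) hM] at h1
      have := congrArg Finset.card h1
      rw [Finset.card_singleton, Finset.card_pair hne] at this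
      omega
  refine ⟨fun v => if v = 0 then none else if v ∈ U then some 1 else if v ∈ P then some 0 else none,
    if_pos rfl, ?_, ?_, ?_, fun φ hφ => ?_⟩
  · intro v k h
    simp only at h
    split_ifs at h
    all_goals first | (obtain rfl := Option.some.inj h; omega)
  · intro i
    show ¬ (if _ then _ else _) = none
    have hmem : unitVec (fun _ => r) i ∈ U := ⟨i, rfl⟩
    rw [if_neg (he0 i), if_pos hmem]
    simp
  · intro i j h
    have hP : unitVec (fun _ : Fin n => r) i + unitVec (fun _ => r) j ∈ P := Or.inl ⟨i, j, rfl⟩
    simp only [if_neg h]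
    split_ifs <;> simp
  · have hU : ∀ v, v ∈ U → φ v ∈ U := by
      intro v hv
      have h := hφ v
      have hv0 : v ≠ 0 := by obtain ⟨i, rfl⟩ := hv; exact he0 i
      simp only [if_neg hv0, if_pos hv] at h
      split_ifs at h with a b c
      · exact b
      · simp at h
    have hb : ∀ i, ∃ j, φ (e i) = e j := fun i => by
      obtain ⟨j, hj⟩ := hU (e i) ⟨i, rfl⟩
      exact ⟨j, hj.symm⟩
    choose π hπ using hb
    have hπinj : Function.Injective π := fun i j h =>
      unitVec_injective (M := M) hM (φ.injective ((hπ i).trans ((congrArg e h).trans (hπ j).symm)))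
    have hstep : ∀ a b : Fin n, b.val = a.val + 1 → (π b).val = (π a).val + 1 := by
      intro a b hab
      have hne : a ≠ b := fun e' => by rw [e'] at hab; omega
      have hm0 : mk a b ≠ 0 := fun h => by
        have := congrFun h b
        rw [(hmk a b hne).2.2] at this
        exact one_ne_zero this
      have hnotU : mk a b ∉ U := fun h => hUP _ h (Or.inr ⟨a, b, hab, rfl⟩)
      have hmP : mk a b ∈ P := Or.inr ⟨a, b, hab, rfl⟩
      have h := hφ (mk a b)
      simp only [if_neg hm0, if_neg hnotU, if_pos hmP] at h
      by_cases cp : φ (mk a b) ∈ P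
      swap
      · exfalso
        rw [if_neg cp] at h
        split_ifs at h; simp at h
      · have himg : φ (mk a b) = mk (π a) (π b) := by
          show φ (e a + e a + e b) = _
          rw [map_add, map_add, hπ, hπ]
        rw [himg] at cp
        have hne' : π a ≠ π b := hπinj.ne hne
        obtain ⟨hs, ha2, hb1⟩ := hmk _ _ hne'
        rcases cp with ⟨i, j, hij⟩ | ⟨a', b', hab', hij⟩
        · exfalso
          rcases eq_or_ne i j with rfl | hij'
          · have h1 := Finset.card_le_card (supp_double (M := M) i)
            rw [← hij, hs, Finset.card_singleton, Finset.card_pair hne'] at h1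
            omega
          · have h1 := congrFun hij (π a)
            rw [ha2] at h1
            rcases eq_or_ne (π a) i with h2 | h2
            · simp [e, M, unitVec, h2, hij'] at h1
              exact h21 h1
            rcases eq_or_ne (π a) j with h3 | h3
            · simp [e, M, unitVec, h3, hij'.symm] at h1
              exact h21 h1
            · simp [e, M, unitVec, h2, h3] at h1
              exact h20 h1
        · have hne'' : a' ≠ b' := fun e' => by rw [e'] at hab'; omega
          obtain ⟨hs', ha2', hb1'⟩ := hmk _ _ hne''
          have hmem : π a ∈ ({a', b'} : Finset (Fin n)) := by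
            rw [← hs', ← hij, hs]; simp
          have hmem' : π b ∈ ({a', b'} : Finset (Fin n)) := by
            rw [← hs', ← hij, hs]; simp
          rw [Finset.mem_insert, Finset.mem_singleton] at hmem hmem'
          have hnb : π a ≠ b' := fun e' => by
            have h1 := congrFun hij (π a)
            rw [ha2, e', hb1'] at h1
            exact h21 h1
          have ea : π a = a' := hmem.resolve_right hnb
          have eb : π b = b' := hmem'.resolve_left fun e' => hne' (ea.trans e'.symm)
          rw [ea, eb]
          exact hab'
    have hid : ∀ (k : ℕ) (i : Fin n), i.val = k → (π i).val + (n - 1 - k) ≤ n - 1 ∧ k ≤ (π i).val := by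
      intro k
      induction k using Nat.strong_induction_on with
      | _ k ih =>
        intro i hi
        constructor
        · -- walk to the end of the path
          have hwalk : ∀ d (j : Fin n), j.val = k + d → (π j).val = (π i).val + d := by
            intro d
            induction d with
            | zero => intro j hj; rw [show j = i from Fin.ext (by omega)]; omega
            | succ d ihd =>
              intro j hj
              have hj' := j.isLt
              have h1 := hstep ⟨k + d, by omega⟩ j (by rw [hj]; rfl)
              have h2 := ihd ⟨k + d, by omega⟩ rfl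
              omega
          have hk := i.isLt
          have := hwalk (n - 1 - k) ⟨n - 1, by omega⟩ (by simp; omega)
          have := (π ⟨n - 1, by omega⟩).isLt
          omega
        · rcases Nat.eq_zero_or_pos k with h0 | h0
          · omega
          · have hk := i.isLt
            have h1 := hstep ⟨k - 1, by omega⟩ i (by simp; omega)
            have h2 := (ih (k - 1) (by omega) ⟨k - 1, by omega⟩ rfl).2
            omega
    exact eq_of_fix_unitVec (M := M) hM φ fun i => by
      have h1 := hid _ i rfl
      have h2 : (π i).val = i.val := by have := i.isLt; have := (π i).isLt; omega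
      exact (hπ i).trans (congrArg e (Fin.ext h2))

end CfsgLib.SolvBase
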