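import Mathlib

/-!
Two subsets of a finite abelian group preserved together only by the identity, one containing a
basis and the other all sums of two basis elements.
-/

set_option autoImplicit false
set_option linter.style.haveILetI false
set_option linter.unusedSimpArgs false

namespace CfsgLib.SolvBase

variable {n : ℕ} {M : Fin n → ℕ}

/-- The basis elements. -/
def unitVec (M : Fin n → ℕ) (i : Fin n) : ∀ l, ZMod (M l) := Pi.single i 1

/-- The support. -/
def supp (v : ∀ l, ZMod (M l)) : Finset (Fin n) := Finset.univ.filter fun l => v l ≠ 0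

lemma mem_supp {v : ∀ l, ZMod (M l)} {l : Fin n} : l ∈ supp v ↔ v l ≠ 0 := by
  rw [supp, Finset.mem_filter]
  exact and_iff_right (Finset.mem_univ l)

lemma supp_zero : supp (0 : ∀ l, ZMod (M l)) = ∅ :=
  Finset.eq_empty_of_forall_notMem fun _ h => mem_supp.mp h rfl

lemma unitVec_ne_zero (hM : ∀ i, 1 < M i) (i : Fin n) : (1 : ZMod (M i)) ≠ 0 := by
  haveI : Fact (1 < M i) := ⟨hM i⟩
  exact one_ne_zero

lemma supp_unitVec (hM : ∀ i, 1 < M i) (i : Fin n) : supp (unitVec M i) = {i} := by
  ext l
  rcases eq_or_ne l i with rfl | h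
  · simp [mem_supp, unitVec, unitVec_ne_zero hM l]
  · simp [mem_supp, unitVec, h]

lemma supp_pair (hM : ∀ i, 1 < M i) {i j : Fin n} (hij : i ≠ j) :
    supp (unitVec M i + unitVec M j) = {i, j} := by
  ext l
  rcases eq_or_ne l i with rfl | hi
  · simp [mem_supp, unitVec, unitVec_ne_zero hM l, hij]
  rcases eq_or_ne l j with rfl | hj
  · simp [mem_supp, unitVec, unitVec_ne_zero hM l, hi]
  · simp [mem_supp, unitVec, hi, hj]

lemma supp_double (i : Fin n) : supp (unitVec M i + unitVec M i) ⊆ {i} := by
  intro l hl
  rw [Finset.mem_singleton]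
  by_contra h
  simp [mem_supp, unitVec, h] at hl

lemma supp_triple (hM : ∀ i, 1 < M i) {a b c : Fin n} (hab : a ≠ b) (hac : a ≠ c) (hbc : b ≠ c) :
    supp (unitVec M a + unitVec M b + unitVec M c) = {a, b, c} := by
  ext l
  rcases eq_or_ne l a with rfl | ha
  · simp [mem_supp, unitVec, unitVec_ne_zero hM l, hab, hac]
  rcases eq_or_ne l b with rfl | hb
  · simp [mem_supp, unitVec, unitVec_ne_zero hM l, ha, hbc]
  rcases eq_or_ne l c with rfl | hc
  · simp [mem_supp, unitVec, unitVec_ne_zero hM l, ha, hb]
  · simp [mem_supp, unitVec, ha, hb, hc]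

lemma unitVec_injective (hM : ∀ i, 1 < M i) : Function.Injective (unitVec M) := fun i j h => by
  have := congrArg supp h
  rw [supp_unitVec hM, supp_unitVec hM] at this
  exact Finset.singleton_injective this

lemma pair_ne (hM : ∀ i, 1 < M i) (i j l : Fin n) : unitVec M i + unitVec M j ≠ unitVec M l := by
  intro h
  have hs := congrArg supp h
  rw [supp_unitVec hM] at hs
  rcases eq_or_ne i j with rfl | hij
  · have hsub := supp_double (M := M) i
    rw [hs, Finset.singleton_subset_iff, Finset.mem_singleton] at hsub
    subst hsub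
    have h0 := congrFun (add_eq_left.mp h) l
    simp [unitVec, unitVec_ne_zero hM l] at h0
  · rw [supp_pair hM hij] at hs
    have := congrArg Finset.card hs
    rw [Finset.card_pair hij, Finset.card_singleton] at this
    omega

lemma zero_ne_unitVec (hM : ∀ i, 1 < M i) (i : Fin n) : (0 : ∀ l, ZMod (M l)) ≠ unitVec M i :=
  fun h => by
    have := congrFun h i
    simp [unitVec] at this
    exact unitVec_ne_zero hM i this.symm

lemma eq_of_fix_unitVec (hM : ∀ i, 1 < M i) (σ : (∀ l, ZMod (M l)) ≃+ (∀ l, ZMod (M l)))
    (h : ∀ i, σ (unitVec M i) = unitVec M i) (v : ∀ l, ZMod (M l)) : σ v = v := by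
  have hv : ∀ i, Pi.single i (v i) = (v i).val • unitVec M i := fun i => by
    haveI : NeZero (M i) := ⟨by have := hM i; omega⟩
    rw [unitVec, ← Pi.single_smul, nsmul_one, ZMod.natCast_zmod_val]
  conv_lhs => rw [← Finset.univ_sum_single v]
  conv_rhs => rw [← Finset.univ_sum_single v]
  rw [map_sum]
  refine Finset.sum_congr rfl fun i _ => ?_
  rw [hv, map_nsmul, h]

/-- The rigid pair of sets. -/
theorem exists_rigid_sets (hM : ∀ i, 1 < M i) :
    ∃ By Bz : Set (∀ l, ZMod (M l)), (0 : ∀ l, ZMod (M l)) ∉ By ∧ (0 : ∀ l, ZMod (M l)) ∉ Bz ∧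
      (∀ i, unitVec M i ∈ By) ∧
      (∀ i j, unitVec M i + unitVec M j ≠ 0 → unitVec M i + unitVec M j ∈ Bz) ∧
      ∀ σ : (∀ l, ZMod (M l)) ≃+ (∀ l, ZMod (M l)), (∀ v, σ v ∈ By ↔ v ∈ By) →
        (∀ v, σ v ∈ Bz ↔ v ∈ Bz) → ∀ v, σ v = v := by
  classical
  set e := unitVec M with he
  let PD : Set (∀ l, ZMod (M l)) := {v | (∃ i j, v = e i + e j) ∧ v ≠ 0}
  have hPDe : ∀ l, e l ∉ PD := fun l ⟨⟨i, j, h⟩, _⟩ => pair_ne hM i j l h.symm
  have h0e : ∀ l, (0 : ∀ l, ZMod (M l)) ≠ e l := zero_ne_unitVec hM
  obtain rfl | rfl | rfl | rfl | ⟨m, rfl⟩ :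
      n = 0 ∨ n = 1 ∨ n = 2 ∨ n = 3 ∨ ∃ m, n = m + 4 := by
    rcases Nat.lt_or_ge n 4 with h | h
    · omega
    · exact Or.inr (Or.inr (Or.inr (Or.inr ⟨n - 4, by omega⟩)))
  ·
    exact ⟨∅, ∅, id, id, fun i => i.elim0, fun i => i.elim0, fun σ _ _ v => Subsingleton.elim _ _⟩
  ·
    refine ⟨{e 0}, PD, fun h => h0e 0 h, fun h => h.2 rfl, fun i => ?_, fun i j h => ⟨⟨i, j, rfl⟩, h⟩,
      fun σ hy _ => eq_of_fix_unitVec hM σ fun i => ?_⟩
    · obtain rfl : i = 0 := Subsingleton.elim _ _
      exact rfl
    · obtain rfl : i = 0 := Subsingleton.elim _ _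
      exact (hy (e 0)).mpr rfl
  ·
    refine ⟨{e 0, e 1}, PD ∪ {e 0}, ?_, ?_, fun i => ?_, fun i j h => Or.inl ⟨⟨i, j, rfl⟩, h⟩,
      fun σ hy hz => eq_of_fix_unitVec hM σ ?_⟩
    · rintro (h | h) <;> exact h0e _ h
    · rintro (h | h)
      · exact h.2 rfl
      · exact h0e _ h
    · fin_cases i
      · exact Or.inl rfl
      · exact Or.inr rfl
    · have h01 : e 0 ≠ e 1 := fun h => absurd (unitVec_injective hM h) (by decide)
      have h1z : e 1 ∉ PD ∪ {e 0} := by
        rintro (h | h)
        · exact hPDe 1 h
        · exact h01 h.symm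
      have e1 : σ (e 1) = e 1 := by
        rcases (hy (e 1)).mpr (Or.inr rfl) with h | h
        · exact absurd ((hz (e 1)).mp (by rw [h]; exact Or.inr rfl)) h1z
        · exact h
      intro i
      fin_cases i
      · rcases (hy (e 0)).mpr (Or.inl rfl) with h | h
        · exact h
        · exact absurd (σ.injective (h.trans e1.symm)) h01
      · exact e1
  ·
    have h01 : e 0 ≠ e 1 := fun h => absurd (unitVec_injective hM h) (by decide)
    have h02 : e 0 ≠ e 2 := fun h => absurd (unitVec_injective hM h) (by decide)
    have h12 : e 1 ≠ e 2 := fun h => absurd (unitVec_injective hM h) (by decide)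
    have hp0 : e 0 + e 1 ≠ 0 := fun h => by
      have := congrArg supp h
      rw [supp_pair hM (by decide)] at this
      simp [supp_zero] at this
    refine ⟨{e 0, e 1, e 2, e 0 + e 1}, PD ∪ {e 0}, ?_, ?_, fun i => ?_,
      fun i j h => Or.inl ⟨⟨i, j, rfl⟩, h⟩, fun σ hy hz => eq_of_fix_unitVec hM σ ?_⟩
    · rintro (h | h | h | h)
      · exact h0e _ h
      · exact h0e _ h
      · exact h0e _ h
      · exact hp0 h.symm
    · rintro (h | h)
      · exact h.2 rfl
      · exact h0e _ h
    · fin_cases i
      · exact Or.inl rfl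
      · exact Or.inr (Or.inl rfl)
      · exact Or.inr (Or.inr (Or.inl rfl))
    · have hpz : e 0 + e 1 ∈ PD ∪ {e 0} := Or.inl ⟨⟨0, 1, rfl⟩, hp0⟩
      have hout : ∀ k : Fin 3, k ≠ 0 → e k ∉ PD ∪ {e 0} := by
        rintro k hk (h | h)
        · exact hPDe k h
        · exact hk (unitVec_injective hM h)
      have him : ∀ k : Fin 3, k ≠ 0 → σ (e k) = e 1 ∨ σ (e k) = e 2 := by
        intro k hk
        have hkY : e k ∈ ({e 0, e 1, e 2, e 0 + e 1} : Set (∀ l, ZMod (M l))) := by
          fin_cases k
          · exact absurd rfl hk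
          · exact Or.inr (Or.inl rfl)
          · exact Or.inr (Or.inr (Or.inl rfl))
        rcases (hy (e k)).mpr hkY with h | h | h | h
        · exact absurd ((hz (e k)).mp (by rw [h]; exact Or.inr rfl)) (hout k hk)
        · exact Or.inl h
        · exact Or.inr h
        · exact absurd ((hz (e k)).mp (by rw [h]; exact hpz)) (hout k hk)
      have e0 : σ (e 0) = e 0 := by
        rcases (hy (e 0)).mpr (Or.inl rfl) with h | h | h | h
        · exact h
        · exact absurd ((hz (e 0)).mpr (Or.inr rfl)) (by rw [h]; exact hout 1 (by decide))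
        · exact absurd ((hz (e 0)).mpr (Or.inr rfl)) (by rw [h]; exact hout 2 (by decide))
        · exfalso
          have hYp : σ (e 0 + e 1) = e 0 := by
            rcases (hy (e 0 + e 1)).mpr (Or.inr (Or.inr (Or.inr rfl))) with h' | h' | h' | h'
            · exact h'
            · exact absurd ((hz (e 0 + e 1)).mpr hpz) (by rw [h']; exact hout 1 (by decide))
            · exact absurd ((hz (e 0 + e 1)).mpr hpz) (by rw [h']; exact hout 2 (by decide))
            · exact absurd (add_eq_left.mp (σ.injective (h'.trans h.symm))) (fun e' => h0e 1 e'.symm)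
          rw [map_add, h] at hYp
          -- `σ (e 1) = - e 1`
          have h1 : e 1 + σ (e 1) = 0 := by
            have := hYp
            rw [add_assoc, add_eq_left] at this
            exact this
          rcases him 1 (by decide) with h1' | h1'
          · rcases him 2 (by decide) with h2' | h2'
            · exact h12 (σ.injective (h1'.trans h2'.symm))
            · have hmem := (hz (e 0 + e 2)).mpr (Or.inl ⟨⟨0, 2, rfl⟩, fun h' => by
                have := congrArg supp h'
                rw [supp_pair hM (by decide)] at this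
                simp [supp_zero] at this⟩)
              rw [map_add, h, h2'] at hmem
              have hs := supp_triple hM (show (0 : Fin 3) ≠ 1 by decide) (show (0 : Fin 3) ≠ 2 by decide)
                (show (1 : Fin 3) ≠ 2 by decide)
              rcases hmem with ⟨⟨i, j, hij⟩, -⟩ | h'
              · have := congrArg supp hij
                rw [he, hs] at this
                rcases eq_or_ne i j with rfl | hne
                · have hsub := supp_double (M := M) i
                  rw [← this] at hsub
                  have hc := Finset.card_le_card hsub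
                  rw [Finset.card_singleton] at hc
                  simp at hc
                · rw [supp_pair hM hne] at this
                  have hc := congrArg Finset.card this
                  rw [Finset.card_pair hne] at hc
                  simp at hc
              · have := congrArg supp (show e 0 + e 1 + e 2 = e 0 from h')
                rw [he, hs, supp_unitVec hM] at this
                exact absurd this (by decide)
          · rw [h1'] at h1
            have := congrArg supp h1
            rw [supp_pair hM (by decide)] at this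
            simp [supp_zero] at this
      have e1 : σ (e 1) = e 1 := by
        rcases (hy (e 0 + e 1)).mpr (Or.inr (Or.inr (Or.inr rfl))) with h | h | h | h
        · exact absurd (add_eq_left.mp (σ.injective (h.trans e0.symm))) (fun e' => h0e 1 e'.symm)
        · exact absurd ((hz (e 0 + e 1)).mpr hpz) (by rw [h]; exact hout 1 (by decide))
        · exact absurd ((hz (e 0 + e 1)).mpr hpz) (by rw [h]; exact hout 2 (by decide))
        · rw [Set.mem_singleton_iff, map_add, e0, add_right_inj] at h
          exact h
      intro i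
      fin_cases i
      · exact e0
      · exact e1
      · rcases him 2 (by decide) with h | h
        · exact absurd (σ.injective (h.trans e1.symm)) h12.symm
        · exact h
  ·
    let a0 : Fin (m + 4) := ⟨0, by omega⟩
    let a1 : Fin (m + 4) := ⟨1, by omega⟩
    let a2 : Fin (m + 4) := ⟨2, by omega⟩
    let T := e a0 + e a1 + e a2
    let path : Set (∀ l, ZMod (M l)) := {v | ∃ i j : Fin (m + 4), j.val = i.val + 1 ∧ v = e i + e j}
    have hne01 : a0 ≠ a1 ∧ a0 ≠ a2 ∧ a1 ≠ a2 := by simp [a0, a1, a2]
    have hsT : supp T = {a0, a1, a2} := supp_triple hM hne01.1 hne01.2.1 hne01.2.2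
    have hcT : ({a0, a1, a2} : Finset (Fin (m + 4))).card = 3 :=
      Finset.card_eq_three.mpr ⟨a0, a1, a2, hne01.1, hne01.2.1, hne01.2.2, rfl⟩
    have hTe : ∀ l, T ≠ e l := fun l h => by
      have := congrArg supp h
      rw [hsT, he, supp_unitVec hM] at this
      have hc := congrArg Finset.card this
      rw [hcT, Finset.card_singleton] at hc
      omega
    have hT0 : (0 : ∀ l, ZMod (M l)) ≠ T := fun h => by
      have := congrArg supp h
      rw [hsT, supp_zero] at this
      exact Finset.insert_ne_empty _ _ this.symm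
    have hpath0 : ∀ v ∈ path, v ≠ 0 := by
      rintro v ⟨i, j, hij, rfl⟩ h
      have := congrArg supp h
      rw [he, supp_pair hM (fun e' => by rw [e'] at hij; omega)] at this
      simp [supp_zero] at this
    refine ⟨Set.range e ∪ path ∪ {T}, PD ∪ {T}, ?_, ?_, fun i => Or.inl (Or.inl ⟨i, rfl⟩),
      fun i j h => Or.inl ⟨⟨i, j, rfl⟩, h⟩, fun σ hy hz => ?_⟩
    · rintro ((⟨i, hi⟩ | h) | h)
      · exact h0e i hi.symm
      · exact hpath0 _ h rfl
      · exact hT0 h
    · rintro (h | h)
      · exact h.2 rfl
      · exact hT0 h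
    have hb : ∀ i, ∃ j, σ (e i) = e j := by
      intro i
      have hnot : σ (e i) ∉ PD ∪ {T} := fun h => by
        rcases (hz (e i)).mp h with h' | h'
        · exact hPDe i h'
        · exact hTe i h'.symm
      rcases (hy (e i)).mpr (Or.inl (Or.inl ⟨i, rfl⟩)) with (⟨j, hj⟩ | ⟨a, b, hab, h⟩) | h
      · exact ⟨j, hj.symm⟩
      · exact absurd (Or.inl ⟨⟨a, b, h⟩, hpath0 _ ⟨a, b, hab, h⟩⟩) hnot
      · exact absurd (Or.inr h) hnot
    choose π hπ using hb
    have hπinj : Function.Injective π := fun i j h =>
      unitVec_injective hM (σ.injective (by rw [← he, hπ, hπ, h]))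
    have hin : ∀ v, v ∈ path ∨ v = T → σ v ∈ path ∨ σ v = T := by
      intro v hv
      have hvY : v ∈ Set.range e ∪ path ∪ {T} := by
        rcases hv with h | h
        · exact Or.inl (Or.inr h)
        · exact Or.inr h
      have hvZ : v ∈ PD ∪ {T} := by
        rcases hv with ⟨i, j, hij, h⟩ | h
        · exact Or.inl ⟨⟨i, j, h⟩, hpath0 v ⟨i, j, hij, h⟩⟩
        · exact Or.inr h
      rcases (hy v).mpr hvY with (⟨l, hl⟩ | h) | h
      · exfalso
        rcases (hz v).mpr hvZ with h' | h'
        · exact hPDe l (hl ▸ h')
        · exact hTe l (hl.trans h').symm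
      · exact Or.inl h
      · exact Or.inr h
    have hadj : ∀ i j : Fin (m + 4), j.val = i.val + 1 →
        (π j).val = (π i).val + 1 ∨ (π i).val = (π j).val + 1 := by
      intro i j hij
      have hne : i ≠ j := fun h => by rw [h] at hij; omega
      have h := hin (e i + e j) (Or.inl ⟨i, j, hij, rfl⟩)
      rw [map_add, hπ, hπ] at h
      rcases h with ⟨a, b, hab, h⟩ | h
      · have hs := congrArg supp h
        have hab' : a ≠ b := fun h => by rw [h] at hab; omega
        rw [he, supp_pair hM (hπinj.ne hne), supp_pair hM hab'] at hs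
        have h1 : π i = a ∨ π i = b := by
          have : π i ∈ ({a, b} : Finset _) := by rw [← hs]; simp
          simpa using this
        have h2 : π j = a ∨ π j = b := by
          have : π j ∈ ({a, b} : Finset _) := by rw [← hs]; simp
          simpa using this
        have h3 : π i ≠ π j := hπinj.ne hne
        rcases h1 with h1 | h1 <;> rcases h2 with h2 | h2 <;> rw [h1, h2] at h3 ⊢
        · exact absurd rfl h3
        · exact Or.inl hab
        · exact Or.inr hab
        · exact absurd rfl h3
      · have hs := congrArg supp h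
        rw [hsT, he, supp_pair hM (hπinj.ne hne)] at hs
        have hc := congrArg Finset.card hs
        rw [hcT, Finset.card_pair (hπinj.ne hne)] at hc
        omega
    have htri : (π a0).val < 3 ∧ (π a1).val < 3 ∧ (π a2).val < 3 := by
      have h := hin T (Or.inr rfl)
      simp only [T, map_add, hπ] at h
      have hs3 := supp_triple hM (hπinj.ne hne01.1) (hπinj.ne hne01.2.1) (hπinj.ne hne01.2.2)
      rcases h with ⟨a, b, hab, h⟩ | h
      · exfalso
        have hs := congrArg supp h
        have hab' : a ≠ b := fun h => by rw [h] at hab; omega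
        rw [he, hs3, supp_pair hM hab'] at hs
        have hc := congrArg Finset.card hs
        rw [Finset.card_pair hab', Finset.card_eq_three.mpr
          ⟨π a0, π a1, π a2, hπinj.ne hne01.1, hπinj.ne hne01.2.1, hπinj.ne hne01.2.2, rfl⟩] at hc
        omega
      · have hs := congrArg supp h
        rw [hsT, he, hs3] at hs
        have key : ∀ l ∈ ({π a0, π a1, π a2} : Finset (Fin (m + 4))), l.val < 3 := by
          intro l hl
          rw [hs] at hl
          simp only [Finset.mem_insert, Finset.mem_singleton] at hl
          rcases hl with rfl | rfl | rfl <;> simp [a0, a1, a2]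
        exact ⟨key _ (by simp), key _ (by simp), key _ (by simp)⟩
    obtain ⟨h0, h1, h2⟩ := htri
    let a3 : Fin (m + 4) := ⟨3, by omega⟩
    have h01 := hadj a0 a1 rfl
    have h12 := hadj a1 a2 rfl
    have h23 := hadj a2 a3 rfl
    have n02 : (π a0).val ≠ (π a2).val := fun h => hne01.2.1 (hπinj (Fin.ext h))
    have n31 : (π a3).val ≠ (π a1).val := fun h => by
      have := congrArg Fin.val (hπinj (Fin.ext h))
      simp [a3, a1] at this
    have n30 : (π a3).val ≠ (π a0).val := fun h => by
      have := congrArg Fin.val (hπinj (Fin.ext h))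
      simp [a3, a0] at this
    have hid : ∀ k, ∀ i : Fin (m + 4), i.val = k → (π i).val = k := by
      intro k
      induction k using Nat.strong_induction_on with
      | _ k ih =>
        intro i hi
        rcases Nat.lt_or_ge k 3 with hk | hk
        · interval_cases k
          · rw [show i = a0 from Fin.ext hi]; omega
          · rw [show i = a1 from Fin.ext hi]; omega
          · rw [show i = a2 from Fin.ext hi]; omega
        · obtain ⟨j, rfl⟩ : ∃ j, k = j + 2 := ⟨k - 2, by omega⟩
          have hk' : i.val < m + 4 := i.isLt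
          have := ih (j + 1) (by omega) ⟨j + 1, by omega⟩ rfl
          have hj := ih j (by omega) ⟨j, by omega⟩ rfl
          have hne : (π i).val ≠ (π ⟨j, by omega⟩).val := fun h => by
            have := congrArg Fin.val (hπinj (Fin.ext h))
            simp at this
            omega
          have := hadj ⟨j + 1, by omega⟩ i hi
          omega
    exact eq_of_fix_unitVec hM σ fun i => by
      rw [← he, hπ, show π i = i from Fin.ext (hid _ i rfl)]

end CfsgLib.SolvBase
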