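import Cfsg.Agent.OddBase.Prim
import Cfsg.Agent.SolvBase.BlockTriple
import Cfsg.Agent.SolvBase.Frame
import Cfsg.Agent.SolvBase.Sets

/-!
Three vectors for a soluble group all of whose normal abelian subgroups span fields.
-/

set_option autoImplicit false
set_option linter.style.haveILetI false
set_option linter.unusedSectionVars false

universe u

namespace CfsgLib.SolvBase

open OddBase Polynomial
open scoped commutatorElement

lemma pair_unique {n : ℕ} {M : Fin n → ℕ} (hM : ∀ i, 1 < M i) {i j a b : Fin n} (hij : i ≤ j)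
    (hab : a ≤ b) (h : unitVec M i + unitVec M j = unitVec M a + unitVec M b)
    (h0 : unitVec M i + unitVec M j ≠ 0) : i = a ∧ j = b := by
  have hne : (supp (unitVec M i + unitVec M j)).Nonempty := by
    rw [Finset.nonempty_iff_ne_empty]
    exact fun hs => h0 (funext fun l => by
      by_contra hl
      exact Finset.notMem_empty l (hs ▸ mem_supp.mpr hl))
  have hs := congrArg supp h
  rcases eq_or_ne i j with rfl | hne1
  · have h1 : supp (unitVec M i + unitVec M i) = {i} :=
      (Finset.subset_singleton_iff.mp (supp_double i)).resolve_left hne.ne_empty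
    rw [h1] at hs
    rcases eq_or_ne a b with rfl | hne2
    · have : i ∈ ({a} : Finset (Fin n)) := supp_double a (by rw [← hs]; exact Finset.mem_singleton_self i)
      rw [Finset.mem_singleton] at this
      exact ⟨this, this⟩
    · rw [supp_pair hM hne2] at hs
      have := congrArg Finset.card hs
      rw [Finset.card_singleton, Finset.card_pair hne2] at this
      omega
  · rw [supp_pair hM hne1] at hs
    rcases eq_or_ne a b with rfl | hne2
    · have := Finset.card_le_card (supp_double (M := M) a)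
      rw [← hs, Finset.card_pair hne1, Finset.card_singleton] at this
      omega
    · rw [supp_pair hM hne2] at hs
      have hi : i = a ∨ i = b := by
        have : i ∈ ({a, b} : Finset (Fin n)) := by rw [← hs]; simp
        simpa using this
      have hj : j = a ∨ j = b := by
        have : j ∈ ({a, b} : Finset (Fin n)) := by rw [← hs]; simp
        simpa using this
      rcases hi with rfl | rfl <;> rcases hj with rfl | rfl
      · exact absurd rfl hne1
      · exact ⟨rfl, rfl⟩
      · exact absurd (le_antisymm hij hab) hne1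
      · exact absurd rfl hne1

variable {V : Type u} [AddCommGroup V]

set_option maxHeartbeats 1000000 in
open scoped Classical in
/-- Three vectors in the case of fields. -/
theorem prim_hasTriple [Finite V] [Nontrivial V] {A : Subgroup (Aut V)}
    (hsol : Group.IsSolvable A) (hfield : AllFields A) : HasTriple A := by
  obtain ⟨S, hSA, hAn, hC⟩ := exists_setup hsol hfield
  subst hSA
  have hAc : ∀ a ∈ S.A0, ∀ b ∈ S.A0, a * b = b * a := fun a ha b hb =>
    S.cen a (S.e_le (S.a0_le ha)) b hb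
  have hfl := hfield S.A0 hAn hAc
  set L := spanRing S.A0 with hLdef
  letI instF : Field L := fieldOf hAc hfl
  have : Fintype L := Fintype.ofFinite _
  letI : Module L V := inferInstance
  have hlin : ∀ c ∈ S.C, ∀ (s : L) (v : V), c • (s • v) = s • (c • v) :=
    fun c hc s v => DFunLike.congr_fun (comm_spanRing (S.cen c hc) s.2) v
  have hf : Fpf S := fun a ha ha1 v hv => fpf_of_field hAc hfl ha ha1 hv
  obtain ⟨F⟩ := exists_frame S
  -- the vector and generators of the orthogonal
  obtain ⟨x, w1, m1, m2, hx0, hxW, hw1W, hw10, hm1, hm2, hgen, hgm⟩ :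
      ∃ (x w1 : V) (m1 m2 : S.E), x ≠ 0 ∧ InW F.K x ∧ InW F.K w1 ∧ w1 ≠ 0 ∧ cl S m1 ∈ F.D ∧
        cl S m2 ∈ F.D ∧ F.D ≤ F.X ⊔ Subgroup.closure {cl S m1, cl S m2} ∧
        ∀ g ∈ S.C, g • x = x → g • w1 = w1 →
          g • (m1 : Aut V) • x = (m1 : Aut V) • x ∧ g • (m2 : Aut V) • x = (m2 : Aut V) • x := by
    obtain ⟨x0, hx0, hx0W⟩ := F.wit
    rcases F.exists_gens hf with hle | ⟨m1, m2, hm1, hm2, hs1, hs2, hanti, ⟨c, hc, hc1, hcneg⟩, hgen⟩
    · refine ⟨x0, x0, 1, 1, hx0, hx0W, hx0W, hx0, ?_, ?_, hle.trans le_sup_left, fun g _ h _ => ?_⟩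
      · rw [map_one]; exact F.D.one_mem
      · rw [map_one]; exact F.D.one_mem
      · simp [h]
    have hodd : Fintype.card L % 2 = 1 := by
      by_contra h
      have h2 : 2 ∣ Fintype.card L := Nat.dvd_of_mod_eq_zero (by omega)
      rw [← Nat.card_eq_fintype_card] at h2
      haveI := Fact.mk Nat.prime_two
      obtain ⟨t, ht⟩ := exists_prime_addOrderOf_dvd_card' 2 h2
      have ht0 : t ≠ 0 := fun e => by rw [e, addOrderOf_zero] at ht; omega
      have h22 : (2 : L) = 0 := by
        have h1 : 2 • t = 0 := by rw [← ht]; exact addOrderOf_nsmul_eq_zero t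
        rw [nsmul_eq_mul] at h1
        exact (mul_eq_zero.mp h1).resolve_right ht0
      refine hc1 (aut_ext fun v => ?_)
      have h2v : v + v = 0 := by rw [← two_smul L v, h22, zero_smul]
      rw [hcneg, one_smul]
      exact neg_eq_of_add_eq_zero_left h2v
    let a1 : L := ⟨((m1 : Aut V) * m1 : Aut V), coe_mem_spanRing hs1⟩
    let a2 : L := ⟨((m2 : Aut V) * m2 : Aut V), coe_mem_spanRing hs2⟩
    have e11 : ∀ v : V, (m1 : Aut V) • (m1 : Aut V) • v = a1 • v := fun v => (mul_smul _ _ v).symm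
    have e22 : ∀ v : V, (m2 : Aut V) • (m2 : Aut V) • v = a2 • v := fun v => (mul_smul _ _ v).symm
    have hne : ∀ a : L, (∀ v : V, a • v = 0 → v = 0) → a ≠ 0 := fun a h e =>
      hx0 (h x0 (by rw [e, zero_smul]))
    have ha1 : a1 ≠ 0 := hne a1 fun v hv => by
      rw [← e11] at hv
      exact (smul_eq_zero_iff_eq _).mp ((smul_eq_zero_iff_eq _).mp hv)
    have ha2 : a2 ≠ 0 := hne a2 fun v hv => by
      rw [← e22] at hv
      exact (smul_eq_zero_iff_eq _).mp ((smul_eq_zero_iff_eq _).mp hv)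
    obtain ⟨s, t, hst⟩ := FiniteField.exists_root_sum_quadratic (R := L) (f := X ^ 2)
      (g := C (-a1) * X ^ 2 + C (-a2⁻¹)) (degree_X_pow 2)
      (by rw [degree_add_C (by rw [degree_C_mul_X_pow 2 (neg_ne_zero.mpr ha1)]; norm_num),
          degree_C_mul_X_pow 2 (neg_ne_zero.mpr ha1)]; norm_num) hodd
    simp only [eval_pow, eval_X, eval_add, eval_mul, eval_C] at hst
    have hst' : s * s - a1 * (t * t) = a2⁻¹ := by linear_combination hst
    have hC1 : (m1 : Aut V) ∈ S.C := S.e_le m1.2
    have hC2 : (m2 : Aut V) ∈ S.C := S.e_le m2.2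
    let um : V → V := fun v => s • ((m2 : Aut V) • v) + t • ((m1 : Aut V) • (m2 : Aut V) • v)
    have hum2 : um (um x0) = x0 := by
      have k1 : (m2 : Aut V) • (m1 : Aut V) • (m2 : Aut V) • x0 =
          -((m1 : Aut V) • (m2 : Aut V) • (m2 : Aut V) • x0) := by
        rw [hanti ((m2 : Aut V) • x0), neg_neg]
      simp only [um, smul_add, hlin _ hC1, hlin _ hC2, k1, e22, smul_neg, e11]
      have : (s * s * a2 - t * t * a2 * a1) • x0 = x0 := by
        rw [show s * s * a2 - t * t * a2 * a1 = (s * s - a1 * (t * t)) * a2 by ring, hst',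
          inv_mul_cancel₀ ha2, one_smul]
      conv_rhs => rw [← this]
      generalize (m1 : Aut V) • x0 = y1
      module
    have humadd : ∀ v w, um (v + w) = um v + um w := fun v w => by
      simp only [um, smul_add]; abel
    have humW : ∀ v, InW F.K v → InW F.K (um v) := fun v hv k hk => by
      simp only [um, smul_add, hlin k (S.e_le (F.le hk))]
      rw [F.inW_smul hm2 hv k hk, F.inW_smul hm1 (F.inW_smul hm2 hv) k hk]
    obtain ⟨x, hx, hxW, ε, hε⟩ : ∃ x, x ≠ 0 ∧ InW F.K x ∧ ∃ ε : L, um x = ε • x := by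
      by_cases h : x0 + um x0 = 0
      · refine ⟨x0, hx0, hx0W, -1, ?_⟩
        rw [neg_smul, one_smul]
        exact eq_neg_of_add_eq_zero_right h
      · refine ⟨x0 + um x0, h, fun k hk => by rw [smul_add, hx0W k hk, humW _ hx0W k hk], 1, ?_⟩
        rw [one_smul, humadd, hum2, add_comm]
    refine ⟨x, (m1 : Aut V) • x, m1, m2, hx, hxW, F.inW_smul hm1 hxW,
      fun h => hx ((smul_eq_zero_iff_eq _).mp h), hm1, hm2, hgen, fun g hg hgx hgw => ⟨hgw, ?_⟩⟩
    have hm2x : (m2 : Aut V) • x = a2 • (ε • (s • x - t • ((m1 : Aut V) • x))) := by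
      have h1 : s • um x - t • ((m1 : Aut V) • um x) = ε • (s • x - t • ((m1 : Aut V) • x)) := by
        rw [hε, hlin _ hC1, smul_sub, smul_comm s ε, smul_comm t ε]
      simp only [um, smul_add, hlin _ hC1, e11] at h1
      rw [← h1]
      have h2 : (m2 : Aut V) • x = (a2 * (s * s - a1 * (t * t))) • ((m2 : Aut V) • x) := by
        rw [hst', mul_inv_cancel₀ ha2, one_smul]
      conv_lhs => rw [h2]
      generalize (m1 : Aut V) • (m2 : Aut V) • x = y12
      generalize (m2 : Aut V) • x = y2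
      module
    rw [hm2x]
    simp only [hlin g hg, smul_sub, hgx, hgw]
  -- a generator of the multiplicative group of the field
  obtain ⟨γ, hγ⟩ := IsCyclic.exists_monoid_generator (α := Lˣ)
  -- coordinates on the quotient
  obtain ⟨ι, hι, M0, hM0, ⟨φ⟩⟩ := CommGroup.equiv_prod_multiplicative_zmod_of_finite (S.U ⧸ F.D)
  obtain ⟨n, ⟨eι⟩⟩ : ∃ n, Nonempty (ι ≃ Fin n) := ⟨_, ⟨Fintype.equivFin ι⟩⟩
  let M : Fin n → ℕ := fun i => M0 (eι.symm i)
  have hM : ∀ i, 1 < M i := fun i => hM0 _
  let co : (S.U ⧸ F.D) ≃ (∀ l, ZMod (M l)) :=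
    (φ.toEquiv.trans (Equiv.piCongrRight fun _ => Multiplicative.toAdd)).trans
      (Equiv.piCongrLeft' (fun j => ZMod (M0 j)) eι)
  have hco : ∀ a b, co (a * b) = co a + co b := fun a b => by
    funext l
    simp [co]
  have hco1 : co 1 = 0 := add_eq_left.mp ((hco 1 1).symm.trans (by rw [one_mul]))
  have hcopow : ∀ (q : S.U ⧸ F.D) (k : ℕ), co (q ^ k) = k • co q := fun q k => by
    induction k with
    | zero => simpa using hco1
    | succ k ih => rw [pow_succ, hco, ih, succ_nsmul]
  have hlift : ∀ i, ∃ f : S.E, co (F.qc f) = unitVec M i ∧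
      (M i = 2 → (f : Aut V) * f ∈ S.A0) := by
    intro i
    obtain ⟨h, hh⟩ := F.qc_surjective (co.symm (unitVec M i))
    by_cases hi : M i = 2
    · have hN : (Monoid.exponent S.U : ZMod (M i)) = 0 := by
        have h1 : F.qc h ^ Monoid.exponent S.U = 1 := by
          rw [← map_pow, Frame.qc_eq_one, map_pow, Monoid.pow_exponent_eq_one]
          exact F.D.one_mem
        have h2 := congrFun (congrArg co h1) i
        rw [hcopow, hh, Equiv.apply_symm_apply, hco1] at h2
        simpa [unitVec] using h2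
      rw [ZMod.natCast_eq_zero_iff, hi] at hN
      obtain ⟨N', hN'⟩ := hN
      have hodd : N' % 2 = 1 := by
        have := exponent_squarefree (S := S)
        rw [hN', Nat.squarefree_mul_iff] at this
        exact Nat.odd_iff.mp (Nat.coprime_two_left.mp this.1)
      refine ⟨h ^ N', ?_, fun _ => ?_⟩
      · rw [map_pow, hcopow, hh, Equiv.apply_symm_apply, unitVec, ← Pi.single_smul, nsmul_one,
          show (N' : ZMod (M i)) = 1 from ?_]
        calc (N' : ZMod (M i)) = ((N' % M i : ℕ) : ZMod (M i)) := (ZMod.natCast_mod N' (M i)).symm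
          _ = ((1 : ℕ) : ZMod (M i)) := congrArg _ (by rw [hi]; exact hodd)
          _ = 1 := Nat.cast_one
      · rw [← sq]
        refine Frame.pow_mem_A0 ?_
        rw [map_pow, ← pow_mul, mul_comm, ← hN', Monoid.pow_exponent_eq_one]
    · exact ⟨h, by rw [hh, Equiv.apply_symm_apply], fun e => absurd e hi⟩
  choose f hf1 hf2 using hlift
  obtain ⟨By, Bz, hy0, hz0, hyb, hzp, hrigid⟩ := exists_rigid_sets hM
  have : Fintype (S.U ⧸ F.D) := Fintype.ofFinite _
  let Ty : Finset (S.U ⧸ F.D) := Finset.univ.filter fun q => co q ∈ By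
  let Tz : Finset (S.U ⧸ F.D) := Finset.univ.filter fun q => co q ∈ Bz
  have hTy : ∀ q, q ∈ Ty ↔ co q ∈ By := fun q => by simp [Ty]
  have hTz : ∀ q, q ∈ Tz ↔ co q ∈ Bz := fun q => by simp [Tz]
  let R : (S.U ⧸ F.D) → S.E := fun q =>
    if h : ∃ p : Fin n × Fin n, p.1 ≤ p.2 ∧ co q = unitVec M p.1 + unitVec M p.2 then
      f h.choose.1 * f h.choose.2
    else if h : ∃ i, co q = unitVec M i then f h.choose else Function.surjInv F.qc_surjective q
  have hRpair : ∀ i j q, i ≤ j → co q = unitVec M i + unitVec M j →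
      unitVec M i + unitVec M j ≠ 0 → R q = f i * f j := by
    intro i j q hij hq h0
    have h : ∃ p : Fin n × Fin n, p.1 ≤ p.2 ∧ co q = unitVec M p.1 + unitVec M p.2 :=
      ⟨(i, j), hij, hq⟩
    simp only [R, dif_pos h]
    obtain ⟨e1, e2⟩ := pair_unique hM hij h.choose_spec.1 (hq.symm.trans h.choose_spec.2) h0
    rw [← e1, ← e2]
  have hRone : ∀ i q, co q = unitVec M i → R q = f i := by
    intro i q hq
    have h1 : ¬ ∃ p : Fin n × Fin n, p.1 ≤ p.2 ∧ co q = unitVec M p.1 + unitVec M p.2 :=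
      fun ⟨p, _, hp⟩ => pair_ne hM p.1 p.2 i (hp.symm.trans hq)
    have h2 : ∃ j, co q = unitVec M j := ⟨i, hq⟩
    simp only [R, dif_neg h1, dif_pos h2]
    rw [unitVec_injective hM (hq.symm.trans h2.choose_spec)]
  have hR : ∀ q, F.qc (R q) = q := by
    intro q
    simp only [R]
    split_ifs with h1 h2
    · refine co.injective (Eq.trans ?_ h1.choose_spec.2.symm)
      rw [map_mul, hco, hf1, hf1]
    · exact co.injective ((hf1 _).trans h2.choose_spec.symm)
    · exact Function.surjInv_eq _ q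
  let vy : V := (γ : L) • x
  have hvyW : InW F.K vy := fun k hk => by
    rw [hlin k (S.e_le (F.le hk)), hxW k hk]
  have hvy0 : vy ≠ 0 := fun h => hx0 ((smul_eq_zero.mp h).resolve_left γ.ne_zero)
  refine ⟨(x, vy + ∑ q ∈ Ty, (R q : Aut V) • x, w1 + ∑ q ∈ Tz, (R q : Aut V) • x),
    fun g hg hgx hgy hgz => ?_⟩
  change g • x = x at hgx
  have hgK : ∀ h ∈ S.A, h • x = x → ∀ k ∈ F.K, h * k * h⁻¹ ∈ F.K := fun h hh hhx k hk => by
    refine F.max x hx0 hxW _ (S.e_norm h hh k (F.le hk)) ?_
    rw [mul_smul, mul_smul, inv_smul_eq_iff.mpr hhx.symm, hxW k hk, hhx]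
  have hginv : g⁻¹ • x = x := inv_smul_eq_iff.mpr hgx.symm
  have hgW : ∀ w, InW F.K w → InW F.K (g • w) := fun w hw k hk => by
    have h1 := hgK g⁻¹ (S.A.inv_mem hg) hginv k hk
    rw [inv_inv] at h1
    have h2 : g • ((g⁻¹ * k * g) • w) = g • w := by rw [hw _ h1]
    rw [← mul_smul, mul_assoc, mul_inv_cancel_left, mul_smul] at h2
    exact h2
  -- the action on the quotient
  let ψ : S.E →* S.U ⧸ F.D :=
    F.qc.comp
      { toFun := fun e => ⟨g * e * g⁻¹, S.e_norm g hg e e.2⟩
        map_one' := Subtype.ext (by simp)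
        map_mul' := fun a b => Subtype.ext (by simp [mul_assoc]) }
  have hker : F.qc.ker ≤ ψ.ker := by
    intro e he
    rw [MonoidHom.mem_ker, Frame.qc_eq_one, Frame.mem_D] at he
    rw [MonoidHom.mem_ker]
    refine (Frame.qc_eq_one F).mpr (F.mem_D.mpr fun k hk => ?_)
    have h1 := hgK g⁻¹ (S.A.inv_mem hg) hginv k hk
    rw [inv_inv] at h1
    show g * (e : Aut V) * g⁻¹ * k = k * (g * (e : Aut V) * g⁻¹)
    calc g * (e : Aut V) * g⁻¹ * k = g * ((e : Aut V) * (g⁻¹ * k * g)) * g⁻¹ := by group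
      _ = g * ((g⁻¹ * k * g) * (e : Aut V)) * g⁻¹ := by rw [he _ h1]
      _ = _ := by group
  let σ0 : (S.U ⧸ F.D) →* (S.U ⧸ F.D) := F.qc.liftOfSurjective F.qc_surjective ⟨ψ, hker⟩
  have hσ0 : ∀ e : S.E, σ0 (F.qc e) = F.qc ⟨g * e * g⁻¹, S.e_norm g hg e e.2⟩ := fun e =>
    MonoidHom.liftOfRightInverse_comp_apply _ _ _ ⟨ψ, hker⟩ e
  have hσbij : Function.Bijective σ0 := by
    have hsur : Function.Surjective σ0 := fun q => by
      obtain ⟨e, rfl⟩ := F.qc_surjective q
      refine ⟨F.qc ⟨g⁻¹ * e * g⁻¹⁻¹, S.e_norm _ (S.A.inv_mem hg) e e.2⟩, ?_⟩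
      rw [hσ0]
      congr 1
      exact Subtype.ext (by simp [mul_assoc])
    exact ⟨Finite.injective_iff_surjective.mpr hsur, hsur⟩
  let σ := MulEquiv.ofBijective σ0 hσbij
  -- comparing components
  have step : ∀ (B : Finset (S.U ⧸ F.D)), (1 : S.U ⧸ F.D) ∉ B → ∀ w, InW F.K w → w ≠ 0 →
      g • (w + ∑ q ∈ B, (R q : Aut V) • x) = w + ∑ q ∈ B, (R q : Aut V) • x →
      g • w = w ∧ (∀ q, σ q ∈ B ↔ q ∈ B) ∧
        ∀ q ∈ B, g • (R q : Aut V) • x = (R (σ q) : Aut V) • x := by
    intro B hB w hw hw0 he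
    let v : (S.U ⧸ F.D) → V := fun q => if q = 1 then w else (R q : Aut V) • x
    let v' : (S.U ⧸ F.D) → V := fun q => g • v (σ.symm q)
    let T := insert 1 B
    have hsum : ∑ q ∈ T, v q = w + ∑ q ∈ B, (R q : Aut V) • x := by
      rw [Finset.sum_insert hB]
      refine congrArg₂ (· + ·) (if_pos rfl) (Finset.sum_congr rfl fun q hq => ?_)
      exact if_neg fun e => hB (by rwa [e] at hq)
    have hcomp : ∀ q ∈ T, F.InComp q (v q) := by
      intro q _
      simp only [v]
      split_ifs with h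
      · exact ⟨1, by rw [map_one, h], w, hw, by simp⟩
      · exact ⟨R q, hR q, x, hxW, rfl⟩
    have hne : ∀ q ∈ T, v q ≠ 0 := by
      intro q _
      simp only [v]
      split_ifs with h
      · exact hw0
      · exact fun e => hx0 ((smul_eq_zero_iff_eq _).mp e)
    have hcomp' : ∀ q ∈ T.image σ, F.InComp q (v' q) := by
      intro q hq
      obtain ⟨p, hp, rfl⟩ := Finset.mem_image.mp hq
      obtain ⟨e, he, w', hw', hv⟩ := hcomp p hp
      refine ⟨⟨g * e * g⁻¹, S.e_norm g hg e e.2⟩, ?_, g • w', hgW w' hw', ?_⟩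
      · rw [← hσ0, he]; rfl
      · simp only [v', MulEquiv.symm_apply_apply, hv]
        rw [← mul_smul, ← mul_smul, inv_mul_cancel_right]
    have hsum' : ∑ q ∈ T.image σ, v' q = g • ∑ q ∈ T, v q := by
      rw [Finset.sum_image σ.injective.injOn, Finset.smul_sum]
      exact Finset.sum_congr rfl fun q _ => by simp [v']
    obtain ⟨hT, hv⟩ := F.comp_unique hf hcomp hcomp' hne
      (fun q _ e => by
        obtain ⟨p, hp, rfl⟩ := Finset.mem_image.mp ‹q ∈ T.image σ›
        simp only [v', MulEquiv.symm_apply_apply] at e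
        exact hne p hp ((smul_eq_zero_iff_eq _).mp e))
      (by rw [hsum', hsum, he])
    have hval : ∀ q ∈ T, v (σ q) = g • v q := fun q hq => by
      have h1 := hv (σ q) (by rw [hT]; exact Finset.mem_image_of_mem σ hq)
      simpa [v'] using h1
    refine ⟨?_, fun q => ?_, fun q hq => ?_⟩
    · have := hval 1 (Finset.mem_insert_self 1 B)
      simp only [v, map_one, if_pos] at this
      exact this.symm
    · have h1 : σ q ∈ T ↔ q ∈ T := by
        conv_lhs => rw [hT]
        rw [Finset.mem_image]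
        exact ⟨fun ⟨p, hp, hpq⟩ => σ.injective hpq ▸ hp, fun h => ⟨q, h, rfl⟩⟩
      simp only [T, Finset.mem_insert, map_eq_one_iff σ σ.injective] at h1
      by_cases hq : q = 1
      · subst hq; rw [map_one]
      · simpa [hq] using h1
    · have hq1 : q ≠ 1 := fun e => hB (e ▸ hq)
      have := hval q (Finset.mem_insert_of_mem hq)
      simp only [v, if_neg hq1, if_neg (fun e => hq1 ((map_eq_one_iff σ σ.injective).mp e))] at this
      exact this.symm
  have h1y : (1 : S.U ⧸ F.D) ∉ Ty := fun h => hy0 (hco1 ▸ (hTy 1).mp h)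
  have h1z : (1 : S.U ⧸ F.D) ∉ Tz := fun h => hz0 (hco1 ▸ (hTz 1).mp h)
  obtain ⟨hgvy, hσy, hRy⟩ := step Ty h1y vy hvyW hvy0 hgy
  obtain ⟨hgw1, hσz, hRz⟩ := step Tz h1z w1 hw1W hw10 hgz
  -- `g` centralises the field
  have hgC : g ∈ S.C := by
    have h1 : ∀ z : L, cj g (z : AddMonoid.End V) ∈ L := fun z => spanRing_cj hAn hg z.2
    have hfix : cj g ((γ : L) : AddMonoid.End V) = ((γ : L) : AddMonoid.End V) := by
      have h2 := cj_apply_smul g ((γ : L) : AddMonoid.End V) x
      rw [hgx] at h2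
      have h3 : (⟨_, h1 γ⟩ : L) • x = (γ : L) • x := h2.trans hgvy
      have h4 : ((⟨_, h1 γ⟩ : L) - (γ : L)) • x = 0 := by rw [sub_smul, h3, sub_self]
      exact congrArg Subtype.val (sub_eq_zero.mp ((smul_eq_zero.mp h4).resolve_right hx0))
    rw [hC]
    refine ⟨hg, Subgroup.mem_centralizer_iff.mpr fun a ha => ?_⟩
    have hu : IsUnit (⟨_, coe_mem_spanRing ha⟩ : L) := isUnit_iff_ne_zero.mpr fun e => hx0 (by
      have : a • x = 0 := DFunLike.congr_fun (congrArg Subtype.val e) x
      exact (smul_eq_zero_iff_eq _).mp this)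
    obtain ⟨j, hj⟩ := (Submonoid.mem_powers_iff _ _).mp (hγ hu.unit)
    have h5 : ((γ : L) : AddMonoid.End V) ^ j = (a : AddMonoid.End V) := by
      have := congrArg (fun z : Lˣ => ((z : L) : AddMonoid.End V)) hj
      simpa using this
    have h6 : cj g (a : AddMonoid.End V) = (a : AddMonoid.End V) := by rw [← h5, map_pow, hfix]
    rw [cj_coe] at h6
    exact (mul_inv_eq_iff_eq_mul.mp (Units.ext h6)).symm
  -- the action on the quotient is trivial
  have hσco : ∀ q, σ q = q := by
    let σ' : (∀ l, ZMod (M l)) ≃+ (∀ l, ZMod (M l)) :=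
      { toEquiv := (co.symm.trans σ.toEquiv).trans co
        map_add' := fun a b => by
          obtain ⟨a, rfl⟩ := co.surjective a
          obtain ⟨b, rfl⟩ := co.surjective b
          simp [← hco, ← map_mul] }
    have hσ' : ∀ q, σ' (co q) = co (σ q) := fun q => by simp [σ']
    intro q
    refine co.injective ?_
    rw [← hσ']
    refine hrigid σ' (fun v => ?_) (fun v => ?_) (co q)
    · obtain ⟨p, rfl⟩ := co.surjective v
      rw [hσ', ← hTy, ← hTy, hσy]
    · obtain ⟨p, rfl⟩ := co.surjective v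
      rw [hσ', ← hTz, ← hTz, hσz]
  -- conjugates of the lifts
  have hKc : ∀ d ∈ F.K, ∀ e : S.E, d • (e : Aut V) • x = (e : Aut V) • x → d * e = e * d := by
    intro d hd e hde
    have h1 : (e : Aut V)⁻¹ * d * e ∈ F.K := by
      refine F.max x hx0 hxW _ (S.E.mul_mem (S.E.mul_mem (S.E.inv_mem e.2) (F.le hd)) e.2) ?_
      rw [mul_smul, mul_smul, hde, inv_smul_smul]
    have h2 : ⁅(e : Aut V)⁻¹, d⁆ ∈ F.K := by
      rw [commutatorElement_def, inv_inv]
      exact F.K.mul_mem h1 (F.K.inv_mem hd)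
    have h3 := F.eq_one_of_mem_A0 hf h2 (S.comm _ (S.E.inv_mem e.2) _ (F.le hd))
    have h4 := commutatorElement_eq_one_iff_mul_comm.mp h3
    calc d * (e : Aut V) = (e : Aut V) * ((e : Aut V)⁻¹ * d) * e := by group
      _ = (e : Aut V) * (d * (e : Aut V)⁻¹) * e := by rw [h4]
      _ = (e : Aut V) * d := by group
  have hfx : ∀ e : S.E, g • (e : Aut V) • x = (e : Aut V) • x →
      (e : Aut V)⁻¹ * (g * e * g⁻¹) ∈ F.K := fun e he => by
    refine F.max x hx0 hxW _ (S.E.mul_mem (S.E.inv_mem e.2) (S.e_norm g hg e e.2)) ?_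
    rw [mul_smul, mul_smul, mul_smul, hginv, he, inv_smul_smul]
  let d : Fin n → Aut V := fun i => (f i : Aut V)⁻¹ * (g * f i * g⁻¹)
  have hd : ∀ i, d i ∈ F.K := fun i => by
    refine hfx (f i) ?_
    have hq : co.symm (unitVec M i) ∈ Ty := (hTy _).mpr (by rw [co.apply_symm_apply]; exact hyb i)
    have := hRy _ hq
    rwa [hσco, hRone i _ (co.apply_symm_apply _)] at this
  have hconj : ∀ i, g * (f i : Aut V) * g⁻¹ = (f i : Aut V) * d i := fun i => by simp [d]
  have hgA : ∀ a ∈ S.A0, g * a * g⁻¹ = a := fun a ha => by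
    rw [S.cen g hgC a ha, mul_inv_cancel_right]
  have hle : ∀ i j, i ≤ j → d i * f j = f j * d i := by
    intro i j hij
    refine hKc _ (hd i) (f j) ?_
    by_cases h0 : unitVec M i + unitVec M j = 0
    · obtain rfl : i = j := by
        by_contra hne
        have := congrArg supp h0
        rw [supp_pair hM hne, supp_zero] at this
        exact Finset.insert_ne_empty _ _ this
      have hi : M i = 2 := by
        have := congrFun h0 i
        simp only [unitVec, Pi.add_apply, Pi.single_eq_same, Pi.zero_apply] at this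
        have h2 : ((2 : ℕ) : ZMod (M i)) = 0 := by push_cast; rw [← one_add_one_eq_two]; exact this
        rw [ZMod.natCast_eq_zero_iff] at h2
        have := Nat.le_of_dvd (by norm_num) h2
        have := hM i
        omega
      have h1 := hgA _ (hf2 i hi)
      rw [show g * ((f i : Aut V) * f i) * g⁻¹ = (g * f i * g⁻¹) * (g * f i * g⁻¹) by group,
        hconj] at h1
      have h2 : d i * ((f i : Aut V) * d i) = f i := by
        have := congrArg (fun z => (f i : Aut V)⁻¹ * z) h1
        simpa [mul_assoc] using this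
      have h3 := congrArg (fun z => z • x) h2
      simp only [mul_smul, hxW _ (hd i)] at h3
      exact h3
    · have hq : co.symm (unitVec M i + unitVec M j) ∈ Tz :=
        (hTz _).mpr (by rw [co.apply_symm_apply]; exact hzp i j h0)
      have h1 := hRz _ hq
      rw [hσco, hRpair i j _ hij (co.apply_symm_apply _) h0, Subgroup.coe_mul] at h1
      have h2 : ((f i : Aut V) * d i * ((f j : Aut V) * d j)) • x =
          ((f i : Aut V) * f j) • x := by
        rw [← hconj, ← hconj,
          show g * (f i : Aut V) * g⁻¹ * (g * f j * g⁻¹) = g * ((f i : Aut V) * f j) * g⁻¹ by group,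
          mul_smul, mul_smul, hginv, h1]
      simp only [mul_smul, hxW _ (hd j)] at h2
      exact smul_left_cancel _ h2
  have hshift : ∀ e : S.E, ∀ d' ∈ S.E, g * e * g⁻¹ = e * d' → ∀ e' : S.E,
      g * e' * g⁻¹ = e' → d' * e' = e' * d' := by
    intro e d' hd' he e' he'
    have h1 := hgA _ (S.comm _ e'.2 _ e.2)
    rw [conjugate_commutatorElement, he, he',
      S.comm_mul_right (S.e_le e.2) (S.comm _ e'.2 _ hd'), mul_eq_left] at h1
    exact (commutatorElement_eq_one_iff_mul_comm.mp h1).symm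
  -- elements commuting with generators of `E`
  have hall : ∀ z ∈ S.C, (∀ i, z * f i = f i * z) → z * m1 = m1 * z → z * m2 = m2 * z →
      (∀ k ∈ F.K, z * k = k * z) → z ∈ S.A0 := by
    intro z hz hzf hz1 hz2 hzK
    refine S.dle z hz ?_
    let H : Subgroup S.U := ((Subgroup.centralizer {z}).subgroupOf S.E).map (cl S)
    have hmem : ∀ e : S.E, z * e = e * z → cl S e ∈ H := fun e he =>
      ⟨e, Subgroup.mem_centralizer_singleton_iff.mpr he.symm, rfl⟩
    have hDH : F.D ≤ H := by
      refine hgen.trans (sup_le ?_ ((Subgroup.closure_le _).mpr ?_))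
      · rintro _ ⟨k, hk, rfl⟩
        exact hmem k (hzK k hk)
      · rintro _ (rfl | rfl)
        · exact hmem m1 hz1
        · exact hmem m2 hz2
    let H' : AddSubgroup (∀ l, ZMod (M l)) :=
      { carrier := {v | co.symm v ∈ H.map (QuotientGroup.mk' F.D)}
        zero_mem' := by
          show co.symm 0 ∈ H.map (QuotientGroup.mk' F.D)
          rw [← hco1, co.symm_apply_apply]; exact one_mem _
        add_mem' := fun {a b} ha hb => by
          show co.symm (a + b) ∈ H.map (QuotientGroup.mk' F.D)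
          rw [show a + b = co (co.symm a * co.symm b) by simp [hco], co.symm_apply_apply]
          exact mul_mem ha hb
        neg_mem' := fun {a} ha => by
          show co.symm (-a) ∈ H.map (QuotientGroup.mk' F.D)
          have h1 : co ((co.symm a)⁻¹) = -a := eq_neg_of_add_eq_zero_left (by
            conv_lhs => arg 2; rw [← co.apply_symm_apply a]
            rw [← hco, inv_mul_cancel, hco1])
          rw [← h1, co.symm_apply_apply]
          exact inv_mem ha }
    have he : ∀ i, unitVec M i ∈ H' := fun i => by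
      show co.symm (unitVec M i) ∈ H.map (QuotientGroup.mk' F.D)
      rw [← hf1 i, co.symm_apply_apply]
      exact ⟨cl S (f i), hmem _ (hzf i), rfl⟩
    intro y hy
    have hy' : co (F.qc ⟨y, hy⟩) ∈ H' := by
      rw [← Finset.univ_sum_single (co (F.qc ⟨y, hy⟩))]
      refine sum_mem fun i _ => ?_
      haveI : NeZero (M i) := ⟨by have := hM i; omega⟩
      rw [← ZMod.natCast_zmod_val (co (F.qc ⟨y, hy⟩) i), ← nsmul_one, Pi.single_smul]
      exact H'.nsmul_mem (he i) _
    change co.symm (co (F.qc ⟨y, hy⟩)) ∈ H.map (QuotientGroup.mk' F.D) at hy'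
    rw [co.symm_apply_apply] at hy'
    obtain ⟨h, hh, hhy⟩ := hy'
    have hy2 : cl S ⟨y, hy⟩ ∈ H := by
      have : h⁻¹ * cl S ⟨y, hy⟩ ∈ F.D := QuotientGroup.eq.mp hhy
      have h2 := H.mul_mem hh (hDH this)
      rwa [mul_inv_cancel_left] at h2
    obtain ⟨e, hez, hey⟩ := hy2
    have h3 : (e : Aut V)⁻¹ * y ∈ S.A0 := by
      have := (cl_eq_one S (e := e⁻¹ * ⟨y, hy⟩)).mp (by rw [map_mul, map_inv, hey, inv_mul_cancel])
      simpa using this
    have hez' : z * (e : Aut V) = e * z := (Subgroup.mem_centralizer_singleton_iff.mp hez).symm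
    calc z * y = (z * e) * ((e : Aut V)⁻¹ * y) := by group
      _ = e * (z * ((e : Aut V)⁻¹ * y)) := by rw [hez', mul_assoc]
      _ = e * (((e : Aut V)⁻¹ * y) * z) := by rw [S.cen z hz _ h3]
      _ = y * z := by group
  have hone : ∀ k ∈ F.K, (∀ i, k * f i = f i * k) → k = 1 := fun k hk hkf =>
    F.eq_one_of_mem_A0 hf hk (hall k (S.e_le (F.le hk)) hkf ((F.mem_D.mp hm1 k hk).symm)
      ((F.mem_D.mp hm2 k hk).symm) fun k' hk' => F.K_comm hf hk hk')
  have hd1 : ∀ i, d i = 1 := fun i => by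
    refine hone _ (hd i) fun j => ?_
    rcases le_total i j with h | h
    · exact hle i j h
    · -- symmetry
      have hcA : ⁅(f i : Aut V), (f j : Aut V)⁆ ∈ S.A0 := S.comm _ (f i).2 _ (f j).2
      have h1 := hgA _ hcA
      rw [conjugate_commutatorElement, hconj, hconj] at h1
      have hdj : ∀ i', d i' ∈ S.E := fun i' => F.le (hd i')
      have hcz : ⁅(f i : Aut V), d j⁆ = 1 :=
        commutatorElement_eq_one_iff_mul_comm.mpr (hle j i h).symm
      have hdd : ⁅d i, d j⁆ = 1 :=
        commutatorElement_eq_one_iff_mul_comm.mpr (F.K_comm hf (hd i) (hd j))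
      rw [S.comm_mul_left (S.e_le (f i).2) (S.comm _ (f i).2 _ (S.E.mul_mem (f j).2 (hdj j)))
          (S.comm _ (hdj i) _ (S.E.mul_mem (f j).2 (hdj j))),
        S.comm_mul_right (S.e_le (f j).2) (S.comm _ (f i).2 _ (hdj j)),
        S.comm_mul_right (S.e_le (f j).2) (S.comm _ (hdj i) _ (hdj j)), hcz, hdd, mul_one, mul_one,
        mul_eq_left] at h1
      exact commutatorElement_eq_one_iff_mul_comm.mp h1
  have hgf : ∀ i, g * (f i : Aut V) * g⁻¹ = f i := fun i => by rw [hconj, hd1, mul_one]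
  have hgm' : ∀ m : S.E, g • (m : Aut V) • x = (m : Aut V) • x → g * (m : Aut V) * g⁻¹ = m := by
    intro m hm
    have hk := hfx m hm
    have h1 := hone _ hk fun i =>
      hshift m _ (F.le hk) (by group) (f i) (hgf i)
    calc g * (m : Aut V) * g⁻¹ = m * ((m : Aut V)⁻¹ * (g * m * g⁻¹)) := by group
      _ = m := by rw [h1, mul_one]
  obtain ⟨hg1, hg2⟩ := hgm g hgC hgx hgw1
  have hgk : ∀ k ∈ F.K, g * k * g⁻¹ = k := fun k hk => by
    have hk' : k⁻¹ * (g * k * g⁻¹) ∈ F.K := F.K.mul_mem (F.K.inv_mem hk) (hgK g hg hgx k hk)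
    have h1 := hone _ hk' fun i =>
      hshift ⟨k, F.le hk⟩ _ (F.le hk') (by group) (f i) (hgf i)
    calc g * k * g⁻¹ = k * (k⁻¹ * (g * k * g⁻¹)) := by group
      _ = k := by rw [h1, mul_one]
  have hgA0 : g ∈ S.A0 := hall g hgC (fun i => mul_inv_eq_iff_eq_mul.mp (hgf i))
    (mul_inv_eq_iff_eq_mul.mp (hgm' m1 hg1)) (mul_inv_eq_iff_eq_mul.mp (hgm' m2 hg2))
    fun k hk => mul_inv_eq_iff_eq_mul.mp (hgk k hk)
  by_contra hne
  exact hx0 (hf g hgA0 hne x hgx)

end CfsgLib.SolvBase
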