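import Cfsg.Agent.SolvBase.PairCore
import Cfsg.Agent.SolvBase.Prim
import Cfsg.Agent.SolvBase.Designs

/-!
A colouring of the components by scalars up to the roots of unity of the relevant order.
-/

set_option autoImplicit false
set_option linter.style.haveILetI false
set_option linter.unusedSectionVars false

universe u

namespace CfsgLib.SolvBase

open OddBase
open scoped commutatorElement

/-- The exponent up to which the scalar of a component of prime order is well defined. -/
def expo (r : ℕ) : ℕ := if r = 2 then 4 else r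

lemma dvd_expo (r : ℕ) : r ∣ expo r := by
  unfold expo
  split_ifs with h
  · rw [h]; norm_num
  · exact dvd_rfl

lemma dvd_choose_expo {r : ℕ} (hr : r.Prime) : r ∣ (expo r).choose 2 := by
  unfold expo
  split_ifs with h
  · rw [h]; decide
  · exact hr.dvd_choose_self (by norm_num) (lt_of_le_of_ne hr.two_le (Ne.symm h))

/-- Representatives in every coset of the powers, enough for the colours. -/
lemma exists_targets {G : Type u} [Group G] [Finite G] [IsCyclic G] (n c : ℕ)
    (h : c ≤ Nat.card (Set.range fun a : G => a ^ n)) :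
    ∃ a : G → ℕ → G, ∀ z z' k k', k < c → k' < c → z * a z k ^ n = z' * a z' k' ^ n → k = k' := by
  classical
  letI : CommGroup G := IsCyclic.commGroup
  let P : Subgroup G := (powMonoidHom n : G →* G).range
  have hP : c ≤ Nat.card P := h
  obtain ⟨π⟩ : Nonempty (Fin c ↪ P) := by
    haveI := Fintype.ofFinite P
    exact Function.Embedding.nonempty_of_card_le
      (by rw [Fintype.card_fin, ← Nat.card_eq_fintype_card]; exact hP)
  let rep : G → G := fun z => Quotient.out (QuotientGroup.mk z : G ⧸ P)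
  have hrep : ∀ z, (QuotientGroup.mk (rep z) : G ⧸ P) = QuotientGroup.mk z := fun z =>
    Quotient.out_eq' (QuotientGroup.mk z : G ⧸ P)
  have hex : ∀ z k, ∃ a : G, ∀ hk : k < c, z * a ^ n = rep z * (π ⟨k, hk⟩ : G) := by
    intro z k
    by_cases hk : k < c
    · have h1 : z⁻¹ * rep z ∈ P := QuotientGroup.eq.mp (hrep z).symm
      obtain ⟨a, ha⟩ := P.mul_mem h1 (π ⟨k, hk⟩).2
      rw [powMonoidHom_apply] at ha
      exact ⟨a, fun _ => by rw [ha, mul_assoc, mul_inv_cancel_left]⟩
    · exact ⟨1, fun hk' => absurd hk' hk⟩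
  choose a ha using hex
  refine ⟨a, fun z z' k k' hk hk' he => ?_⟩
  rw [ha z k hk, ha z' k' hk'] at he
  have h1 : (QuotientGroup.mk z : G ⧸ P) = QuotientGroup.mk z' := by
    have := congrArg (fun w : G => (QuotientGroup.mk w : G ⧸ P)) he
    simp only [QuotientGroup.mk_mul_of_mem _ (π ⟨k, hk⟩).2,
      QuotientGroup.mk_mul_of_mem _ (π ⟨k', hk'⟩).2, hrep] at this
    exact this
  have h2 : rep z = rep z' := congrArg (fun w : G ⧸ P => (Quotient.out w : G)) h1
  rw [h2] at he
  exact congrArg Fin.val (π.injective (Subtype.ext (mul_left_cancel he)))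

variable {V : Type u} [AddCommGroup V] [Finite V] [Nontrivial V] {S : Setup (Aut V)} (F : Frame S)

/-- The classes killed by a prime. -/
def part (r : ℕ) : Subgroup (S.U ⧸ F.D) := (powMonoidHom r).ker

lemma mem_part {r : ℕ} {q : S.U ⧸ F.D} : q ∈ part F r ↔ q ^ r = 1 := Iff.rfl

lemma part_disjoint {r r' : ℕ} (hr : r.Prime) (hr' : r'.Prime) (hne : r ≠ r') {q : S.U ⧸ F.D}
    (h : q ∈ part F r) (h' : q ∈ part F r') : q = 1 :=
  orderOf_eq_one_iff.mp (Nat.eq_one_of_dvd_coprimes ((Nat.coprime_primes hr hr').mpr hne)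
    (orderOf_dvd_of_pow_eq_one h) (orderOf_dvd_of_pow_eq_one h'))

lemma exists_coord (r : ℕ) [Fact r.Prime] :
    ∃ n, Nonempty (Additive (part F r) ≃+ (Fin n → ZMod r)) := by
  have hz : ∀ x : Additive (part F r), r • x = 0 := fun x => by
    refine Additive.toMul.injective (Subtype.ext ?_)
    rw [toMul_nsmul, Subgroup.coe_pow]
    exact x.toMul.2
  letI : Module (ZMod r) (Additive (part F r)) := AddCommGroup.zmodModule (n := r) hz
  exact ⟨_, ⟨(Module.finBasis (ZMod r) (Additive (part F r))).equivFun.toAddEquiv⟩⟩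

lemma exists_lift {r : ℕ} (hr : r.Prime) (hrN : r ∣ Monoid.exponent S.U) {q : S.U ⧸ F.D}
    (hq : q ^ r = 1) : ∃ e : S.E, F.qc e = q ∧ cl S e ^ r = 1 := by
  haveI := Fact.mk hr
  obtain ⟨N', hN'⟩ := hrN
  have hcop : Nat.Coprime r N' := by
    have := exponent_squarefree (S := S)
    rw [hN', Nat.squarefree_mul_iff] at this
    exact this.1
  have hN0 : (N' : ZMod r) ≠ 0 := fun h =>
    hr.coprime_iff_not_dvd.mp hcop ((ZMod.natCast_eq_zero_iff _ _).mp h)
  set j := ((N' : ZMod r)⁻¹).val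
  have hk : N' * j % r = 1 := by
    have : ((N' * j : ℕ) : ZMod r) = ((1 : ℕ) : ZMod r) := by
      rw [Nat.cast_mul, ZMod.natCast_zmod_val, mul_inv_cancel₀ hN0, Nat.cast_one]
    rw [ZMod.natCast_eq_natCast_iff', Nat.mod_eq_of_lt hr.one_lt] at this
    exact this
  obtain ⟨h, hh⟩ := F.qc_surjective q
  refine ⟨h ^ (N' * j), ?_, ?_⟩
  · rw [map_pow, hh, pow_eq_pow_mod _ hq, hk, pow_one]
  · rw [map_pow, ← pow_mul, show N' * j * r = Monoid.exponent S.U * j by rw [hN']; ring, pow_mul,
      Monoid.pow_exponent_eq_one, one_pow]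

lemma parts_top (H : Subgroup (S.U ⧸ F.D))
    (h : ∀ r : ℕ, r.Prime → r ∣ Monoid.exponent S.U → part F r ≤ H) : H = ⊤ := by
  suffices key : ∀ k, k ∣ Monoid.exponent S.U → ∀ q : S.U ⧸ F.D, q ^ k = 1 → q ∈ H by
    refine (Subgroup.eq_top_iff' H).mpr fun q => key _ dvd_rfl q ?_
    obtain ⟨e, rfl⟩ := F.qc_surjective q
    rw [← map_pow, Frame.qc_eq_one, map_pow, Monoid.pow_exponent_eq_one]
    exact F.D.one_mem
  intro k
  induction k using Nat.strong_induction_on with
  | _ k ih =>
    intro hk q hq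
    by_cases h1 : k = 1
    · rw [h1, pow_one] at hq
      rw [hq]
      exact H.one_mem
    obtain ⟨r, hr, m, rfl⟩ := Nat.exists_prime_and_dvd h1
    have hsq : Squarefree (r * m) := exponent_squarefree.squarefree_of_dvd hk
    rw [Nat.squarefree_mul_iff] at hsq
    have hm0 : 0 < m := Nat.pos_of_ne_zero fun e => by
      rw [e, mul_zero] at hk
      exact Monoid.exponent_ne_zero_of_finite (Nat.eq_zero_of_zero_dvd hk)
    have h2 : q ^ r ∈ H := ih m (lt_mul_of_one_lt_left hm0 hr.one_lt) ((dvd_mul_left m r).trans hk) _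
      (by rw [← pow_mul, hq])
    have h3 : q ^ m ∈ H := h r hr ((dvd_mul_right r m).trans hk)
      (by rw [mem_part, ← pow_mul, mul_comm, hq])
    have h4 := H.mul_mem (H.zpow_mem h2 (Nat.gcdA r m)) (H.zpow_mem h3 (Nat.gcdB r m))
    rw [← zpow_natCast q r, ← zpow_natCast q m, ← zpow_mul, ← zpow_mul, ← zpow_add,
      ← Nat.gcd_eq_gcd_ab, hsq.1.gcd_eq_one, Nat.cast_one, zpow_one] at h4
    exact h4

variable {F}

/-- The scalar of a component is determined up to the roots of unity. -/
lemma colour_invariant (hf : Fpf S) {g : Aut V} (hg : g ∈ S.C) {x : V} (hx : x ≠ 0)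
    (hxW : InW F.K x) (hgx : g • x = x) {r : ℕ} (hr : r.Prime) {R R' : S.E} (hR : cl S R ^ r = 1)
    (hR' : cl S R' ^ r = 1) {a a' : Aut V} (ha : a ∈ S.A0) (ha' : a' ∈ S.A0)
    (h : g • (R : Aut V) • a • x = (R' : Aut V) • a' • x) :
    (R : Aut V) ^ expo r * a ^ expo r = (R' : Aut V) ^ expo r * a' ^ expo r := by
  have hgA : ∀ b ∈ S.A0, g * b * g⁻¹ = b := fun b hb => by
    rw [S.cen g hg b hb, mul_inv_cancel_right]
  let ae : S.E := ⟨a, S.a0_le ha⟩
  let ae' : S.E := ⟨a', S.a0_le ha'⟩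
  let e : S.E := ⟨g * R * g⁻¹, S.e_norm g (S.c_le hg) R R.2⟩
  let v : S.E := R' * ae'
  let k : S.E := v⁻¹ * (e * ae)
  have he : (e : Aut V) • a • x = g • (R : Aut V) • a • x := by
    show (g * R * g⁻¹) • a • x = _
    rw [mul_smul, mul_smul]
    congr 2
    rw [inv_smul_eq_iff, ← mul_smul, S.cen g hg a ha, mul_smul, hgx]
  have hkK : (k : Aut V) ∈ F.K := by
    refine F.max x hx hxW _ k.2 ?_
    show ((v : Aut V)⁻¹ * ((e : Aut V) * a)) • x = x
    rw [mul_smul, mul_smul, he, h, inv_smul_eq_iff]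
    exact (mul_smul _ _ _).symm
  have hae : cl S ae = 1 := (cl_eq_one S).mpr ha
  have hae' : cl S ae' = 1 := (cl_eq_one S).mpr ha'
  have heA : (e : Aut V) ^ r = (R : Aut V) ^ r := by
    show (g * R * g⁻¹) ^ r = _
    rw [conj_pow, hgA _ (Frame.pow_mem_A0 hR)]
  have hecl : cl S e ^ r = 1 := by
    rw [← map_pow, cl_eq_one, Subgroup.coe_pow, heA]
    exact Frame.pow_mem_A0 hR
  have hkcl : cl S k ^ r = 1 := by
    rw [map_mul, map_inv, map_mul, map_mul, hae, hae', mul_one, mul_one, mul_pow, inv_pow, hR',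
      hecl, inv_one, one_mul]
  have hkr : (k : Aut V) ^ r = 1 :=
    F.eq_one_of_mem_A0 hf (F.K.pow_mem hkK r) (Frame.pow_mem_A0 hkcl)
  set c := ⁅(k : Aut V), (v : Aut V)⁆ with hc
  have hcA : c ∈ S.A0 := S.comm _ k.2 _ v.2
  have hcr : c ^ r = 1 := by
    rw [hc, ← beta_cl S k v, ← Subgroup.coe_pow, ← MonoidHom.pow_apply, ← map_pow, hkcl, map_one,
      MonoidHom.one_apply, OneMemClass.coe_one]
  have hpow : ((v : Aut V) * k) ^ expo r = (v : Aut V) ^ expo r := by
    rw [mul_pow_of_comm_eq (c := c) (S.cen _ (S.e_le v.2) c hcA).symm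
      (S.cen _ (S.e_le k.2) c hcA).symm (by rw [hc, commutatorElement_def]; group)]
    obtain ⟨j, hj⟩ := dvd_choose_expo hr
    obtain ⟨i, hi⟩ := dvd_expo r
    rw [hj, pow_mul, hcr, one_pow, one_mul]
    nth_rewrite 2 [hi]
    rw [pow_mul (k : Aut V), hkr, one_pow, mul_one]
  have hmul : (v : Aut V) * k = (e : Aut V) * a := by
    show (v : Aut V) * ((v : Aut V)⁻¹ * ((e : Aut V) * a)) = _
    rw [mul_inv_cancel_left]
  rw [hmul, show (v : Aut V) = (R' : Aut V) * a' from rfl,
    (show Commute (e : Aut V) a from S.cen _ (S.e_le e.2) a ha).mul_pow,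
    (show Commute (R' : Aut V) a' from S.cen _ (S.e_le R'.2) a' ha').mul_pow] at hpow
  obtain ⟨i, hi⟩ := dvd_expo r
  rw [show (R : Aut V) ^ expo r = (e : Aut V) ^ expo r by rw [hi, pow_mul, pow_mul, heA], hpow]

set_option maxHeartbeats 1000000 in
/-- Pairs when every part has a design with few colours. -/
theorem hasPair_of_designs (hf : Fpf S) (W : Witness F)
    (h : ∀ r : ℕ, r.Prime → r ∣ Monoid.exponent S.U → ∀ n, Nat.card (part F r) = r ^ n →
      ∃ c, Design r n c ∧ c ≤ Nat.card (Set.range fun a : S.A0 => a ^ expo r)) : HasPair S.A := by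
  classical
  haveI := S.cyc
  let I := {r : ℕ // r ∈ (Monoid.exponent S.U).primeFactors}
  have hIp : ∀ i : I, i.1.Prime := fun i => Nat.prime_of_mem_primeFactors i.2
  have hIN : ∀ i : I, i.1 ∣ Monoid.exponent S.U := fun i => Nat.dvd_of_mem_primeFactors i.2
  haveI hIf : ∀ i : I, Fact i.1.Prime := fun i => ⟨hIp i⟩
  have hco : ∀ i : I, ∃ n, Nonempty (Additive (part F i.1) ≃+ (Fin n → ZMod i.1)) :=
    fun i => exists_coord F i.1
  choose n hco' using hco
  let co := fun i => Classical.choice (hco' i)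
  have hdes : ∀ i : I, ∃ c, Design i.1 (n i) c ∧
      c ≤ Nat.card (Set.range fun a : S.A0 => a ^ expo i.1) := fun i => by
    refine h i.1 (hIp i) (hIN i) (n i) ?_
    rw [show Nat.card (part F i.1) = Nat.card (Additive (part F i.1)) from rfl,
      Nat.card_congr (co i).toEquiv, Nat.card_fun, Nat.card_zmod, Nat.card_fin]
  choose c hdesign hc using hdes
  choose col hcol0 hcollt hcole hcolp hcolr using hdesign
  choose tg htg using fun i : I => exists_targets (expo i.1) (c i) (hc i)
  -- the classes of vectors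
  let el : ∀ i : I, (Fin (n i) → ZMod i.1) →+ Additive (S.U ⧸ F.D) := fun i =>
    (MonoidHom.toAdditive (part F i.1).subtype).comp (co i).symm.toAddMonoidHom
  let ev : ∀ i : I, (Fin (n i) → ZMod i.1) → S.U ⧸ F.D := fun i v => Additive.toMul (el i v)
  have hevmem : ∀ i v, ev i v ∈ part F i.1 := fun i v => (Additive.toMul ((co i).symm v)).2
  have hevinj : ∀ i, Function.Injective (ev i) := fun i v w e =>
    (co i).symm.injective (Additive.toMul.injective (Subtype.ext e))
  have hev0 : ∀ i, ev i 0 = 1 := fun i => congrArg Additive.toMul (map_zero (el i))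
  have hevadd : ∀ i v w, ev i (v + w) = ev i v * ev i w := fun i v w =>
    congrArg Additive.toMul (map_add (el i) v w)
  have hevsurj : ∀ (i : I) (q : S.U ⧸ F.D), q ∈ part F i.1 → ∃ v, ev i v = q := fun i q hq =>
    ⟨co i (Additive.ofMul ⟨q, hq⟩), by
      show ((Additive.toMul ((co i).symm (co i (Additive.ofMul ⟨q, hq⟩))) : part F i.1) :
        S.U ⧸ F.D) = q
      rw [AddEquiv.symm_apply_apply]
      rfl⟩
  have hsame : ∀ i i' v v', ev i v = ev i' v' → v ≠ 0 → i = i' := fun i i' v v' e hv => by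
    by_contra hne
    refine hv (hevinj i ((part_disjoint F (hIp i) (hIp i') (fun h => hne (Subtype.ext h))
      (hevmem i v) ?_).trans (hev0 i).symm))
    rw [e]
    exact hevmem i' v'
  -- lifts of the classes
  choose f hf1 hf2 using fun (i : I) (a : Fin (n i)) =>
    exists_lift F (hIp i) (hIN i) ((mem_part F).mp (hevmem i (unitVec (fun _ => i.1) a)))
  have hM : ∀ i : I, ∀ _a : Fin (n i), 1 < i.1 := fun i _ => (hIp i).one_lt
  have hlift : ∀ (i : I) (v : Fin (n i) → ZMod i.1), ∃ e : S.E, F.qc e = ev i v ∧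
      cl S e ^ i.1 = 1 ∧ (∀ a, v = unitVec (fun _ => i.1) a → e = f i a) ∧
      ∀ a b, a ≤ b → v = unitVec (fun _ => i.1) a + unitVec (fun _ => i.1) b → v ≠ 0 →
        e = f i a * f i b := by
    intro i v
    by_cases h1 : ∃ a, v = unitVec (fun _ => i.1) a
    · obtain ⟨a, rfl⟩ := h1
      refine ⟨f i a, hf1 i a, hf2 i a, fun a' e => ?_, fun a' b' _ e _ => ?_⟩
      · rw [unitVec_injective (M := fun _ => i.1) (hM i) e]
      · exact absurd e.symm (pair_ne (M := fun _ => i.1) (hM i) a' b' a)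
    push Not at h1
    by_cases h2 : ∃ a b, a ≤ b ∧ v = unitVec (fun _ => i.1) a + unitVec (fun _ => i.1) b ∧ v ≠ 0
    · obtain ⟨a, b, hab, rfl, hv⟩ := h2
      refine ⟨f i a * f i b, ?_, ?_, fun a' e => absurd e (h1 a'), fun a' b' hab' e _ => ?_⟩
      · rw [map_mul, hf1, hf1, hevadd]
      · rw [map_mul, mul_pow, hf2, hf2, one_mul]
      · obtain ⟨rfl, rfl⟩ := pair_unique (M := fun _ => i.1) (hM i) hab hab' e hv
        rfl
    push Not at h2
    obtain ⟨e, he1, he2⟩ := exists_lift F (hIp i) (hIN i) ((mem_part F).mp (hevmem i v))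
    exact ⟨e, he1, he2, fun a e' => absurd e' (h1 a),
      fun a b hab e' hv => absurd (h2 a b hab e') hv⟩
  choose Rv hRqc hRcl hRone hRpair using hlift
  let dat : ∀ i : I, (Fin (n i) → ZMod i.1) → S.E × S.A0 := fun i v =>
    (Rv i v, tg i ⟨_, S.A0.pow_mem (Frame.pow_mem_A0 (hRcl i v)) (expo i.1 / i.1)⟩ ((col i v).getD 0))
  let D : (S.U ⧸ F.D) → S.E × S.A0 := fun q =>
    if hq : ∃ p : (Σ i : I, Fin (n i) → ZMod i.1), p.2 ≠ 0 ∧ ev p.1 p.2 = q then
      dat hq.choose.1 hq.choose.2 else (1, 1)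
  have hD : ∀ i v, v ≠ 0 → D (ev i v) = dat i v := by
    intro i v hv
    have hq : ∃ p : (Σ i : I, Fin (n i) → ZMod i.1), p.2 ≠ 0 ∧ ev p.1 p.2 = ev i v :=
      ⟨⟨i, v⟩, hv, rfl⟩
    simp only [D, dif_pos hq]
    obtain ⟨hp0, hpe⟩ := hq.choose_spec
    generalize hq.choose = p at hp0 hpe ⊢
    obtain ⟨i', v'⟩ := p
    obtain rfl := hsame i' i v' v hpe hp0
    rw [hevinj i' hpe]
  have : Fintype (S.U ⧸ F.D) := Fintype.ofFinite _
  let T : Finset (S.U ⧸ F.D) := Finset.univ.filter fun q => ∃ i v, ev i v = q ∧ col i v ≠ none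
  have hcolne : ∀ i v, col i v ≠ none → v ≠ 0 := fun i v h e => h (e ▸ hcol0 i)
  have hT : ∀ i v, v ≠ 0 → (ev i v ∈ T ↔ col i v ≠ none) := by
    intro i v hv
    simp only [T, Finset.mem_filter, Finset.mem_univ, true_and]
    refine ⟨?_, fun h => ⟨i, v, rfl, h⟩⟩
    rintro ⟨i', v', e, h'⟩
    obtain rfl := hsame i' i v' v e (hcolne _ _ h')
    rwa [← hevinj i' e]
  have hTcases : ∀ q ∈ T, ∃ i v, v ≠ 0 ∧ ev i v = q ∧ col i v ≠ none := fun q hq => by
    simp only [T, Finset.mem_filter, Finset.mem_univ, true_and] at hq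
    obtain ⟨i, v, e, h'⟩ := hq
    exact ⟨i, v, hcolne _ _ h', e, h'⟩
  refine Colouring.hasPair (W := W)
    { ι := ULift.{u} (Σ i : I, Fin (n i))
      finite := inferInstance
      f := fun p => f p.down.1 p.down.2
      pr := fun p => p.down.1.1
      pr_prime := fun p => hIp p.down.1
      f_pow := fun p => by rw [hf1]; exact hevmem _ _
      gen := ?_
      T := T
      one_notMem := fun h => ?_
      R := fun q => (D q).1
      R_mem := fun q hq => ?_
      t := fun q => ((D q).2 : Aut V) • W.x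
      t_ne := fun q _ e => W.x_ne ((smul_eq_zero_iff_eq _).mp e)
      t_W := fun q _ => F.inW_A0 (D q).2.2 W.x_W
      t_fix := fun g hg hgx _ q _ => by
        rw [← mul_smul, S.cen g hg _ (D q).2.2, mul_smul, hgx]
      basis := ?_
      pairs := ?_
      rigid := ?_ } hf
  · -- generation
    refine parts_top F _ fun r hr hrN q hq => ?_
    let i : I := ⟨r, hr.mem_primeFactors hrN Monoid.exponent_ne_zero_of_finite⟩
    obtain ⟨v, rfl⟩ := hevsurj i q hq
    set G := Subgroup.closure (Set.range fun p : ULift.{u} (Σ i : I, Fin (n i)) =>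
      F.qc (f p.down.1 p.down.2))
    show v ∈ (Subgroup.toAddSubgroup G).comap (el i)
    rw [← Finset.univ_sum_single v]
    refine sum_mem fun a _ => ?_
    rw [← ZMod.natCast_zmod_val (v a), ← nsmul_one, Pi.single_smul]
    refine nsmul_mem ?_ _
    exact Subgroup.subset_closure ⟨⟨⟨i, a⟩⟩, hf1 i a⟩
  · obtain ⟨i, v, hv, e, -⟩ := hTcases 1 h
    exact hv (hevinj i (e.trans (hev0 i).symm))
  · obtain ⟨i, v, hv, rfl, -⟩ := hTcases q hq
    show F.qc (D (ev i v)).1 = ev i v
    rw [hD i v hv]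
    exact hRqc i v
  · -- basis
    rintro ⟨⟨i, a⟩⟩
    have hv := hcolne _ _ (hcole i a)
    refine ⟨ev i _, (hT i _ hv).mpr (hcole i a), ?_⟩
    show (D _).1 = _
    rw [hD i _ hv]
    exact hRone i _ a rfl
  · -- pairs
    rintro ⟨⟨i, a⟩⟩ ⟨⟨i', b⟩⟩ hp
    obtain rfl : i = i' := Subtype.ext hp
    by_cases h0 : unitVec (fun _ : Fin (n i) => i.1) a + unitVec (fun _ => i.1) b = 0
    · right; right
      obtain rfl : a = b := by
        by_contra hne
        have := congrArg supp h0
        rw [supp_pair (hM i) hne, supp_zero] at this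
        exact Finset.insert_ne_empty _ _ this
      refine ⟨rfl, ?_⟩
      have h2 : i.1 = 2 := by
        have := congrFun h0 a
        simp only [unitVec, Pi.add_apply, Pi.single_eq_same, Pi.zero_apply] at this
        have h2 : ((2 : ℕ) : ZMod i.1) = 0 := by push_cast; rw [← one_add_one_eq_two]; exact this
        rw [ZMod.natCast_eq_zero_iff] at h2
        exact le_antisymm (Nat.le_of_dvd (by norm_num) h2) (hIp i).two_le
      have h1 := Frame.pow_mem_A0 (hf2 i a)
      generalize hr2 : (i : ℕ) = r2 at h1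
      obtain rfl : r2 = 2 := by omega
      rwa [sq] at h1
    · have hT' := (hT i _ h0).mpr (hcolp i a b h0)
      rcases le_total a b with hab | hab
      · refine Or.inl ⟨_, hT', ?_⟩
        show (D _).1 = _
        rw [hD i _ h0]
        exact hRpair i _ a b hab rfl h0
      · refine Or.inr (Or.inl ⟨_, hT', ?_⟩)
        show (D _).1 = _
        rw [hD i _ h0]
        exact hRpair i _ b a hab (add_comm _ _) h0
  · -- rigidity
    intro g hg hgx _ σ _ hσT hσR
    have hfix : ∀ (i : I) v, σ (ev i v) = ev i v := by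
      intro i
      have hmem : ∀ v, σ (ev i v) ∈ part F i.1 := fun v => by
        rw [mem_part, ← map_pow, (mem_part F).mp (hevmem i v), map_one]
      choose s hs using fun v => hevsurj i _ (hmem v)
      let φ₀ : (Fin (n i) → ZMod i.1) →+ (Fin (n i) → ZMod i.1) :=
        AddMonoidHom.mk' s fun v w => hevinj i (by rw [hevadd, hs, hs, hs, hevadd, map_mul])
      have hφinj : Function.Injective φ₀ := fun v w e =>
        hevinj i (σ.injective (by rw [← hs, ← hs]; exact congrArg (ev i) e))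
      let φ := AddEquiv.ofBijective φ₀ ⟨hφinj, Finite.injective_iff_surjective.mp hφinj⟩
      suffices hpres : ∀ v, col i (φ v) = col i v by
        intro v
        rw [← hs]
        exact congrArg (ev i) (hcolr i φ hpres v)
      intro v
      show col i (s v) = col i v
      by_cases hv : v = 0
      · rw [show s v = 0 from hv ▸ map_zero φ₀, hv]
      have hsv : s v ≠ 0 := fun e => hv (hφinj (e.trans (map_zero φ₀).symm))
      have hiff : col i (s v) ≠ none ↔ col i v ≠ none := by
        rw [← hT i _ hsv, ← hT i _ hv, hs, hσT]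
      rcases hcv : col i v with _ | k
      · by_contra hne
        exact hiff.mp hne hcv
      obtain ⟨k', hk'⟩ : ∃ k', col i (s v) = some k' :=
        Option.ne_none_iff_exists'.mp (hiff.mpr (by rw [hcv]; simp))
      have hR := hσR (ev i v) ((hT i _ hv).mpr (by rw [hcv]; simp))
      rw [← hs, hD i _ hv, hD i _ hsv] at hR
      have hinv := colour_invariant hf hg W.x_ne W.x_W hgx (hIp i) (hRcl i v) (hRcl i (s v))
        (dat i v).2.2 (dat i (s v)).2.2 hR
      obtain ⟨m, hm⟩ := dvd_expo i.1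
      have hz : ∀ (e : S.E) (he : cl S e ^ i.1 = 1),
          (e : Aut V) ^ expo i.1 = ((e : Aut V) ^ i.1) ^ (expo i.1 / i.1) := fun e _ => by
        rw [← pow_mul, hm, Nat.mul_div_cancel_left _ (hIp i).pos]
      rw [hz _ (hRcl i v), hz _ (hRcl i (s v))] at hinv
      simp only [dat, hcv, hk', Option.getD_some] at hinv
      rw [hk', Option.some.injEq]
      let z := fun w => (⟨_, S.A0.pow_mem (Frame.pow_mem_A0 (hRcl i w)) (expo i.1 / i.1)⟩ : S.A0)
      exact (htg i (z v) (z (s v)) k k' (hcollt i _ _ hcv) (hcollt i _ _ hk')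
        (Subtype.ext (by simpa only [Subgroup.coe_mul, Subgroup.coe_pow, z] using hinv))).symm
    have hH : (σ.toMonoidHom.eqLocus (MonoidHom.id _)) = ⊤ := by
      refine parts_top F _ fun r hr hrN q hq => ?_
      let i : I := ⟨r, hr.mem_primeFactors hrN Monoid.exponent_ne_zero_of_finite⟩
      obtain ⟨v, rfl⟩ := hevsurj i q hq
      exact hfix i v
    intro q
    have : q ∈ (σ.toMonoidHom.eqLocus (MonoidHom.id _)) := by rw [hH]; trivial
    exact this

end CfsgLib.SolvBase
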