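import Cfsg.Agent.OddBase.BlockPair
import Cfsg.Agent.SolvBase.Colour
import Cfsg.Agent.SolvBase.Col3
import Cfsg.Agent.SolvBase.CoprimeGroup

/-!
Pairs for soluble linear groups of order prime to an odd characteristic, from the case in which all
normal abelian subgroups span fields.
-/

set_option autoImplicit false
set_option linter.style.haveILetI false
set_option linter.unusedSectionVars false

universe u

namespace CfsgLib.SolvBase

open OddBase

/-- The case of fields. -/
def PrimPairs : Prop :=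
  ∀ (p : ℕ), p.Prime → p ≠ 2 → ∀ (V : Type u) [AddCommGroup V] [Finite V], Nontrivial V →
    (∀ x : V, p • x = 0) → ∀ A : Subgroup (Aut V), Group.IsSolvable A → ¬ p ∣ Nat.card A →
      Irr A → AllFields A → HasPair A

/-- A colouring with at most `p` colours fixed only by the identity. -/
lemma exists_colouring {Ω : Type u} [Finite Ω] [Nonempty Ω] (S : Subgroup (Equiv.Perm Ω))
    (hsol : Group.IsSolvable S) {p : ℕ} (hp : p.Prime) (hp2 : p ≠ 2) (hS : ¬ p ∣ Nat.card S) :
    ∃ δ : Ω → ℕ, (∀ x, δ x < p) ∧ ∀ g ∈ S, (∀ x, δ (g x) = δ x) → g = 1 := by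
  rcases eq_or_ne p 3 with rfl | h3
  · obtain ⟨δ, hδ⟩ := col3 _ Ω rfl S hsol hS
    exact ⟨fun x => (δ x).val, fun x => ZMod.val_lt _, fun g hg h =>
      (hδ g hg 0 fun x => by rw [add_zero]; exact ZMod.val_injective 3 (h x)).1⟩
  · obtain ⟨δ, hδ⟩ := col5 _ Ω rfl S hsol
    have h5 : 5 ≤ p := by
      have := hp.two_le
      have h4 : p ≠ 4 := fun e => absurd (e ▸ hp) (by norm_num)
      omega
    exact ⟨fun x => (δ x).val, fun x => (ZMod.val_lt _).trans_le h5, fun g hg h =>
      (hδ g hg 0 fun x => by rw [add_zero]; exact ZMod.val_injective 5 (h x)).1⟩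

/-- Multiples of one vector give distinct regular orbits on pairs. -/
lemma pair_family {W : Type u} [AddCommGroup W] [Finite W] {p : ℕ} (hp : p.Prime)
    (hW : ∀ x : W, p • x = 0) [Nontrivial W] (R : Subgroup (Aut W)) (hR : ¬ p ∣ Nat.card R)
    (h : HasPair R) :
    ∃ v w : W, (∀ r ∈ R, r • v = v → r • w = w → r = 1) ∧
      ∀ i j : ℕ, i < p → j < p → ∀ r ∈ R, r • v = v → r • (w + i • v) = w + j • v → i = j := by
  obtain ⟨v, w, hv, hreg⟩ : ∃ v w : W, v ≠ 0 ∧ ∀ r ∈ R, r • v = v → r • w = w → r = 1 := by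
    obtain ⟨a, b, hab⟩ := h
    by_cases ha : a = 0
    · by_cases hb : b = 0
      · obtain ⟨x, hx⟩ := exists_ne (0 : W)
        exact ⟨x, 0, hx, fun r hr _ _ => hab r hr (by rw [ha, smul_zero]) (by rw [hb, smul_zero])⟩
      · exact ⟨b, a, hb, fun r hr h1 h2 => hab r hr h2 h1⟩
    · exact ⟨a, b, ha, hab⟩
  refine ⟨v, w, hreg, fun i j hi hj r hr hrv hrw => ?_⟩
  rw [smul_add, smul_comm r i v, hrv] at hrw
  set d : ℤ := (j : ℤ) - i with hd
  have h1 : r • w = w + d • v := by
    rw [hd, sub_smul, natCast_zsmul, natCast_zsmul]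
    rw [← eq_sub_iff_add_eq] at hrw
    rw [hrw, add_sub_assoc]
  have hk : ∀ k : ℕ, r ^ k • w = w + (k : ℤ) • (d • v) := by
    intro k
    induction k with
    | zero => simp
    | succ k ih =>
      rw [pow_succ', mul_smul, ih, smul_add, h1, smul_comm r, smul_comm r d, hrv, Nat.cast_succ,
        add_smul, one_smul]
      abel
  have h2 := hk (Nat.card R)
  rw [show r ^ Nat.card R = 1 from congrArg Subtype.val (pow_card_eq_one' (x := (⟨r, hr⟩ : R))),
    one_smul, eq_comm, add_eq_left, smul_smul] at h2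
  haveI := Fact.mk hp
  have hord : addOrderOf v = p := addOrderOf_eq_prime (hW v) hv
  rw [← addOrderOf_dvd_iff_zsmul_eq_zero, hord] at h2
  rcases Int.Prime.dvd_mul' hp h2 with h3 | h3
  · exact absurd (Int.natCast_dvd_natCast.mp h3) hR
  · have := Int.eq_zero_of_dvd_of_natAbs_lt_natAbs h3 (by omega)
    omega

variable {V : Type u} [AddCommGroup V] {A : Subgroup (Aut V)}

/-- Pairs for a group with blocks. -/
theorem blocks_hasPair_coprime [Finite V] {p : ℕ} (hp : p.Prime) (hp2 : p ≠ 2)
    (hV : ∀ x : V, p • x = 0) (Bk : Blocks A) (hsol : Group.IsSolvable A) (hA : ¬ p ∣ Nat.card A)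
    (ih : HasPair (res Bk.stab Bk.space Bk.inv_space).range) : HasPair A := by
  classical
  have hTle : Bk.stab ≤ A := fun a ha => ha.1
  haveI : Nontrivial Bk.space := Finite.one_lt_card_iff_nontrivial.mp Bk.two_le_space
  set R := (res Bk.stab Bk.space Bk.inv_space).range with hRdef
  have hR : ¬ p ∣ Nat.card R := fun h =>
    hA (h.trans ((Subgroup.card_range_dvd _).trans (Subgroup.card_dvd_of_le hTle)))
  obtain ⟨v, w, hreg, hsep⟩ := pair_family hp (fun x => Subtype.ext (by simpa using hV x)) R hR ih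
  haveI : Nonempty Bk.O := ⟨Bk.base⟩
  obtain ⟨δ, hδp, hδ⟩ := exists_colouring Bk.perm.range (solvable_range _ hsol) hp hp2
    fun h => hA (h.trans (Subgroup.card_range_dvd _))
  let S : (Bk.O → Bk.space) → V := fun f => ∑ i : Bk.O, Bk.rep i • (f i : V)
  refine ⟨S fun _ => v, S fun i => w + δ i • v, fun a ha hx hy => ?_⟩
  have hproj : ∀ (j : Bk.O) (f : Bk.O → Bk.space),
      (j : AddMonoid.End V) (∑ i : Bk.O, Bk.rep i • (f i : V)) = Bk.rep j • (f j : V) := by
    intro j f
    rw [map_sum, Finset.sum_eq_single j (fun k _ hk => by rw [Bk.proj_rep j k (f k).2, if_neg (Ne.symm hk)])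
      (fun h => absurd (Finset.mem_univ j) h), Bk.proj_rep j j (f j).2, if_pos rfl]
  set A0 : A := ⟨a, ha⟩
  have hmove : ∀ (f : Bk.O → Bk.space),
      a • (∑ i : Bk.O, Bk.rep i • (f i : V)) = ∑ i : Bk.O, Bk.rep i • (f i : V) → ∀ i,
      res Bk.stab Bk.space Bk.inv_space ⟨_, Bk.key_stab A0 i⟩ • f i = f (Bk.perm A0 i) := by
    intro f hf i
    have h1 := cj_apply_smul a (i : AddMonoid.End V) (∑ i : Bk.O, Bk.rep i • (f i : V))
    rw [hf, show cj a (i : AddMonoid.End V) = (Bk.perm A0 i : AddMonoid.End V) from rfl, hproj,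
      hproj] at h1
    refine Subtype.ext ?_
    rw [res_smul]
    show ((Bk.rep (Bk.perm A0 i))⁻¹ * a * Bk.rep i) • (f i : V) = _
    rw [mul_smul, mul_smul, ← h1, inv_smul_smul]
  have hx' := hmove _ hx
  have hy' := hmove _ hy
  have hperm : Bk.perm A0 = 1 := hδ _ ⟨A0, rfl⟩ fun i =>
    (hsep _ _ (hδp i) (hδp (Bk.perm A0 i)) _ ⟨_, rfl⟩ (hx' i) (hy' i)).symm
  have := Bk.faith A0 hperm fun i y hy0 => by
    have e : Bk.perm A0 i = i := by rw [hperm]; rfl
    have h1 := hx' i
    have h2 := hy' i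
    simp only [e] at h1 h2
    rw [smul_add, smul_comm _ (δ i) v, h1] at h2
    have h4 := hreg _ ⟨_, rfl⟩ h1 (add_right_cancel h2)
    rw [res_eq_one_iff] at h4
    exact h4 y hy0
  exact congrArg Subtype.val this

/-- The coprime pairs from the case of fields. -/
theorem coprimePairs_of_prim (hprim : PrimPairs.{u}) : CoprimePairs.{u} := by
  intro p hp hp2 V _ _ hV A hsol hA
  induction hn : Nat.card V using Nat.strong_induction_on generalizing V with
  | _ n ih =>
    subst hn
    rcases subsingleton_or_nontrivial V with hs | hnt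
    · exact ⟨0, 0, fun a _ _ _ => aut_ext fun v => Subsingleton.elim _ _⟩
    have hlt : ∀ X : AddSubgroup V, X ≠ ⊤ → Nat.card X < Nat.card V := fun X hX =>
      lt_of_le_of_ne (Nat.card_le_card_of_injective _ Subtype.val_injective)
        (fun e => hX (AddSubgroup.eq_top_of_card_eq X e))
    by_cases hirr : Irr A
    · by_cases hB : Nonempty (Blocks A)
      · obtain ⟨Bk⟩ := hB
        refine blocks_hasPair_coprime hp hp2 hV Bk hsol hA ?_
        have hWlt : Nat.card Bk.space < Nat.card V := by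
          rw [Bk.card_eq]
          calc Nat.card Bk.space = Nat.card Bk.space ^ 1 := (pow_one _).symm
            _ < _ := Nat.pow_lt_pow_right Bk.two_le_space Bk.two
        have hTle : Bk.stab ≤ A := fun a ha => ha.1
        haveI := hsol
        exact ih _ hWlt Bk.space (fun x => Subtype.ext (by simpa using hV x)) _
          (solvable_range _ (Group.isSolvable_of_isSolvable_injective (Subgroup.inclusion_injective hTle)))
          (fun h => hA (h.trans ((Subgroup.card_range_dvd _).trans (Subgroup.card_dvd_of_le hTle)))) rfl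
      · exact hprim p hp hp2 V hnt hV A hsol hA hirr
          (fun B hBn hBc => (blocks_or_field hirr hBn hBc).resolve_left hB)
    · unfold Irr at hirr
      push Not at hirr
      obtain ⟨U, hU, hU0, hU1⟩ := hirr
      obtain ⟨W, hW, hd, hs⟩ := cr_of_coprime hp hV A hA U hU
      have hW1 : W ≠ ⊤ := by rintro rfl; rw [inf_top_eq] at hd; exact hU0 hd
      exact hasPair_sum hU hW hd hs
        (ih _ (hlt U hU1) U (fun x => Subtype.ext (by simpa using hV x)) _ (solvable_range _ hsol)
          (fun h => hA (h.trans (Subgroup.card_range_dvd _))) rfl)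
        (ih _ (hlt W hW1) W (fun x => Subtype.ext (by simpa using hV x)) _ (solvable_range _ hsol)
          (fun h => hA (h.trans (Subgroup.card_range_dvd _))) rfl)

end CfsgLib.SolvBase
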