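import Cfsg.Agent.SolvBase.Components

/-!
The cases left by the general colouring: few scalars and many classes of order two.
-/

set_option autoImplicit false
set_option linter.style.haveILetI false
set_option linter.unusedSectionVars false

universe u

namespace CfsgLib.SolvBase

open OddBase
open scoped commutatorElement

variable {V : Type u} [AddCommGroup V] [Finite V] [Nontrivial V] {S : Setup (Aut V)}

lemma two_dvd_card_A0 {p : ℕ} (hp : p.Prime) (hp2 : p ≠ 2) (hV : ∀ v : V, p • v = 0)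
    (hfull : Full S) : 2 ∣ Nat.card S.A0 := by
  obtain ⟨v, hv⟩ := exists_ne (0 : V)
  have hne : v ≠ -v := fun h => by
    have h2 : addOrderOf v ∣ 2 := addOrderOf_dvd_of_nsmul_eq_zero (by
      rw [two_nsmul]; nth_rewrite 1 [h]; exact neg_add_cancel v)
    have hp' : addOrderOf v ∣ p := addOrderOf_dvd_of_nsmul_eq_zero (hV v)
    exact hv (AddMonoid.addOrderOf_eq_one_iff.mp (Nat.eq_one_of_dvd_coprimes
      ((Nat.coprime_primes hp Nat.prime_two).mpr hp2) hp' h2))
  have h1 : (-1 : AddMonoid.End V) ≠ 0 := fun h => hv (by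
    have := DFunLike.congr_fun h v
    change -v = 0 at this
    exact neg_eq_zero.mp this)
  obtain ⟨a, ha, hae⟩ := hfull _ (Subring.neg_mem _ (Subring.one_mem _)) h1
  have ha1 : (⟨a, ha⟩ : S.A0) ≠ 1 := fun e => by
    have := congrArg Subtype.val e
    simp only [OneMemClass.coe_one] at this
    rw [this] at hae
    exact hne (DFunLike.congr_fun hae v)
  have ha2 : (⟨a, ha⟩ : S.A0) ^ 2 = 1 := by
    refine Subtype.ext (Units.ext ?_)
    rw [Subgroup.coe_pow, Units.val_pow_eq_pow_val, hae, OneMemClass.coe_one, Units.val_one, neg_one_sq]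
  haveI := Fact.mk Nat.prime_two
  rw [← orderOf_eq_prime ha2 ha1]
  exact orderOf_dvd_natCard _

lemma sq_eq_one_of_small (hN : Nat.card S.A0 = 2 ∨ Nat.card S.A0 = 4 ∨ Nat.card S.A0 = 8)
    (u : S.U) : u ^ 2 = 1 := by
  have hsub : (Monoid.exponent S.U).primeFactors ⊆ {2} := fun r hr => by
    rw [Finset.mem_singleton]
    have hp := Nat.prime_of_mem_primeFactors hr
    have h1 := prime_dvd_of_dvd_exponent hp (Nat.dvd_of_mem_primeFactors hr)
    have h2 : r ∣ 2 ^ 3 := h1.trans (by rcases hN with h | h | h <;> rw [h] <;> norm_num)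
    exact (Nat.prime_dvd_prime_iff_eq hp Nat.prime_two).mp (hp.dvd_of_dvd_pow h2)
  have hdvd : Monoid.exponent S.U ∣ 2 := by
    rw [← Nat.prod_primeFactors_of_squarefree exponent_squarefree]
    exact (Finset.prod_dvd_prod_of_subset _ _ _ hsub).trans (by simp)
  exact Monoid.exponent_dvd_iff_forall_pow_eq_one.mp hdvd u

variable (F : Frame S)

lemma card_X : Nat.card F.X = Nat.card (S.U ⧸ F.D) := by
  haveI := S.cyc
  have h0 := Subgroup.card_eq_card_quotient_mul_card_subgroup F.D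
  have h2 : Nat.card S.U ≤ Nat.card F.X * Nat.card F.D := card_le_mul_perp S.beta F.X
  have h1 : Nat.card (perp S.beta F.D) ≤ Nat.card (S.U ⧸ F.D) := by
    refine le_trans ?_ (card_hom_le (S.U ⧸ F.D) S.A0)
    have : Finite ((S.U ⧸ F.D) →* S.A0) := Finite.of_injective _ DFunLike.coe_injective
    refine Nat.card_le_card_of_injective
      (fun x => QuotientGroup.lift F.D (S.beta x) fun y hy => x.2 y hy) fun a b h => Subtype.ext ?_
    refine mul_inv_eq_one.mp (S.beta_nd _ fun y => ?_)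
    have := DFunLike.congr_fun h (QuotientGroup.mk y)
    rw [map_mul, map_inv, MonoidHom.mul_apply, MonoidHom.inv_apply, mul_inv_eq_one]
    exact this
  rw [F.perp_perp] at h1
  rw [h0] at h2
  exact le_antisymm h1 (Nat.le_of_mul_le_mul_right h2 Nat.card_pos)

lemma card_U : Nat.card S.U = Nat.card (S.U ⧸ F.D) * Nat.card F.D :=
  Subgroup.card_eq_card_quotient_mul_card_subgroup F.D

variable {F}

/-- The two generators and their product are outside `X`. -/
lemma witness_notMem (W : Witness F) (hDX : ¬ F.D ≤ F.X) :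
    cl S W.m1 ∉ F.X ∧ cl S W.m2 ∉ F.X ∧ cl S (W.m1 * W.m2) ∉ F.X := by
  have key : ∀ u v : S.U, u ∈ F.D → F.D ≤ F.X ⊔ Subgroup.closure {u} → False := by
    intro u _ hu hle
    refine hDX (hle.trans (sup_le le_rfl ((Subgroup.closure_le _).mpr ?_)))
    rintro _ rfl
    rw [SetLike.mem_coe, ← F.perp_perp]
    intro y hy
    obtain ⟨a, ha, b, hb, rfl⟩ := Subgroup.mem_sup.mp (hle hy)
    obtain ⟨j, rfl⟩ := Subgroup.mem_closure_singleton.mp hb
    rw [map_mul, map_zpow, S.beta_alt, one_zpow, mul_one]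
    exact hu a ha
  refine ⟨fun h => key (cl S W.m2) 1 W.m2_D (W.gen.trans (sup_le le_sup_left ?_)),
    fun h => key (cl S W.m1) 1 W.m1_D (W.gen.trans (sup_le le_sup_left ?_)),
    fun h => key (cl S W.m1) 1 W.m1_D (W.gen.trans (sup_le le_sup_left ?_))⟩
  all_goals
    rw [Subgroup.closure_le]
    rintro z (rfl | rfl)
  · exact Subgroup.mem_sup_left h
  · exact Subgroup.mem_sup_right (Subgroup.subset_closure rfl)
  · exact Subgroup.mem_sup_right (Subgroup.subset_closure rfl)
  · exact Subgroup.mem_sup_left h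
  · exact Subgroup.mem_sup_right (Subgroup.subset_closure rfl)
  · have h1 := Subgroup.mul_mem _
      ((F.X ⊔ Subgroup.closure {cl S W.m1}).inv_mem
        (Subgroup.mem_sup_right (Subgroup.subset_closure rfl : cl S W.m1 ∈ Subgroup.closure {cl S W.m1})))
      (Subgroup.mem_sup_left h : cl S (W.m1 * W.m2) ∈ F.X ⊔ Subgroup.closure {cl S W.m1})
    rwa [map_mul, inv_mul_cancel_left] at h1

/-- With four or eight scalars the orthogonal lies in `X`. -/
lemma D_le_X_of_four (hf : Fpf S) (W : Witness F)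
    (hN : Nat.card S.A0 = 4 ∨ Nat.card S.A0 = 8) : F.D ≤ F.X := by
  by_contra hDX
  obtain ⟨hn1, hn2, hn12⟩ := witness_notMem W hDX
  have hsq : ∀ u : S.U, u ^ 2 = 1 := sq_eq_one_of_small (Or.inr hN)
  have h2A : 2 ∣ Nat.card S.A0 := by rcases hN with h | h <;> rw [h] <;> norm_num
  haveI := S.cyc
  obtain ⟨γ, hγ⟩ := IsCyclic.exists_zpow_surjective (G := S.A0)
  have hodd : ∀ e : S.E, cl S e ∈ F.D → cl S e ∉ F.X →
      ∃ s : ℤ, Odd s ∧ (e : Aut V) * e = (γ : Aut V) ^ s := by
    intro e he heX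
    obtain ⟨s, hs⟩ := hγ ⟨_, Frame.pow_mem_A0 (hsq (cl S e))⟩
    replace hs : (γ : Aut V) ^ s = (e : Aut V) ^ 2 := by
      have := congrArg Subtype.val hs
      simpa using this
    refine ⟨s, Int.not_even_iff_odd.mp ?_, by rw [← sq, hs]⟩
    rintro ⟨k, rfl⟩
    exact heX (F.eigen_A0 hf Nat.prime_two h2A he (S.A0.zpow_mem γ.2 k)
      (by rw [← hs, ← zpow_natCast, ← zpow_mul, mul_comm]; congr 1; ring))
  set c : S.A0 := S.beta (cl S W.m2) (cl S W.m1) with hcdef
  obtain ⟨j, hj⟩ := hγ c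
  replace hj : (γ : Aut V) ^ j = (c : Aut V) := by
    have := congrArg Subtype.val hj
    simpa using this
  -- an element of order two is an even power of the generator
  have hjeven : Even j := by
    have hc2 : (γ : Aut V) ^ (j * 2) = 1 := by
      rw [zpow_mul, hj, zpow_two, ← Subgroup.coe_mul, ← sq, hcdef, ← MonoidHom.pow_apply, ← map_pow,
        hsq, map_one, MonoidHom.one_apply, OneMemClass.coe_one]
    rw [← orderOf_dvd_iff_zpow_eq_one, Subgroup.orderOf_coe] at hc2
    have hg : orderOf γ = Nat.card S.A0 := orderOf_eq_card_of_forall_mem_zpowers fun x => hγ x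
    rw [hg] at hc2
    rcases hN with h | h <;> rw [h] at hc2
    · obtain ⟨i, hi⟩ := hc2
      push_cast at hi
      exact ⟨i, by omega⟩
    · obtain ⟨i, hi⟩ := hc2
      push_cast at hi
      exact ⟨2 * i, by omega⟩
  obtain ⟨s1, hs1, he1⟩ := hodd W.m1 W.m1_D hn1
  obtain ⟨s2, hs2, he2⟩ := hodd W.m2 W.m2_D hn2
  obtain ⟨s3, hs3, he3⟩ := hodd (W.m1 * W.m2)
    (by rw [map_mul]; exact F.D.mul_mem W.m1_D W.m2_D) hn12
  have hm : (W.m2 : Aut V) * W.m1 = (c : Aut V) * (W.m1 * W.m2) := by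
    rw [hcdef, beta_cl, commutatorElement_def]
    group
  have hkey : (γ : Aut V) ^ s3 = (γ : Aut V) ^ (j + (s1 + s2)) := by
    rw [← he3, zpow_add, zpow_add, hj, ← he1, ← he2, Subgroup.coe_mul]
    have hcc : (W.m1 : Aut V) * c = c * W.m1 := S.cen _ (S.e_le W.m1.2) _ c.2
    calc (W.m1 : Aut V) * W.m2 * (W.m1 * W.m2) = W.m1 * ((W.m2 : Aut V) * W.m1) * W.m2 := by group
      _ = W.m1 * ((c : Aut V) * (W.m1 * W.m2)) * W.m2 := by rw [hm]
      _ = (W.m1 * (c : Aut V)) * (W.m1 * (W.m2 * W.m2)) := by group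
      _ = _ := by rw [hcc]; group
  have hdvd : (orderOf (γ : Aut V) : ℤ) ∣ s3 - (j + (s1 + s2)) := by
    rw [orderOf_dvd_iff_zpow_eq_one, zpow_sub, hkey, mul_inv_cancel]
  have hev : Even (j + (s1 + s2)) := hjeven.add (hs1.add_odd hs2)
  have h2d : (2 : ℤ) ∣ (orderOf (γ : Aut V) : ℤ) := by
    rw [Subgroup.orderOf_coe, orderOf_eq_card_of_forall_mem_zpowers fun x => hγ x]
    exact_mod_cast h2A
  have h2 := (h2d.trans hdvd)
  have h3 : (2 : ℤ) ∣ s3 := by
    have h4 := dvd_add h2 hev.two_dvd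
    rwa [sub_add_cancel] at h4
  exact Int.not_even_iff_odd.mpr hs3 (even_iff_two_dvd.mpr h3)

/-- Pairs unless there are few scalars and at least four classes of order two. -/
theorem hasPair_large (hf : Fpf S) (W : Witness F) (h2 : 2 ∣ Nat.card S.A0)
    (h : (Nat.card S.A0 ≠ 2 ∧ Nat.card S.A0 ≠ 4 ∧ Nat.card S.A0 ≠ 8) ∨
      Nat.card (part F 2) ≤ 2) : HasPair S.A := by
  haveI := S.cyc
  letI : CommGroup S.A0 := IsCyclic.commGroup
  refine hasPair_of_designs hf W fun r hr hrN n hn => ?_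
  have hcard : Nat.card (Set.range fun a : S.A0 => a ^ expo r) =
      Nat.card S.A0 / (Nat.card S.A0).gcd (expo r) :=
    IsCyclic.card_powMonoidHom_range (G := S.A0) (expo r)
  have hpos : 0 < Nat.card S.A0 := Nat.card_pos
  rcases eq_or_ne r 2 with rfl | hr2
  · by_cases hn1 : n ≤ 1
    · refine ⟨1, design_small n hn1, ?_⟩
      rw [hcard]
      exact Nat.div_pos (Nat.le_of_dvd hpos (Nat.gcd_dvd_left _ _)) (Nat.gcd_pos_of_pos_left _ hpos)
    · refine ⟨3, design_three n, ?_⟩
      rcases h with ⟨h2', h4', h8'⟩ | h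
      · rw [hcard, show expo 2 = 4 from if_pos rfl]
        have hg : (Nat.card S.A0).gcd 4 = 4 ∧ Nat.card S.A0 % 4 = 0 ∨
            (Nat.card S.A0).gcd 4 = 2 ∧ Nat.card S.A0 % 4 = 2 := by
          rw [Nat.gcd_comm, Nat.gcd_rec]
          obtain ⟨k, hk⟩ := h2
          have : Nat.card S.A0 % 4 = 0 ∨ Nat.card S.A0 % 4 = 2 := by omega
          rcases this with e | e <;> rw [e] <;> simp
        rcases hg with ⟨e, e'⟩ | ⟨e, e'⟩ <;> rw [e] <;> omega
      · rw [hn] at h
        exact absurd h (Nat.not_le.mpr (lt_of_lt_of_le (by norm_num : 2 < 2 ^ 2)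
          (Nat.pow_le_pow_right (by norm_num) (by omega))))
  · haveI := Fact.mk hr
    refine ⟨2, design_odd r hr2 n, ?_⟩
    rw [hcard, show expo r = r from if_neg hr2,
      Nat.gcd_eq_right (prime_dvd_of_dvd_exponent hr hrN)]
    have h2r : 2 * r ∣ Nat.card S.A0 :=
      ((Nat.coprime_primes Nat.prime_two hr).mpr (Ne.symm hr2)).mul_dvd_of_dvd_of_dvd h2
        (prime_dvd_of_dvd_exponent hr hrN)
    exact (Nat.le_div_iff_mul_le hr.pos).mpr (Nat.le_of_dvd hpos h2r)

end CfsgLib.SolvBase
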