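import Cfsg.Agent.SolvBase.Witness

/-!
A pair from a rigid colouring of the components.
-/

set_option autoImplicit false
set_option linter.style.haveILetI false
set_option linter.unusedSectionVars false

universe u

namespace CfsgLib.SolvBase

open OddBase
open scoped commutatorElement

variable {V : Type u} [AddCommGroup V] [Finite V] [Nontrivial V] {S : Setup (Aut V)}

/-- A rigid colouring of components with the generators of the quotient. -/
structure Colouring {F : Frame S} (W : Witness F) where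
  ι : Type u
  finite : Finite ι
  f : ι → S.E
  pr : ι → ℕ
  pr_prime : ∀ i, (pr i).Prime
  f_pow : ∀ i, F.qc (f i) ^ pr i = 1
  gen : Subgroup.closure (Set.range fun i => F.qc (f i)) = ⊤
  T : Finset (S.U ⧸ F.D)
  one_notMem : (1 : S.U ⧸ F.D) ∉ T
  R : S.U ⧸ F.D → S.E
  R_mem : ∀ q ∈ T, F.qc (R q) = q
  t : S.U ⧸ F.D → V
  t_ne : ∀ q ∈ T, t q ≠ 0
  t_W : ∀ q ∈ T, InW F.K (t q)
  t_fix : ∀ g ∈ S.C, g • W.x = W.x → g • W.w = W.w → ∀ q ∈ T, g • t q = t q
  basis : ∀ i, ∃ q ∈ T, R q = f i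
  pairs : ∀ i j, pr i = pr j → (∃ q ∈ T, R q = f i * f j) ∨ (∃ q ∈ T, R q = f j * f i) ∨
    (i = j ∧ (f i : Aut V) * f i ∈ S.A0)
  rigid : ∀ g ∈ S.C, g • W.x = W.x → g • W.w = W.w → ∀ σ : (S.U ⧸ F.D) ≃* (S.U ⧸ F.D),
    (∀ (e : S.E) (he : g * e * g⁻¹ ∈ S.E), σ (F.qc e) = F.qc ⟨g * e * g⁻¹, he⟩) →
    (∀ q, σ q ∈ T ↔ q ∈ T) →
    (∀ q ∈ T, g • (R q : Aut V) • t q = (R (σ q) : Aut V) • t (σ q)) → ∀ q, σ q = q

set_option maxHeartbeats 1000000 in
open scoped Classical in
/-- Such a colouring gives two vectors with trivial common stabiliser. -/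
theorem Colouring.hasPair {F : Frame S} {W : Witness F} (Col : Colouring W) (hf : Fpf S) :
    HasPair S.A := by
  haveI := Col.finite
  refine ⟨W.x, W.w + ∑ q ∈ Col.T, (Col.R q : Aut V) • Col.t q, fun g hg hgx hgy => ?_⟩
  have hgK : ∀ h ∈ S.A, h • W.x = W.x → ∀ k ∈ F.K, h * k * h⁻¹ ∈ F.K := fun h hh hhx k hk => by
    refine F.max W.x W.x_ne W.x_W _ (S.e_norm h hh k (F.le hk)) ?_
    rw [mul_smul, mul_smul, inv_smul_eq_iff.mpr hhx.symm, W.x_W k hk, hhx]
  have hginv : g⁻¹ • W.x = W.x := inv_smul_eq_iff.mpr hgx.symm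
  have hgW : ∀ v, InW F.K v → InW F.K (g • v) := fun v hv k hk => by
    have h1 := hgK g⁻¹ (S.A.inv_mem hg) hginv k hk
    rw [inv_inv] at h1
    have h2 : g • ((g⁻¹ * k * g) • v) = g • v := by rw [hv _ h1]
    rw [← mul_smul, mul_assoc, mul_inv_cancel_left, mul_smul] at h2
    exact h2
  let ψ : S.E →* S.U ⧸ F.D :=
    F.qc.comp
      { toFun := fun e => ⟨g * e * g⁻¹, S.e_norm g hg e e.2⟩
        map_one' := Subtype.ext (by simp)
        map_mul' := fun a b => Subtype.ext (by simp [mul_assoc]) }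
  have hker : F.qc.ker ≤ ψ.ker := by
    intro e he
    rw [MonoidHom.mem_ker, Frame.qc_eq_one, Frame.mem_D] at he
    rw [MonoidHom.mem_ker]
    refine (Frame.qc_eq_one F).mpr (F.mem_D.mpr fun k hk => ?_)
    have h1 := hgK g⁻¹ (S.A.inv_mem hg) hginv k hk
    rw [inv_inv] at h1
    show g * (e : Aut V) * g⁻¹ * k = k * (g * (e : Aut V) * g⁻¹)
    calc g * (e : Aut V) * g⁻¹ * k = g * ((e : Aut V) * (g⁻¹ * k * g)) * g⁻¹ := by group
      _ = g * ((g⁻¹ * k * g) * (e : Aut V)) * g⁻¹ := by rw [he _ h1]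
      _ = _ := by group
  let σ0 : (S.U ⧸ F.D) →* (S.U ⧸ F.D) := F.qc.liftOfSurjective F.qc_surjective ⟨ψ, hker⟩
  have hσ0 : ∀ e : S.E, σ0 (F.qc e) = F.qc ⟨g * e * g⁻¹, S.e_norm g hg e e.2⟩ := fun e =>
    MonoidHom.liftOfRightInverse_comp_apply _ _ _ ⟨ψ, hker⟩ e
  have hσbij : Function.Bijective σ0 := by
    have hsur : Function.Surjective σ0 := fun q => by
      obtain ⟨e, rfl⟩ := F.qc_surjective q
      refine ⟨F.qc ⟨g⁻¹ * e * g⁻¹⁻¹, S.e_norm _ (S.A.inv_mem hg) e e.2⟩, ?_⟩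
      rw [hσ0]
      congr 1
      exact Subtype.ext (by simp [mul_assoc])
    exact ⟨Finite.injective_iff_surjective.mpr hsur, hsur⟩
  let σ := MulEquiv.ofBijective σ0 hσbij
  -- comparing components
  let v : (S.U ⧸ F.D) → V := fun q => if q = 1 then W.w else (Col.R q : Aut V) • Col.t q
  let v' : (S.U ⧸ F.D) → V := fun q => g • v (σ.symm q)
  let T' := insert 1 Col.T
  have hsum : ∑ q ∈ T', v q = W.w + ∑ q ∈ Col.T, (Col.R q : Aut V) • Col.t q := by
    rw [Finset.sum_insert Col.one_notMem]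
    refine congrArg₂ (· + ·) (if_pos rfl) (Finset.sum_congr rfl fun q hq => ?_)
    exact if_neg fun e => Col.one_notMem (by rwa [e] at hq)
  have hmemT : ∀ q ∈ T', q ≠ 1 → q ∈ Col.T := fun q hq h =>
    (Finset.mem_insert.mp hq).resolve_left h
  have hcomp : ∀ q ∈ T', F.InComp q (v q) := by
    intro q hq
    simp only [v]
    split_ifs with h
    · exact ⟨1, by rw [map_one, h], W.w, W.w_W, by simp⟩
    · exact ⟨Col.R q, Col.R_mem q (hmemT q hq h), Col.t q, Col.t_W q (hmemT q hq h), rfl⟩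
  have hne : ∀ q ∈ T', v q ≠ 0 := by
    intro q hq
    simp only [v]
    split_ifs with h
    · exact W.w_ne
    · exact fun e => Col.t_ne q (hmemT q hq h) ((smul_eq_zero_iff_eq _).mp e)
  have hcomp' : ∀ q ∈ T'.image σ, F.InComp q (v' q) := by
    intro q hq
    obtain ⟨p, hp, rfl⟩ := Finset.mem_image.mp hq
    obtain ⟨e, he, w', hw', hv⟩ := hcomp p hp
    refine ⟨⟨g * e * g⁻¹, S.e_norm g hg e e.2⟩, ?_, g • w', hgW w' hw', ?_⟩
    · rw [← hσ0, he]; rfl
    · simp only [v', MulEquiv.symm_apply_apply, hv]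
      rw [← mul_smul, ← mul_smul, inv_mul_cancel_right]
  have hsum' : ∑ q ∈ T'.image σ, v' q = g • ∑ q ∈ T', v q := by
    rw [Finset.sum_image σ.injective.injOn, Finset.smul_sum]
    exact Finset.sum_congr rfl fun q _ => by simp [v']
  obtain ⟨hT, hv⟩ := F.comp_unique hf hcomp hcomp' hne
    (fun q _ e => by
      obtain ⟨p, hp, rfl⟩ := Finset.mem_image.mp ‹q ∈ T'.image σ›
      simp only [v', MulEquiv.symm_apply_apply] at e
      exact hne p hp ((smul_eq_zero_iff_eq _).mp e))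
    (by rw [hsum', hsum, hgy])
  have hval : ∀ q ∈ T', v (σ q) = g • v q := fun q hq => by
    have h1 := hv (σ q) (by rw [hT]; exact Finset.mem_image_of_mem σ hq)
    simpa [v'] using h1
  have hgw : g • W.w = W.w := by
    have := hval 1 (Finset.mem_insert_self 1 Col.T)
    simp only [v, map_one, if_pos] at this
    exact this.symm
  obtain ⟨hgC, hg1, hg2⟩ := W.pin g hg hgx hgw
  have hσT : ∀ q, σ q ∈ Col.T ↔ q ∈ Col.T := fun q => by
    have h1 : σ q ∈ T' ↔ q ∈ T' := by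
      conv_lhs => rw [hT]
      rw [Finset.mem_image]
      exact ⟨fun ⟨p, hp, hpq⟩ => σ.injective hpq ▸ hp, fun h => ⟨q, h, rfl⟩⟩
    simp only [T', Finset.mem_insert, map_eq_one_iff σ σ.injective] at h1
    by_cases hq : q = 1
    · subst hq; rw [map_one]
    · simpa [hq] using h1
  have hRel : ∀ q ∈ Col.T, g • (Col.R q : Aut V) • Col.t q =
      (Col.R (σ q) : Aut V) • Col.t (σ q) := fun q hq => by
    have hq1 : q ≠ 1 := fun e => Col.one_notMem (e ▸ hq)
    have := hval q (Finset.mem_insert_of_mem hq)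
    simp only [v, if_neg hq1, if_neg (fun e => hq1 ((map_eq_one_iff σ σ.injective).mp e))] at this
    exact this.symm
  have hσid := Col.rigid g hgC hgx hgw σ (fun e _ => hσ0 e) hσT hRel
  -- conjugates of the lifts
  have hgA : ∀ a ∈ S.A0, g * a * g⁻¹ = a := fun a ha => by
    rw [S.cen g hgC a ha, mul_inv_cancel_right]
  have hgt : ∀ q ∈ Col.T, g⁻¹ • Col.t q = Col.t q := fun q hq =>
    inv_smul_eq_iff.mpr (Col.t_fix g hgC hgx hgw q hq).symm
  let δ : Aut V → Aut V := fun e => e⁻¹ * (g * e * g⁻¹)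
  have hRfix : ∀ q ∈ Col.T, (g * (Col.R q : Aut V) * g⁻¹) • Col.t q = (Col.R q : Aut V) • Col.t q := by
    intro q hq
    rw [mul_smul, mul_smul, hgt q hq, hRel q hq, hσid]
  have hKc : ∀ d ∈ F.K, ∀ (e : S.E) (t : V), t ≠ 0 → InW F.K t →
      d • (e : Aut V) • t = (e : Aut V) • t → d * e = e * d := by
    intro d hd e t ht htW hde
    have h1 : (e : Aut V)⁻¹ * d * e ∈ F.K := by
      refine F.max t ht htW _ (S.E.mul_mem (S.E.mul_mem (S.E.inv_mem e.2) (F.le hd)) e.2) ?_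
      rw [mul_smul, mul_smul, hde, inv_smul_smul]
    have h2 : ⁅(e : Aut V)⁻¹, d⁆ ∈ F.K := by
      rw [commutatorElement_def, inv_inv]
      exact F.K.mul_mem h1 (F.K.inv_mem hd)
    have h3 := F.eq_one_of_mem_A0 hf h2 (S.comm _ (S.E.inv_mem e.2) _ (F.le hd))
    have h4 := commutatorElement_eq_one_iff_mul_comm.mp h3
    calc d * (e : Aut V) = (e : Aut V) * ((e : Aut V)⁻¹ * d) * e := by group
      _ = (e : Aut V) * (d * (e : Aut V)⁻¹) * e := by rw [h4]
      _ = (e : Aut V) * d := by group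
  let d : Col.ι → Aut V := fun i => δ (Col.f i)
  have hd : ∀ i, d i ∈ F.K := fun i => by
    obtain ⟨q, hq, hRq⟩ := Col.basis i
    have h := hRfix q hq
    rw [hRq] at h
    refine F.max _ (Col.t_ne q hq) (Col.t_W q hq) _
      (S.E.mul_mem (S.E.inv_mem (Col.f i).2) (S.e_norm g hg _ (Col.f i).2)) ?_
    show ((Col.f i : Aut V)⁻¹ * (g * Col.f i * g⁻¹)) • Col.t q = Col.t q
    rw [mul_smul, h, inv_smul_smul]
  have hconj : ∀ i, g * (Col.f i : Aut V) * g⁻¹ = (Col.f i : Aut V) * d i := fun i => by simp [d, δ]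
  -- symmetry
  have hsym : ∀ i j, ⁅(Col.f i : Aut V), d j⁆ * ⁅d i, (Col.f j : Aut V)⁆ = 1 := by
    intro i j
    have h1 := hgA _ (S.comm _ (Col.f i).2 _ (Col.f j).2)
    rw [conjugate_commutatorElement, hconj, hconj] at h1
    have hdd : ⁅d i, d j⁆ = 1 :=
      commutatorElement_eq_one_iff_mul_comm.mpr (F.K_comm hf (hd i) (hd j))
    have hdE : ∀ i', d i' ∈ S.E := fun i' => F.le (hd i')
    rw [S.comm_mul_left (S.e_le (Col.f i).2) (S.comm _ (Col.f i).2 _ (S.E.mul_mem (Col.f j).2 (hdE j)))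
        (S.comm _ (hdE i) _ (S.E.mul_mem (Col.f j).2 (hdE j))),
      S.comm_mul_right (S.e_le (Col.f j).2) (S.comm _ (Col.f i).2 _ (hdE j)),
      S.comm_mul_right (S.e_le (Col.f j).2) (S.comm _ (hdE i) _ (hdE j)), hdd, mul_one,
      mul_assoc, mul_eq_left] at h1
    exact h1
  have hcomm_of : ∀ i j, d j * Col.f i = Col.f i * d j → d i * Col.f j = Col.f j * d i := by
    intro i j h
    have h1 := hsym i j
    rw [commutatorElement_eq_one_iff_mul_comm.mpr h.symm, one_mul] at h1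
    exact commutatorElement_eq_one_iff_mul_comm.mp h1
  have hpair : ∀ i j, (∃ q ∈ Col.T, Col.R q = Col.f i * Col.f j) → d i * Col.f j = Col.f j * d i := by
    rintro i j ⟨q, hq, hRq⟩
    refine hKc _ (hd i) (Col.f j) _ (Col.t_ne q hq) (Col.t_W q hq) ?_
    have h := hRfix q hq
    rw [hRq, Subgroup.coe_mul,
      show g * ((Col.f i : Aut V) * Col.f j) * g⁻¹ = (g * Col.f i * g⁻¹) * (g * Col.f j * g⁻¹) by group,
      hconj, hconj] at h
    simp only [mul_smul, Col.t_W q hq _ (hd j)] at h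
    exact smul_left_cancel _ h
  have hall' : ∀ i j, d i * Col.f j = Col.f j * d i := by
    intro i j
    by_cases hp : Col.pr i = Col.pr j
    · rcases Col.pairs i j hp with h | h | ⟨rfl, hsq⟩
      · exact hpair i j h
      · exact hcomm_of i j (hpair j i h)
      · obtain ⟨q, hq, hRq⟩ := Col.basis i
        refine hKc _ (hd i) (Col.f i) _ (Col.t_ne q hq) (Col.t_W q hq) ?_
        have h1 := hgA _ hsq
        rw [show g * ((Col.f i : Aut V) * Col.f i) * g⁻¹ =
          (g * Col.f i * g⁻¹) * (g * Col.f i * g⁻¹) by group, hconj] at h1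
        have h2 : d i * ((Col.f i : Aut V) * d i) = Col.f i := by
          have := congrArg (fun z => (Col.f i : Aut V)⁻¹ * z) h1
          simpa [mul_assoc] using this
        have h3 := congrArg (fun z => z • Col.t q) h2
        simp only [mul_smul, Col.t_W q hq _ (hd i)] at h3
        exact h3
    · -- different primes
      let di : Col.ι → S.E := fun i' => ⟨d i', F.le (hd i')⟩
      have hpow : ∀ i' j', S.beta (cl S (di i')) (cl S (Col.f j')) ^ Col.pr j' = 1 := by
        intro i' j'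
        rw [← map_pow, ← map_pow]
        have hD : cl S (Col.f j' ^ Col.pr j') ∈ F.D := by
          rw [← Frame.qc_eq_one, map_pow]
          exact Col.f_pow j'
        exact beta_symm_one S (hD _ ⟨di i', hd i', rfl⟩)
      have heq : ((S.beta (cl S (di i)) (cl S (Col.f j)) : S.A0) : Aut V) =
          ((S.beta (cl S (di j)) (cl S (Col.f i)) : S.A0) : Aut V) := by
        rw [beta_cl, beta_cl]
        show ⁅d i, (Col.f j : Aut V)⁆ = ⁅d j, (Col.f i : Aut V)⁆
        have h1 := hsym i j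
        rw [← commutatorElement_inv (Col.f i : Aut V) (d j), eq_inv_of_mul_eq_one_right h1]
      have hb1 : S.beta (cl S (di i)) (cl S (Col.f j)) = 1 := by
        have e1 := orderOf_dvd_of_pow_eq_one (hpow i j)
        have e2 := orderOf_dvd_of_pow_eq_one (hpow j i)
        rw [← Subtype.ext heq] at e2
        exact orderOf_eq_one_iff.mp (Nat.eq_one_of_dvd_coprimes
          ((Nat.coprime_primes (Col.pr_prime j) (Col.pr_prime i)).mpr (Ne.symm hp)) e1 e2)
      exact (beta_cl_eq_one S (di i) (Col.f j)).mp hb1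
  -- elements commuting with generators of `E`
  have hall : ∀ z ∈ S.C, (∀ i, z * Col.f i = Col.f i * z) → z * W.m1 = W.m1 * z →
      z * W.m2 = W.m2 * z → (∀ k ∈ F.K, z * k = k * z) → z ∈ S.A0 := by
    intro z hz hzf hz1 hz2 hzK
    refine S.dle z hz ?_
    let H : Subgroup S.U := ((Subgroup.centralizer {z}).subgroupOf S.E).map (cl S)
    have hmem : ∀ e : S.E, z * e = e * z → cl S e ∈ H := fun e he =>
      ⟨e, Subgroup.mem_centralizer_singleton_iff.mpr he.symm, rfl⟩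
    have hDH : F.D ≤ H := by
      refine W.gen.trans (sup_le ?_ ((Subgroup.closure_le _).mpr ?_))
      · rintro _ ⟨k, hk, rfl⟩
        exact hmem k (hzK k hk)
      · rintro _ (rfl | rfl)
        · exact hmem W.m1 hz1
        · exact hmem W.m2 hz2
    have htop : H.map (QuotientGroup.mk' F.D) = ⊤ := by
      rw [eq_top_iff, ← Col.gen, Subgroup.closure_le]
      rintro _ ⟨i, rfl⟩
      exact ⟨cl S (Col.f i), hmem _ (hzf i), rfl⟩
    intro y hy
    obtain ⟨h, hh, hhy⟩ : F.qc ⟨y, hy⟩ ∈ H.map (QuotientGroup.mk' F.D) := by rw [htop]; trivial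
    have hy2 : cl S ⟨y, hy⟩ ∈ H := by
      have : h⁻¹ * cl S ⟨y, hy⟩ ∈ F.D := QuotientGroup.eq.mp hhy
      have h2 := H.mul_mem hh (hDH this)
      rwa [mul_inv_cancel_left] at h2
    obtain ⟨e, hez, hey⟩ := hy2
    have h3 : (e : Aut V)⁻¹ * y ∈ S.A0 := by
      have := (cl_eq_one S (e := e⁻¹ * ⟨y, hy⟩)).mp (by rw [map_mul, map_inv, hey, inv_mul_cancel])
      simpa using this
    have hez' : z * (e : Aut V) = e * z := (Subgroup.mem_centralizer_singleton_iff.mp hez).symm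
    calc z * y = (z * e) * ((e : Aut V)⁻¹ * y) := by group
      _ = e * (z * ((e : Aut V)⁻¹ * y)) := by rw [hez', mul_assoc]
      _ = e * (((e : Aut V)⁻¹ * y) * z) := by rw [S.cen z hz _ h3]
      _ = y * z := by group
  have hone : ∀ k ∈ F.K, (∀ i, k * Col.f i = Col.f i * k) → k = 1 := fun k hk hkf =>
    F.eq_one_of_mem_A0 hf hk (hall k (S.e_le (F.le hk)) hkf ((F.mem_D.mp W.m1_D k hk).symm)
      ((F.mem_D.mp W.m2_D k hk).symm) fun k' hk' => F.K_comm hf hk hk')
  have hgf : ∀ i, g * (Col.f i : Aut V) * g⁻¹ = Col.f i := fun i => by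
    rw [hconj, hone _ (hd i) (hall' i), mul_one]
  have hshift : ∀ e : S.E, δ e ∈ F.K → δ e = 1 := fun e he => by
    refine hone _ he fun i => ?_
    have h1 := hgA _ (S.comm _ (Col.f i).2 _ e.2)
    rw [conjugate_commutatorElement, hgf i,
      show g * (e : Aut V) * g⁻¹ = (e : Aut V) * δ e by simp [δ],
      S.comm_mul_right (S.e_le e.2) (S.comm _ (Col.f i).2 _ (F.le he)), mul_eq_left] at h1
    exact (commutatorElement_eq_one_iff_mul_comm.mp h1).symm
  have hfixed : ∀ e : S.E, δ e ∈ F.K → g * (e : Aut V) * g⁻¹ = e := fun e he => by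
    calc g * (e : Aut V) * g⁻¹ = e * δ e := by simp [δ]
      _ = e := by rw [hshift e he, mul_one]
  have hm : ∀ m : S.E, g • (m : Aut V) • W.x = (m : Aut V) • W.x → g * (m : Aut V) * g⁻¹ = m := by
    intro m hm
    refine hfixed m (F.max W.x W.x_ne W.x_W _
      (S.E.mul_mem (S.E.inv_mem m.2) (S.e_norm g hg m m.2)) ?_)
    show ((m : Aut V)⁻¹ * (g * m * g⁻¹)) • W.x = W.x
    rw [mul_smul, mul_smul, mul_smul, hginv, hm, inv_smul_smul]
  have hk : ∀ k ∈ F.K, g * k * g⁻¹ = k := fun k hk =>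
    hfixed ⟨k, F.le hk⟩ (F.K.mul_mem (F.K.inv_mem hk) (hgK g hg hgx k hk))
  have hgA0 : g ∈ S.A0 := hall g hgC (fun i => mul_inv_eq_iff_eq_mul.mp (hgf i))
    (mul_inv_eq_iff_eq_mul.mp (hm _ hg1)) (mul_inv_eq_iff_eq_mul.mp (hm _ hg2))
    fun k hk' => mul_inv_eq_iff_eq_mul.mp (hk k hk')
  by_contra hne'
  exact W.x_ne (hf g hgA0 hne' W.x hgx)

end CfsgLib.SolvBase
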