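import Cfsg.Agent.OddBase.Prim
import Cfsg.Agent.SolvBase.Frame
import Cfsg.Agent.ThreeInvolutions.Core

/-!
Enlarging a coprime soluble group by the scalars of the field of its maximal abelian normal subgroup.
-/

set_option autoImplicit false
set_option linter.style.haveILetI false
set_option linter.unusedSectionVars false

universe u

namespace CfsgLib.SolvBase

open OddBase
open scoped commutatorElement

/-- The product of a subgroup with a subgroup it normalises. -/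
def mulSub {G : Type*} [Group G] (H Z : Subgroup G) (h : ∀ a ∈ H, ∀ z ∈ Z, a * z * a⁻¹ ∈ Z) :
    Subgroup G where
  carrier := {g | ∃ a ∈ H, ∃ z ∈ Z, g = a * z}
  one_mem' := ⟨1, H.one_mem, 1, Z.one_mem, (one_mul 1).symm⟩
  mul_mem' := by
    rintro _ _ ⟨a, ha, z, hz, rfl⟩ ⟨b, hb, w, hw, rfl⟩
    refine ⟨a * b, H.mul_mem ha hb, b⁻¹ * z * b * w, Z.mul_mem ?_ hw, by group⟩
    simpa using h b⁻¹ (H.inv_mem hb) z hz
  inv_mem' := by
    rintro _ ⟨a, ha, z, hz, rfl⟩
    exact ⟨a⁻¹, H.inv_mem ha, a * z⁻¹ * a⁻¹, h a ha _ (Z.inv_mem hz), by group⟩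

lemma le_mulSub {G : Type*} [Group G] {H Z : Subgroup G} (h : ∀ a ∈ H, ∀ z ∈ Z, a * z * a⁻¹ ∈ Z) :
    H ≤ mulSub H Z h ∧ Z ≤ mulSub H Z h :=
  ⟨fun a ha => ⟨a, ha, 1, Z.one_mem, (mul_one a).symm⟩,
    fun z hz => ⟨1, H.one_mem, z, hz, (one_mul z).symm⟩⟩

variable {V : Type u} [AddCommGroup V]

/-- All non-zero scalars belong to the maximal abelian subgroup. -/
def Full (S : Setup (Aut V)) : Prop :=
  ∀ z ∈ spanRing S.A0, z ≠ 0 → ∃ a ∈ S.A0, ((a : Aut V) : AddMonoid.End V) = z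

set_option maxHeartbeats 800000 in
/-- The enlarged setup. -/
theorem exists_full_setup [Finite V] [Nontrivial V] {A : Subgroup (Aut V)} (hsol : Group.IsSolvable A)
    (hfield : AllFields A) {p : ℕ} (hp : p.Prime) (hV : ∀ v : V, p • v = 0)
    (hA : ¬ p ∣ Nat.card A) :
    ∃ S : Setup (Aut V), A ≤ S.A ∧ Group.IsSolvable S.A ∧ ¬ p ∣ Nat.card S.A ∧
      NormSub S.A S.A0 ∧ S.C = S.A ⊓ Subgroup.centralizer (S.A0 : Set (Aut V)) ∧ Fpf S ∧ Full S ∧
      (∀ x ∈ spanRing S.A0, x ≠ 0 → ∃ y ∈ spanRing S.A0, x * y = 1) := by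
  classical
  obtain ⟨S0, hSA, hAn, hC⟩ := exists_setup hsol hfield
  subst hSA
  have hAc : ∀ a ∈ S0.A0, ∀ b ∈ S0.A0, a * b = b * a := fun a ha b hb =>
    S0.cen a (S0.e_le (S0.a0_le ha)) b hb
  have hfl := hfield S0.A0 hAn hAc
  set L := spanRing S0.A0 with hLdef
  letI instF : Field L := fieldOf hAc hfl
  let ι : Lˣ →* Aut V := Units.map (L.subtype : L →* AddMonoid.End V)
  have hι : Function.Injective ι := fun a b h =>
    Units.ext (Subtype.ext (congrArg (fun u : Aut V => (u : AddMonoid.End V)) h))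
  set Z := ι.range
  have hZL : ∀ z ∈ Z, ((z : Aut V) : AddMonoid.End V) ∈ L := by
    rintro _ ⟨u, rfl⟩
    exact (u : L).2
  have hLZ : ∀ z : Aut V, ((z : Aut V) : AddMonoid.End V) ∈ L → z ∈ Z := fun z hz => by
    have hne : (⟨_, hz⟩ : L) ≠ 0 := fun e => by
      obtain ⟨v, hv⟩ := exists_ne (0 : V)
      have : z • v = 0 := DFunLike.congr_fun (congrArg Subtype.val e) v
      exact hv ((smul_eq_zero_iff_eq z).mp this)
    exact ⟨Units.mk0 _ hne, Units.ext rfl⟩
  have hA0Z : S0.A0 ≤ Z := fun a ha => hLZ a (coe_mem_spanRing ha)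
  have hAZ : ∀ a ∈ S0.A, ∀ z ∈ Z, a * z * a⁻¹ ∈ Z := fun a ha z hz => hLZ _ (by
    rw [← cj_coe]
    exact spanRing_cj hAn ha (hZL z hz))
  have hcZ : ∀ c ∈ S0.C, ∀ z ∈ Z, c * z = z * c := fun c hc z hz =>
    Units.ext (comm_spanRing (S0.cen c hc) (hZL z hz))
  have hZc : ∀ a ∈ Z, ∀ b ∈ Z, a * b = b * a := by
    rintro _ ⟨a, rfl⟩ _ ⟨b, rfl⟩
    rw [← map_mul, mul_comm, map_mul]
  have hCZ : ∀ a ∈ S0.C, ∀ z ∈ Z, a * z * a⁻¹ ∈ Z := fun a ha => hAZ a (S0.c_le ha)
  have hEZ : ∀ a ∈ S0.E, ∀ z ∈ Z, a * z * a⁻¹ ∈ Z := fun a ha => hCZ a (S0.e_le ha)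
  let A' := mulSub S0.A Z hAZ
  let C' := mulSub S0.C Z hCZ
  let E' := mulSub S0.E Z hEZ
  have hcen : ∀ c ∈ C', ∀ a ∈ Z, c * a = a * c := by
    rintro _ ⟨c, hc, z, hz, rfl⟩ a ha
    rw [mul_assoc, hZc z hz a ha, ← mul_assoc, hcZ c hc a ha, mul_assoc]
  have hnorm : ∀ g ∈ A', ∀ a ∈ Z, g * a * g⁻¹ ∈ Z := by
    rintro _ ⟨b, hb, z, hz, rfl⟩ a ha
    rw [show b * z * a * (b * z)⁻¹ = b * (z * a * z⁻¹) * b⁻¹ by group,
      show z * a * z⁻¹ = a by rw [hZc z hz a ha, mul_inv_cancel_right]]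
    exact hAZ b hb a ha
  have henorm : ∀ g ∈ A', ∀ x ∈ E', g * x * g⁻¹ ∈ E' := by
    rintro g hg _ ⟨e, he, w, hw, rfl⟩
    have hgw := hnorm g hg w hw
    obtain ⟨b, hb, z, hz, rfl⟩ := hg
    refine ⟨b * e * b⁻¹, S0.e_norm b hb e he, b * z * w * (b * z)⁻¹, hgw, ?_⟩
    have h2 : z * e = e * z := (hcZ e (S0.e_le he) z hz).symm
    calc b * z * (e * w) * (b * z)⁻¹ = b * (z * e) * w * z⁻¹ * b⁻¹ := by group
      _ = b * (e * z) * w * z⁻¹ * b⁻¹ := by rw [h2]
      _ = _ := by group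
  have hcomm : ∀ x ∈ E', ∀ y ∈ E', ⁅x, y⁆ ∈ Z := by
    rintro _ ⟨e, he, z, hz, rfl⟩ _ ⟨e', he', z', hz', rfl⟩
    have h1 := hcZ e' (S0.e_le he') z hz
    have h2 := hcZ e (S0.e_le he) z' hz'
    have hpi : (e * z) * (e' * z') = (e * e') * (z * z') := by
      calc (e * z) * (e' * z') = e * (z * e') * z' := by group
        _ = e * (e' * z) * z' := by rw [h1]
        _ = _ := by group
    have hpj : (e' * z') * (e * z) = (e' * e) * (z * z') := by
      calc (e' * z') * (e * z) = e' * (z' * e) * z := by group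
        _ = e' * (e * z') * z := by rw [h2]
        _ = (e' * e) * (z' * z) := by group
        _ = _ := by rw [hZc z' hz' z hz]
    have hc : ⁅e * z, e' * z'⁆ = ⁅e, e'⁆ := by
      have : ⁅e * z, e' * z'⁆ = ((e * z) * (e' * z')) * ((e' * z') * (e * z))⁻¹ := by
        simp only [commutatorElement_def]; group
      rw [this, hpi, hpj]
      simp only [commutatorElement_def]
      group
    rw [hc]
    exact hA0Z (S0.comm e he e' he')
  have hcyc : IsCyclic Z := by
    haveI : IsCyclic Lˣ := inferInstance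
    exact isCyclic_of_surjective ι.rangeRestrict ι.rangeRestrict_surjective
  have hZE : Z ≤ E' := (le_mulSub hEZ).2
  have hdle : ∀ c ∈ C', (∀ y ∈ E', c * y = y * c) → c ∈ Z := by
    rintro _ ⟨c, hc, z, hz, rfl⟩ h
    refine Z.mul_mem (hA0Z (S0.dle c hc fun y hy => ?_)) hz
    have h1 := h y ((le_mulSub hEZ).1 hy)
    have h2 := hcZ y (S0.e_le hy) z hz
    rw [mul_assoc, ← h2, ← mul_assoc, ← mul_assoc] at h1
    exact mul_right_cancel h1
  have hmax : ∀ B : Subgroup (Aut V), Z ≤ B → B ≤ E' → (∀ g ∈ A', ∀ b ∈ B, g * b * g⁻¹ ∈ B) →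
      (∀ a ∈ B, ∀ b ∈ B, a * b = b * a) → B ≤ Z := by
    intro B h1 h2 h3 h4
    have h5 : B ⊓ S0.E ≤ S0.A0 := S0.maxab _ (le_inf (hA0Z.trans h1) S0.a0_le) inf_le_right
      (fun g hg b hb => ⟨h3 g ((le_mulSub hAZ).1 hg) b hb.1, S0.e_norm g hg b hb.2⟩)
      (fun a ha b hb => h4 a ha.1 b hb.1)
    intro b hb
    obtain ⟨e, he, z, hz, rfl⟩ := h2 hb
    have he' : e ∈ B := by
      have := B.mul_mem hb (B.inv_mem (h1 hz))
      rwa [mul_inv_cancel_right] at this
    exact Z.mul_mem (hA0Z (h5 ⟨he', he⟩)) hz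
  have hEC : E' ≤ C' := by
    intro x hx
    obtain ⟨e, he, z, hz, h⟩ := hx
    exact ⟨e, S0.e_le he, z, hz, h⟩
  have hCA : C' ≤ A' := by
    intro x hx
    obtain ⟨c, hc, z, hz, h⟩ := hx
    exact ⟨c, S0.c_le hc, z, hz, h⟩
  let S : Setup (Aut V) :=
    ⟨A', Z, C', E', hZE, hEC, hCA, hcen, hnorm, henorm, hcomm, hcyc, hdle, hmax⟩
  have hspan : spanRing Z = L := by
    refine le_antisymm (Subring.closure_le.mpr ?_) (Subring.closure_le.mpr ?_)
    · rintro _ ⟨z, hz, rfl⟩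
      exact hZL z hz
    · rintro _ ⟨a, ha, rfl⟩
      exact coe_mem_spanRing (hA0Z ha)
  have hnsub : NormSub A' Z := ⟨(le_mulSub hAZ).2, hnorm⟩
  refine ⟨S, (le_mulSub hAZ).1, ?_, ?_, hnsub, ?_, ?_, ?_, ?_⟩
  · haveI : (Z.subgroupOf A').Normal := ⟨fun z hz g => by
      rw [Subgroup.mem_subgroupOf] at hz ⊢
      exact hnorm g g.2 _ hz⟩
    let φ : S0.A →* A' ⧸ Z.subgroupOf A' :=
      (QuotientGroup.mk' _).comp (Subgroup.inclusion (le_mulSub hAZ).1)
    have hφ : Function.Surjective φ := fun x => by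
      induction x using QuotientGroup.induction_on with
      | H g =>
        obtain ⟨a, ha, z, hz, hg⟩ := g.2
        refine ⟨⟨a, ha⟩, QuotientGroup.eq.mpr ?_⟩
        rw [Subgroup.mem_subgroupOf]
        simp only [Subgroup.coe_mul, Subgroup.coe_inv, Subgroup.coe_inclusion, hg, inv_mul_cancel_left]
        exact hz
    haveI := hsol
    have hq : Group.IsSolvable (A' ⧸ Z.subgroupOf A') := Group.isSolvable_of_surjective hφ
    refine ThreeInvolutions.solvable_of_ker (QuotientGroup.mk' (Z.subgroupOf A')) ?_ ?_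
    · rw [QuotientGroup.ker_mk']
      exact Group.isSolvable_of_comm fun a b =>
        Subtype.ext (Subtype.ext (hZc _ (Subgroup.mem_subgroupOf.mp a.2) _ (Subgroup.mem_subgroupOf.mp b.2)))
    · haveI := hq
      exact Group.isSolvable_of_isSolvable_injective
        (QuotientGroup.mk' (Z.subgroupOf A')).range.subtype_injective
  · haveI : (Z.subgroupOf A').Normal := ⟨fun z hz g => by
      rw [Subgroup.mem_subgroupOf] at hz ⊢
      exact hnorm g g.2 _ hz⟩
    let φ : S0.A →* A' ⧸ Z.subgroupOf A' :=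
      (QuotientGroup.mk' _).comp (Subgroup.inclusion (le_mulSub hAZ).1)
    have hφ : Function.Surjective φ := fun x => by
      induction x using QuotientGroup.induction_on with
      | H g =>
        obtain ⟨a, ha, z, hz, hg⟩ := g.2
        refine ⟨⟨a, ha⟩, QuotientGroup.eq.mpr ?_⟩
        rw [Subgroup.mem_subgroupOf]
        simp only [Subgroup.coe_mul, Subgroup.coe_inv, Subgroup.coe_inclusion, hg, inv_mul_cancel_left]
        exact hz
    show ¬ p ∣ Nat.card A'
    rw [Subgroup.card_eq_card_quotient_mul_card_subgroup (Z.subgroupOf A'),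
      Nat.card_congr (Subgroup.subgroupOfEquivOfLe (le_mulSub hAZ).2).toEquiv]
    intro hd
    rcases hp.dvd_mul.mp hd with h | h
    · exact hA (h.trans (Subgroup.card_dvd_of_surjective φ hφ))
    · haveI := Fact.mk hp
      obtain ⟨z, hz⟩ := exists_prime_orderOf_dvd_card' (G := Z) p h
      obtain ⟨u, hu⟩ := z.2
      have hou : orderOf u = p := by
        rw [← orderOf_injective ι hι, hu, Subgroup.orderOf_coe, hz]
      have hchar : (p : L) = 0 := by
        refine Subtype.ext (DFunLike.ext _ _ fun v => ?_)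
        show ((p : L) : AddMonoid.End V) v = 0
        rw [show ((p : L) : AddMonoid.End V) = (p : AddMonoid.End V) from map_natCast L.subtype p,
          AddMonoid.End.natCast_apply]
        exact hV v
      haveI : CharP L p := (CharP.charP_iff_prime_eq_zero hp).mpr hchar
      have h1 : ((u : L) - 1) ^ p = 0 := by
        rw [sub_pow_char, one_pow, ← Units.val_pow_eq_pow_val, ← hou, pow_orderOf_eq_one, Units.val_one,
          sub_self]
      have h2 : u = 1 := Units.ext (sub_eq_zero.mp (pow_eq_zero_iff hp.ne_zero |>.mp h1))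
      rw [h2, orderOf_one] at hou
      exact hp.ne_one hou.symm
  · show C' = A' ⊓ Subgroup.centralizer (Z : Set (Aut V))
    refine le_antisymm (le_inf hCA
      fun c hc => Subgroup.mem_centralizer_iff.mpr fun a ha => (hcen c hc a ha).symm) ?_
    rintro _ ⟨⟨a, ha, z, hz, rfl⟩, hcz⟩
    refine ⟨a, ?_, z, hz, rfl⟩
    rw [hC]
    refine ⟨ha, Subgroup.mem_centralizer_iff.mpr fun b hb => ?_⟩
    have h1 := Subgroup.mem_centralizer_iff.mp hcz b (hA0Z hb)
    rw [mul_assoc a z b] at *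
    have h2 : b * (a * z) = (a * b) * z := by rw [h1, mul_assoc, hZc z hz b (hA0Z hb), ← mul_assoc]
    rw [← mul_assoc] at h2
    exact mul_right_cancel h2
  · rintro a ha ha1 v hv
    exact fpf_of_field hZc (by rw [hspan]; exact hfl) ha ha1 hv
  · intro z hz hz0
    change z ∈ spanRing Z at hz
    rw [hspan] at hz
    have hne : (⟨z, hz⟩ : L) ≠ 0 := fun e => hz0 (congrArg Subtype.val e)
    exact ⟨ι (Units.mk0 _ hne), ⟨_, rfl⟩, rfl⟩
  · show ∀ x ∈ spanRing Z, x ≠ 0 → ∃ y ∈ spanRing Z, x * y = 1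
    rw [hspan]
    exact hfl

end CfsgLib.SolvBase
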