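import Cfsg.Agent.SolvBase.SmallModel

/-!
Coded scalars: the fields with three, five and nine elements.
-/

set_option autoImplicit false
set_option linter.style.haveILetI false

namespace CfsgLib.SolvBase.SmallModel

/-- A field of one of the three orders, by codes. -/
structure Coding (L : Type*) [Field L] (q : ℕ) where
  hq : q = 3 ∨ q = 5 ∨ q = 9
  φ : ℕ → L
  zero : φ 0 = 0
  one : φ 1 = 1
  neg : φ (negOne q) = -1
  add : ∀ a b, φ (addK q a b) = φ a + φ b
  mul : ∀ a b, φ (mulK q a b) = φ a * φ b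
  inj : ∀ a < q, ∀ b < q, φ a = φ b → a = b
  surj : ∀ z, ∃ a < q, φ a = z
  aut : ∀ τ : L ≃+* L, ∃ s : Bool, ∀ a < q, τ (φ a) = φ (if s then conjK q a else a)

lemma addK_lt {q : ℕ} (hq : q = 3 ∨ q = 5 ∨ q = 9) (a b : ℕ) : addK q a b < q := by
  rcases hq with rfl | rfl | rfl <;> simp [addK] <;> omega

lemma mulK_lt {q : ℕ} (hq : q = 3 ∨ q = 5 ∨ q = 9) (a b : ℕ) : mulK q a b < q := by
  rcases hq with rfl | rfl | rfl
  · exact Nat.mod_lt _ (by norm_num)
  · exact Nat.mod_lt _ (by norm_num)
  · have h1 := Nat.mod_lt (a % 3 * (b % 3) + 2 * (a / 3 * (b / 3))) (y := 3) (by norm_num)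
    have h2 := Nat.mod_lt (a % 3 * (b / 3) + a / 3 * (b % 3)) (y := 3) (by norm_num)
    simp only [mulK, if_true]
    omega

lemma conjK_lt {q a : ℕ} (hq : q = 3 ∨ q = 5 ∨ q = 9) (ha : a < q) : conjK q a < q := by
  rcases hq with rfl | rfl | rfl <;> simp [conjK] <;> omega

lemma negOne_lt {q : ℕ} (hq : q = 3 ∨ q = 5 ∨ q = 9) : negOne q < q := by
  rcases hq with rfl | rfl | rfl <;> decide

lemma sumK_lt {q : ℕ} (hq : q = 3 ∨ q = 5 ∨ q = 9) (f : ℕ → ℕ) (m : ℕ) : sumK q f m < q := by
  cases m with
  | zero => rcases hq with rfl | rfl | rfl <;> exact Nat.zero_lt_succ _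
  | succ m => exact addK_lt hq _ _

/-- Codings exist. -/
theorem exists_coding {L : Type*} [Field L] [Fintype L]
    (hL : Fintype.card L = 3 ∨ Fintype.card L = 5 ∨ Fintype.card L = 9) :
    Nonempty (Coding L (Fintype.card L)) := by
  obtain ⟨p, hchar⟩ := CharP.exists L
  haveI := hchar
  obtain ⟨k, hp, hcard⟩ := FiniteField.card L p
  have hpdvd : p ∣ Fintype.card L := hcard ▸ dvd_pow_self p k.ne_zero
  have hsur : ∀ {q : ℕ} (φ : ℕ → L), Fintype.card L = q →
      (∀ a < q, ∀ b < q, φ a = φ b → a = b) → ∀ z, ∃ a < q, φ a = z := by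
    intro q φ hq hinj z
    have hb : Function.Bijective fun a : Fin q => φ a :=
      (Fintype.bijective_iff_injective_and_card _).mpr
        ⟨fun a b h => Fin.ext (hinj _ a.2 _ b.2 h), by simp [hq]⟩
    obtain ⟨a, ha⟩ := hb.2 z
    exact ⟨a, a.2, ha⟩
  rcases eq_or_ne (Fintype.card L) 9 with h9 | h9
  · obtain rfl : p = 3 := by
      rw [h9] at hpdvd
      have := Nat.le_of_dvd (by norm_num) hpdvd
      have := hp.two_le
      interval_cases p <;> simp_all (config := {decide := true})
    obtain ⟨i, hi⟩ := (FiniteField.isSquare_neg_one_iff (F := L)).mpr (by rw [h9]; decide)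
    have h3 : (3 : L) = 0 := by exact_mod_cast CharP.cast_eq_zero L 3
    have hmod : ∀ n : ℕ, ((n % 3 : ℕ) : L) = n := fun n => by
      conv_rhs => rw [← Nat.div_add_mod n 3]
      push_cast
      rw [h3, zero_mul, zero_add]
    have hcast : ∀ a : ℕ, a < 3 → ∀ b : ℕ, b < 3 → (a : L) = (b : L) → a = b := fun a ha b hb h =>
      CharP.natCast_injOn_Iio L 3 ha hb h
    rw [h9]
    let φ : ℕ → L := fun a => ((a % 3 : ℕ) : L) + ((a / 3 : ℕ) : L) * i
    have hpack : ∀ u v : ℕ, u < 3 → φ (u + 3 * v) = (u : L) + (v : L) * i := fun u v hu => by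
      simp only [φ]
      rw [show (u + 3 * v) % 3 = u by omega, show (u + 3 * v) / 3 = v by omega]
    have hinj : ∀ a < 9, ∀ b < 9, φ a = φ b → a = b := by
      intro a ha b hb h
      simp only [φ] at h
      by_cases he : a / 3 = b / 3
      · rw [he, add_left_inj] at h
        have := hcast _ (Nat.mod_lt _ (by norm_num)) _ (Nat.mod_lt _ (by norm_num)) h
        omega
      · exfalso
        have hz : ((a / 3 : ℕ) : L) - ((b / 3 : ℕ) : L) ≠ 0 := fun e =>
          he (hcast _ (by omega) _ (by omega) (sub_eq_zero.mp e))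
        -- `i` would lie in the prime field, and its square would be one
        have hie : i = (((b % 3 : ℕ) : L) - ((a % 3 : ℕ) : L)) /
            (((a / 3 : ℕ) : L) - ((b / 3 : ℕ) : L)) := by
          rw [eq_div_iff hz]
          linear_combination h
        have hfrob : i ^ 3 = i := by
          have hnat : ∀ n : ℕ, ((n : L)) ^ 3 = n := fun n => by
            have := map_natCast (frobenius L 3) n
            rwa [frobenius_def] at this
          have := congrArg (frobenius L 3) hie
          rw [map_div₀, map_sub, map_sub] at this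
          simp only [frobenius_def, hnat] at this
          rw [this, ← hie]
        have h1 : i ^ 3 = -i := by linear_combination -i * hi
        have h2 : i * 2 = 0 := by linear_combination h1 - hfrob
        rcases mul_eq_zero.mp h2 with h4 | h4
        · rw [h4, mul_zero] at hi
          exact one_ne_zero (neg_eq_zero.mp hi)
        · exact one_ne_zero (show (1 : L) = 0 by linear_combination h3 - h4)
    refine ⟨⟨Or.inr (Or.inr rfl), φ, by simp [φ], by simp [φ], ?_, ?_, ?_, hinj, hsur φ h9 hinj, ?_⟩⟩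
    · show φ 2 = -1
      simp only [φ, Nat.reduceMod, Nat.reduceDiv, Nat.cast_zero, zero_mul, add_zero, Nat.cast_ofNat]
      linear_combination h3
    · intro a b
      rw [show addK 9 a b = (a % 3 + b % 3) % 3 + 3 * ((a / 3 + b / 3) % 3) from rfl,
        hpack _ _ (Nat.mod_lt _ (by norm_num)), hmod, hmod]
      simp only [φ]
      push_cast
      ring
    · intro a b
      rw [show mulK 9 a b = (a % 3 * (b % 3) + 2 * (a / 3 * (b / 3))) % 3 +
          3 * ((a % 3 * (b / 3) + a / 3 * (b % 3)) % 3) from rfl,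
        hpack _ _ (Nat.mod_lt _ (by norm_num)), hmod, hmod]
      simp only [φ]
      push_cast
      linear_combination ((a / 3 : ℕ) : L) * ((b / 3 : ℕ) : L) * hi +
        ((a / 3 : ℕ) : L) * ((b / 3 : ℕ) : L) * h3
    · intro τ
      have hti : τ i = i ∨ τ i = -i := by
        refine mul_self_eq_mul_self_iff.mp ?_
        rw [← hi, ← map_mul, ← hi, map_neg, map_one]
      rcases hti with h | h
      · exact ⟨false, fun a _ => by simp [φ, h]⟩
      · refine ⟨true, fun a _ => ?_⟩
        rw [if_pos rfl, show conjK 9 a = a % 3 + 3 * (2 * (a / 3) % 3) from rfl,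
          hpack _ _ (Nat.mod_lt _ (by norm_num)), hmod (2 * (a / 3))]
        simp only [φ, map_add, map_mul, map_natCast, h, Nat.cast_mul, Nat.cast_ofNat]
        linear_combination -((a / 3 : ℕ) : L) * i * h3
  · have hq : Fintype.card L = 3 ∨ Fintype.card L = 5 := by tauto
    have hprime : (Fintype.card L).Prime := by rcases hq with h | h <;> rw [h] <;> norm_num
    obtain rfl : p = Fintype.card L := (Nat.prime_dvd_prime_iff_eq hp hprime).mp hpdvd
    set q := Fintype.card L
    have hinj : ∀ a : ℕ, a < q → ∀ b : ℕ, b < q → (a : L) = (b : L) → a = b := fun a ha b hb h =>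
      CharP.natCast_injOn_Iio L q ha hb h
    have hmod : ∀ n : ℕ, ((n % q : ℕ) : L) = n := fun n => by
      conv_rhs => rw [← Nat.div_add_mod n q]
      push_cast
      rw [CharP.cast_eq_zero L q, zero_mul, zero_add]
    refine ⟨⟨by tauto, fun a => (a : L), Nat.cast_zero, Nat.cast_one, ?_, ?_, ?_, hinj,
      hsur _ rfl hinj, ?_⟩⟩
    · show ((negOne q : ℕ) : L) = -1
      rw [negOne, if_neg h9, Nat.cast_sub hprime.one_le, CharP.cast_eq_zero L q, Nat.cast_one,
        zero_sub]
    · intro a b
      rw [addK, if_neg h9, hmod, Nat.cast_add]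
    · intro a b
      rw [mulK, if_neg h9, hmod, Nat.cast_mul]
    · exact fun τ => ⟨false, fun a _ => by simp⟩

namespace Coding

variable {L : Type*} [Field L] {q : ℕ} (K : Coding L q)

lemma sgnK_eq (s : Bool) (a : ℕ) : K.φ (sgnK q s a) = (if s then -1 else 1) * K.φ a := by
  cases s
  · simp [sgnK]
  · simp [sgnK, K.mul, K.neg]

lemma sumK_eq (f : ℕ → ℕ) (m : ℕ) : K.φ (sumK q f m) = ∑ i ∈ Finset.range m, K.φ (f i) := by
  induction m with
  | zero => simp [sumK, K.zero]
  | succ m ih => rw [sumK, K.add, ih, Finset.sum_range_succ]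

lemma ne_zero {a : ℕ} (ha : a < q) (h : a ≠ 0) : K.φ a ≠ 0 := fun e =>
  h (K.inj a ha 0 (by omega) (e.trans K.zero.symm))

end Coding

end CfsgLib.SolvBase.SmallModel
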