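import Cfsg.Agent.SolvBase.SmallBasis
import Cfsg.Agent.SolvBase.SmallScalar

/-!
The coordinates given by lifts of a frame basis.
-/

set_option autoImplicit false
set_option linter.style.haveILetI false
set_option linter.unusedSectionVars false

universe u

namespace CfsgLib.SolvBase.SmallModel

open OddBase

lemma xor_div_mod (n c d : ℕ) :
    (c ^^^ d) % 2 ^ n = c % 2 ^ n ^^^ d % 2 ^ n ∧ (c ^^^ d) / 2 ^ n = c / 2 ^ n ^^^ d / 2 ^ n :=
  ⟨Nat.xor_mod_two_pow, Nat.xor_div_two_pow⟩

section Signed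

variable (L : Type*) [Field L]

/-- The sign. -/
def sgnL (s : Bool) : L := if s then -1 else 1

lemma sgnL_xor (s t : Bool) : sgnL L (xor s t) = sgnL L s * sgnL L t := by
  cases s <;> cases t <;> simp [sgnL]

lemma sgnL_sq (s : Bool) : sgnL L s * sgnL L s = 1 := by cases s <;> simp [sgnL]

lemma sgnL_ne (s : Bool) : sgnL L s ≠ 0 := by cases s <;> simp [sgnL]

variable {L}

/-- The operator of a code on coefficient vectors. -/
def opc (n c : ℕ) (z : ℕ → L) (j : ℕ) : L :=
  sgnL L (sg n (c / 2 ^ n) (j ^^^ c % 2 ^ n)) * z (j ^^^ c % 2 ^ n)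

/-- The form of a code on coefficient vectors. -/
def formL (n c : ℕ) (u w : ℕ → L) : L :=
  ∑ i ∈ Finset.range (2 ^ n), sgnL L (sg n (c / 2 ^ n) i) * (u i * w (i ^^^ c % 2 ^ n))

/-- The standard form. -/
def dot (n : ℕ) (u w : ℕ → L) : L := ∑ i ∈ Finset.range (2 ^ n), u i * w i

lemma sum_xor {M : Type*} [AddCommMonoid M] (n : ℕ) {a : ℕ} (ha : a < 2 ^ n) (f : ℕ → M) :
    ∑ i ∈ Finset.range (2 ^ n), f (i ^^^ a) = ∑ i ∈ Finset.range (2 ^ n), f i := by
  refine Finset.sum_nbij' (fun i => i ^^^ a) (fun i => i ^^^ a) ?_ ?_ ?_ ?_ ?_ <;> intro i hi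
  · exact Finset.mem_range.mpr (Nat.xor_lt_two_pow (Finset.mem_range.mp hi) ha)
  · exact Finset.mem_range.mpr (Nat.xor_lt_two_pow (Finset.mem_range.mp hi) ha)
  · simp
  · simp
  · rfl

lemma opc_congr {n c : ℕ} {z z' : ℕ → L} (h : ∀ i < 2 ^ n, z i = z' i) :
    ∀ j < 2 ^ n, opc n c z j = opc n c z' j := fun j hj => by
  rw [opc, opc, h _ (Nat.xor_lt_two_pow hj (Nat.mod_lt _ (Nat.two_pow_pos _)))]

lemma opc_opc (n c d : ℕ) (z : ℕ → L) (j : ℕ) :
    opc n c (opc n d z) j = sgnL L (sg n (c / 2 ^ n) (d % 2 ^ n)) * opc n (c ^^^ d) z j := by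
  obtain ⟨hm, hd⟩ := xor_div_mod n c d
  simp only [opc, hm, hd]
  rw [← Nat.xor_assoc j, ← mul_assoc, ← mul_assoc, ← sgnL_xor, ← sgnL_xor]
  congr 2
  set a := c % 2 ^ n
  set a' := d % 2 ^ n
  rw [sg_xor_left n (c / 2 ^ n) (d / 2 ^ n), sg_xor_right n (c / 2 ^ n) (j ^^^ a) a']
  cases sg n (c / 2 ^ n) (j ^^^ a) <;> cases sg n (c / 2 ^ n) a' <;>
    cases sg n (d / 2 ^ n) (j ^^^ a ^^^ a') <;> rfl

lemma dot_opc_self (n c : ℕ) (u w : ℕ → L) : dot n (opc n c u) (opc n c w) = dot n u w := by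
  simp only [dot, opc]
  rw [← sum_xor n (Nat.mod_lt c (Nat.two_pow_pos n)) fun i => u i * w i]
  refine Finset.sum_congr rfl fun i _ => ?_
  linear_combination u (i ^^^ c % 2 ^ n) * w (i ^^^ c % 2 ^ n) *
    sgnL_sq L (sg n (c / 2 ^ n) (i ^^^ c % 2 ^ n))

lemma dot_opc (n c : ℕ) (u w : ℕ → L) : dot n (opc n c u) w = formL n c u w := by
  have ha := Nat.mod_lt c (Nat.two_pow_pos n)
  simp only [dot, opc, formL]
  rw [← sum_xor n ha fun i => sgnL L (sg n (c / 2 ^ n) i) * (u i * w (i ^^^ c % 2 ^ n))]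
  refine Finset.sum_congr rfl fun i _ => ?_
  rw [Nat.xor_assoc, Nat.xor_self, Nat.xor_zero]
  ring

lemma dot_congr {n : ℕ} {u u' w w' : ℕ → L} (hu : ∀ i < 2 ^ n, u i = u' i)
    (hw : ∀ i < 2 ^ n, w i = w' i) : dot n u w = dot n u' w' :=
  Finset.sum_congr rfl fun i hi => by
    rw [hu i (Finset.mem_range.mp hi), hw i (Finset.mem_range.mp hi)]

lemma dot_smul (n : ℕ) (k : L) (u w : ℕ → L) : dot n (fun i => k * u i) w = k * dot n u w := by
  simp only [dot, Finset.mul_sum, mul_assoc]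

lemma formL_coding {q : ℕ} (K : Coding L q) (n c : ℕ) (u w : ℕ → ℕ) :
    formL n c (fun i => K.φ (u i)) (fun i => K.φ (w i)) = K.φ (form q n c u w) := by
  rw [form, K.sumK_eq]
  exact Finset.sum_congr rfl fun i _ => by rw [K.sgnK_eq, K.mul]; rfl

lemma sum_sgn {n d : ℕ} (hd : d < 2 ^ n) (h2 : (2 : L) ≠ 0) :
    ∑ b ∈ Finset.range (2 ^ n), sgnL L (sg n b d) = if d = 0 then (2 : L) ^ n else 0 := by
  split_ifs with h
  · subst h
    simp [sg_zero_right, sgnL]
  obtain ⟨k, hk⟩ := Nat.exists_testBit_of_ne_zero h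
  have hkn : k < n := by
    by_contra hkn
    rw [Nat.testBit_eq_false_of_lt
      (hd.trans_le (Nat.pow_le_pow_right (by norm_num) (by omega)))] at hk
    simp at hk
  set T := ∑ b ∈ Finset.range (2 ^ n), sgnL L (sg n b d) with hT
  have : T = -T := by
    conv_lhs => rw [hT, ← sum_xor n (Nat.pow_lt_pow_right one_lt_two hkn)]
    rw [hT, ← Finset.sum_neg_distrib]
    refine Finset.sum_congr rfl fun b _ => ?_
    rw [sg_xor_left, sgnL_xor, sg_comm n (2 ^ k) d, sg_two_pow d hkn, hk, sgnL, sgnL, if_pos rfl]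
    ring
  exact (mul_eq_zero.mp (show (2 : L) * T = 0 by linear_combination this)).resolve_left h2

end Signed

variable {V : Type u} [AddCommGroup V] [Finite V] {S : Setup (Aut V)} {F : Frame S} {n : ℕ}

namespace Lifts

variable (T : Lifts F n)

/-- The representative of a code. -/
def rep (c : ℕ) : S.E := prodBits T.f n (c % 2 ^ n) * prodBits T.k n (c / 2 ^ n)

lemma cl_rep_xor (hU2 : ∀ u : S.U, u * u = 1) (c d : ℕ) :
    cl S (T.rep (c ^^^ d)) = cl S (T.rep c) * cl S (T.rep d) := by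
  obtain ⟨hm, hd⟩ := xor_div_mod n c d
  simp only [rep, map_mul, hm, hd, map_prodBits]
  rw [prodBits_xor (fun i _ j _ => Commute.all _ _) (fun i _ => hU2 _),
    prodBits_xor (fun i _ j _ => Commute.all _ _) (fun i _ => hU2 _)]
  exact mul_mul_mul_comm _ _ _ _

lemma rep_surj (u : S.U) : ∃ c < 2 ^ (2 * n), cl S (T.rep c) = u := by
  obtain ⟨a, ha, b, hb, rfl⟩ := T.surj u
  refine ⟨a + 2 ^ n * b, ?_, ?_⟩
  · calc a + 2 ^ n * b < 2 ^ n + 2 ^ n * b := Nat.add_lt_add_right ha _
      _ = 2 ^ n * (b + 1) := by ring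
      _ ≤ 2 ^ n * 2 ^ n := Nat.mul_le_mul_left _ hb
      _ = 2 ^ (2 * n) := by rw [← pow_add, two_mul]
  · rw [rep, Nat.add_mul_mod_self_left, Nat.mod_eq_of_lt ha,
      Nat.add_mul_div_left _ _ (Nat.two_pow_pos n), Nat.div_eq_of_lt ha, zero_add]

lemma rep_inj (hcard : Nat.card S.U = 2 ^ (2 * n)) {c d : ℕ} (hc : c < 2 ^ (2 * n))
    (hd : d < 2 ^ (2 * n)) (h : cl S (T.rep c) = cl S (T.rep d)) : c = d := by
  have hb : Function.Bijective fun c : Fin (2 ^ (2 * n)) => cl S (T.rep c) := by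
    refine Function.Surjective.bijective_of_nat_card_le (fun u => ?_) (by simp [hcard])
    obtain ⟨c, hc, he⟩ := T.rep_surj u
    exact ⟨⟨c, hc⟩, he⟩
  exact congrArg Fin.val (hb.1 (a₁ := ⟨c, hc⟩) (a₂ := ⟨d, hd⟩) h)

lemma kf_prod (j : ℕ) (hj : j < n) (i : ℕ) : ∀ m ≤ n,
    ((T.k j : S.E) : Aut V) * (prodBits T.f m i : S.E) =
      (if j < m ∧ i.testBit j then T.c else 1) * ((prodBits T.f m i : S.E) * T.k j) := by
  intro m
  induction m with
  | zero => intro _; simp [prodBits]
  | succ m ih =>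
    intro hm
    have ih := ih (by omega)
    by_cases hb : i.testBit m = true
    · simp only [prodBits, hb, if_true, Subgroup.coe_mul]
      set P : Aut V := ((prodBits T.f m i : S.E) : Aut V) with hP
      have hkfm := T.kf j hj m (by omega)
      have hPc : P * T.c = T.c * P := S.cen _ (S.e_le (prodBits T.f m i).2) _ T.c_mem
      calc (T.k j : Aut V) * (P * T.f m) = ((T.k j : Aut V) * P) * T.f m := by group
        _ = (if j < m ∧ i.testBit j = true then T.c else 1) * (P * ((T.k j : Aut V) * T.f m)) := by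
            rw [ih]; group
        _ = (if j < m ∧ i.testBit j = true then T.c else 1) *
              (P * (if j = m then T.c else 1) * ((T.f m : Aut V) * T.k j)) := by rw [hkfm]; group
        _ = _ := by
            by_cases hjm : j = m
            · subst hjm
              rw [if_neg (fun h => absurd h.1 (lt_irrefl j)), if_pos rfl, hPc,
                if_pos ⟨Nat.lt_succ_self j, hb⟩]
              group
            · rw [if_neg hjm, mul_one]
              by_cases h : j < m ∧ i.testBit j = true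
              · rw [if_pos h, if_pos ⟨by omega, h.2⟩]; group
              · rw [if_neg h, if_neg (fun h' => h ⟨by omega, h'.2⟩)]; group
    · simp only [prodBits, hb, Bool.false_eq_true, if_false, mul_one]
      rw [ih]
      congr 1
      by_cases hjm : j = m
      · subst hjm; simp [hb]
      · exact if_congr ⟨fun h => ⟨by omega, h.2⟩, fun h => ⟨by omega, h.2⟩⟩ rfl rfl

lemma c_sq : T.c * T.c = 1 := aut_ext fun v => by
  rw [mul_smul, T.c_neg, T.c_neg, neg_neg, one_smul]

lemma kk_prod (b i : ℕ) : ∀ m ≤ n,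
    ((prodBits T.k m b : S.E) : Aut V) * (prodBits T.f n i : S.E) =
      (if sg m b i then T.c else 1) * ((prodBits T.f n i : S.E) * (prodBits T.k m b : S.E)) := by
  intro m
  induction m with
  | zero => intro _; simp [prodBits, sg]
  | succ m ih =>
    intro hm
    have ih := ih (by omega)
    by_cases hb : b.testBit m = true
    · simp only [prodBits, hb, if_true, Subgroup.coe_mul, sg, Bool.true_and]
      have h1 := T.kf_prod m (by omega) i n le_rfl
      have hd : ∀ d : Aut V, d ∈ S.A0 →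
          ((prodBits T.k m b : S.E) : Aut V) * d = d * (prodBits T.k m b : S.E) :=
        fun d hd => S.cen _ (S.e_le (prodBits T.k m b).2) _ hd
      have hmem : (if m < n ∧ i.testBit m = true then T.c else 1) ∈ S.A0 := by
        split_ifs
        · exact T.c_mem
        · exact S.A0.one_mem
      calc ((prodBits T.k m b : S.E) : Aut V) * T.k m * (prodBits T.f n i : S.E)
          = (prodBits T.k m b : S.E) * ((T.k m : Aut V) * (prodBits T.f n i : S.E)) := by group
        _ = ((prodBits T.k m b : S.E) : Aut V) * (if m < n ∧ i.testBit m = true then T.c else 1) *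
              ((prodBits T.f n i : S.E) * T.k m) := by rw [h1]; group
        _ = (if m < n ∧ i.testBit m = true then T.c else 1) *
              (((prodBits T.k m b : S.E) : Aut V) * (prodBits T.f n i : S.E)) * T.k m := by
            rw [hd _ hmem]; group
        _ = (if m < n ∧ i.testBit m = true then T.c else 1) * (if sg m b i then T.c else 1) *
              ((prodBits T.f n i : S.E) * ((prodBits T.k m b : S.E) * T.k m)) := by rw [ih]; group
        _ = _ := by
            congr 1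
            have hmn : m < n := by omega
            cases i.testBit m <;> cases sg m b i <;> simp [T.c_sq, hmn]
    · simp only [prodBits, sg, hb, Bool.false_eq_true, if_false, mul_one]
      rw [ih]
      congr 1
      cases sg m b i <;> simp

lemma k_prod_mem (b : ℕ) : ∀ m ≤ n, ((prodBits T.k m b : S.E) : Aut V) ∈ F.K := by
  intro m
  induction m with
  | zero => intro _; simp [prodBits, F.K.one_mem]
  | succ m ih =>
    intro hm
    simp only [prodBits, Subgroup.coe_mul]
    refine F.K.mul_mem (ih (by omega)) ?_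
    split_ifs
    · exact T.k_mem m (by omega)
    · exact F.K.one_mem

variable (x : V)

/-- The basis vectors. -/
def vec (i : ℕ) : V := ((prodBits T.f n i : S.E) : Aut V) • x

variable {L : Type*} [Field L] [Module L V]

/-- The vector with given coefficients. -/
def comb (z : ℕ → L) : V := ∑ i ∈ Finset.range (2 ^ n), z i • T.vec x i

lemma rep_vec (hx : InW F.K x) (c i : ℕ) :
    (T.rep c : Aut V) • T.vec x i =
      sgnL L (sg n (c / 2 ^ n) i) • T.vec x (i ^^^ c % 2 ^ n) := by
  simp only [rep, vec, Subgroup.coe_mul]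
  rw [mul_smul, ← mul_smul ((prodBits T.k n (c / 2 ^ n) : S.E) : Aut V), T.kk_prod _ _ n le_rfl,
    mul_smul, mul_smul, hx _ (T.k_prod_mem _ n le_rfl), Nat.xor_comm i,
    prodBits_xor T.f_comm T.f_sq, Subgroup.coe_mul, mul_smul]
  cases sg n (c / 2 ^ n) i
  · simp [sgnL]
  · simp [sgnL, T.c_neg]

variable {x} (hlin : ∀ e ∈ S.C, ∀ (l : L) (v : V), e • (l • v) = l • (e • v))
include hlin

lemma rep_comb (hx : InW F.K x) (c : ℕ) (z : ℕ → L) :
    (T.rep c : Aut V) • T.comb x z = T.comb x (opc n c z) := by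
  simp only [comb, Finset.smul_sum, hlin _ (S.e_le (T.rep c).2), rep_vec T x hx c (L := L), smul_smul]
  rw [← sum_xor n (Nat.mod_lt c (Nat.two_pow_pos n)) fun i => opc n c z i • T.vec x i]
  refine Finset.sum_congr rfl fun i _ => ?_
  simp only [opc]
  rw [Nat.xor_assoc, Nat.xor_self, Nat.xor_zero, mul_comm]

lemma comb_eq_zero (hf : Fpf S) (hx : InW F.K x) (hx0 : x ≠ 0) (hDX : F.D = F.X)
    (hn : Nat.card (S.U ⧸ F.D) = 2 ^ n) {z : ℕ → L} (h : T.comb x z = 0) :
    ∀ i < 2 ^ n, z i = 0 := by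
  classical
  have hs : Function.Surjective fun i : Fin (2 ^ n) => F.qc (prodBits T.f n i) := fun q => by
    obtain ⟨e, rfl⟩ := F.qc_surjective q
    obtain ⟨a, ha, b, -, hab⟩ := T.surj (cl S e)
    refine ⟨⟨a, ha⟩, QuotientGroup.eq.mpr ?_⟩
    rw [hab, map_mul, ← mul_assoc, inv_mul_cancel, one_mul, hDX]
    exact ⟨prodBits T.k n b, T.k_prod_mem b n le_rfl, rfl⟩
  let eq : Fin (2 ^ n) ≃ S.U ⧸ F.D :=
    Equiv.ofBijective _ (hs.bijective_of_nat_card_le (by simp [hn]))
  haveI : Fintype (S.U ⧸ F.D) := Fintype.ofFinite _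
  let v : (S.U ⧸ F.D) → V := fun q => z (eq.symm q) • T.vec x (eq.symm q)
  have hv : ∀ q, F.InComp q (v q) := fun q => by
    refine ⟨prodBits T.f n (eq.symm q), eq.apply_symm_apply q, z (eq.symm q) • x,
      fun k hk => by rw [hlin k (S.e_le (F.le hk)), hx k hk], ?_⟩
    rw [hlin _ (S.e_le (prodBits T.f n (eq.symm q : ℕ)).2)]
    rfl
  let Q := Finset.univ.filter fun q => v q ≠ 0
  have hsum : ∑ q ∈ Q, v q = ∑ q ∈ (∅ : Finset (S.U ⧸ F.D)), v q := by
    rw [Finset.sum_filter_ne_zero, Finset.sum_empty, ← h, comb, Finset.sum_range, ← eq.sum_comp]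
    exact Finset.sum_congr rfl fun i _ => by simp [v]
  obtain ⟨hQ, -⟩ := F.comp_unique hf (fun q _ => hv q) (fun q _ => hv q)
    (fun q hq => (Finset.mem_filter.mp hq).2) (by simp) hsum
  intro i hi
  by_contra hzi
  have : eq ⟨i, hi⟩ ∈ Q := Finset.mem_filter.mpr ⟨Finset.mem_univ _, by
    simp only [v, Equiv.symm_apply_apply]
    exact smul_ne_zero hzi fun e => hx0 ((smul_eq_zero_iff_eq _).mp e)⟩
  rw [show Q = ∅ from hQ] at this
  exact Finset.notMem_empty _ this

end Lifts

end CfsgLib.SolvBase.SmallModel
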