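import Cfsg.Agent.SolvBase.SmallAct

/-!
An element fixing two model vectors permutes the operators affinely and preserves their labels.
-/

set_option autoImplicit false
set_option linter.style.haveILetI false
set_option linter.unusedSectionVars false

universe u

namespace CfsgLib.SolvBase.SmallModel

open OddBase

variable {V : Type u} [AddCommGroup V] [Finite V] {S : Setup (Aut V)} {F : Frame S}

/-- The standing data. -/
structure Ctx (S : Setup (Aut V)) (F : Frame S) (L : Type*) [Field L] [Module L V] (D : SmallData) where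
  T : Lifts F D.n
  K : Coding L D.q
  x : V
  xW : InW F.K x
  x_ne : x ≠ 0
  two : (2 : L) ≠ 0
  lin : ∀ e ∈ S.C, ∀ (l : L) (v : V), e • (l • v) = l • (e • v)
  semi : ∀ g ∈ S.A, ∃ τ : L ≃+* L, (∀ (l : L) (v : V), g • (l • v) = τ l • (g • v)) ∧
    ((∀ l, τ l = l) → g ∈ S.C)
  scal : ∀ a ∈ S.A0, ∃ l : L, l ≠ 0 ∧ ∀ v : V, a • v = l • v
  hf : Fpf S
  hDX : F.D = F.X
  hQ : Nat.card (S.U ⧸ F.D) = 2 ^ D.n
  hU : Nat.card S.U = 2 ^ (2 * D.n)
  hU2 : ∀ u : S.U, u * u = 1
  tbl : D.tblOK = true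
  stab : D.stabOK = true
  nz : ∃ i < 2 ^ D.n, D.xf i ≠ 0

namespace Ctx

variable {L : Type*} [Field L] [Module L V] {D : SmallData} (X : Ctx S F L D)

/-- The first vector. -/
def v1 : V := X.T.comb X.x fun i => X.K.φ (D.xf i)

/-- The second vector. -/
def v2 : V := X.T.comb X.x fun i => X.K.φ (D.yf i)

lemma comb_sub (z z' : ℕ → L) :
    X.T.comb X.x z - X.T.comb X.x z' = X.T.comb X.x fun i => z i - z' i := by
  simp only [Lifts.comb, sub_smul, Finset.sum_sub_distrib]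

lemma comb_eq {z z' : ℕ → L} (h : X.T.comb X.x z = X.T.comb X.x z') :
    ∀ i < 2 ^ D.n, z i = z' i := fun i hi => sub_eq_zero.mp
  (X.T.comb_eq_zero X.lin X.hf X.xW X.x_ne X.hDX X.hQ (by rw [← X.comb_sub z z', h, sub_self]) i hi)

lemma comb_congr {z z' : ℕ → L} (h : ∀ i < 2 ^ D.n, z i = z' i) :
    X.T.comb X.x z = X.T.comb X.x z' :=
  Finset.sum_congr rfl fun i hi => by rw [h i (Finset.mem_range.mp hi)]

lemma comb_smul (k : L) (z : ℕ → L) : X.T.comb X.x (fun i => k * z i) = k • X.T.comb X.x z := by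
  simp only [Lifts.comb, Finset.smul_sum, smul_smul]

/-- What an element fixing both vectors does. -/
structure Sym (g : Aut V) where
  τ : L ≃+* L
  semi : ∀ (l : L) (v : V), g • (l • v) = τ l • (g • v)
  memC : (∀ l, τ l = l) → g ∈ S.C
  σ : ℕ → ℕ
  σ_lt : ∀ c < D.P, σ c < D.P
  σ_act : ∀ c < D.P, ∃ e : S.E, cl S e = cl S (X.T.rep (σ c)) ∧
    g * (X.T.rep c : Aut V) * g⁻¹ = e
  c0 : ℕ
  c0_lt : c0 < D.P
  lab : ∀ c < D.P, ∃ κ : L, κ ≠ 0 ∧ ∀ u ∈ [D.xf, D.yf], ∀ w ∈ [D.xf, D.yf],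
    formL D.n (σ (c ^^^ c0)) (fun i => X.K.φ (u i)) (fun i => X.K.φ (w i)) =
      κ * τ (formL D.n c (fun i => X.K.φ (u i)) (fun i => X.K.φ (w i)))

include X in
lemma coeff {i0 : ℕ} (hi0 : i0 < 2 ^ D.n) (f : ℕ → L) :
    ∑ b ∈ Finset.range (2 ^ D.n), sgnL L (sg D.n b i0) *
      (∑ i ∈ Finset.range (2 ^ D.n), sgnL L (sg D.n b i) * f i) = (2 : L) ^ D.n * f i0 := by
  simp only [Finset.mul_sum, ← mul_assoc, ← sgnL_xor, ← sg_xor_right]
  rw [Finset.sum_comm]
  simp only [← Finset.sum_mul]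
  rw [Finset.sum_eq_single i0]
  · rw [Nat.xor_self, sum_sgn (Nat.two_pow_pos _) X.two, if_pos rfl]
  · intro i hi hne
    rw [sum_sgn (Nat.xor_lt_two_pow hi0 (Finset.mem_range.mp hi)) X.two,
      if_neg (fun h => hne ((Nat.xor_eq_zero_iff.mp h)).symm), zero_mul]
  · exact fun h => absurd (Finset.mem_range.mpr hi0) h

lemma code_lt {a b : ℕ} (ha : a < 2 ^ D.n) (hb : b < 2 ^ D.n) : a + 2 ^ D.n * b < D.P := by
  calc a + 2 ^ D.n * b < 2 ^ D.n + 2 ^ D.n * b := Nat.add_lt_add_right ha _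
    _ = 2 ^ D.n * (b + 1) := by ring
    _ ≤ 2 ^ D.n * 2 ^ D.n := Nat.mul_le_mul_left _ hb
    _ = 2 ^ (2 * D.n) := by rw [← pow_add, two_mul]

lemma code_parts {a : ℕ} (b : ℕ) (ha : a < 2 ^ D.n) :
    (a + 2 ^ D.n * b) % 2 ^ D.n = a ∧ (a + 2 ^ D.n * b) / 2 ^ D.n = b :=
  ⟨by rw [Nat.add_mul_mod_self_left, Nat.mod_eq_of_lt ha],
    by rw [Nat.add_mul_div_left _ _ (Nat.two_pow_pos _), Nat.div_eq_of_lt ha, zero_add]⟩

lemma exists_sign_code {ε : ℕ → L} (n : ℕ) (h1 : ∀ i < 2 ^ n, ε i = 1 ∨ ε i = -1)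
    (hmul : ∀ i < 2 ^ n, ∀ j < 2 ^ n, ε (i ^^^ j) = ε i * ε j) :
    ∃ b < 2 ^ n, ∀ i < 2 ^ n, ε i = sgnL L (sg n b i) := by
  classical
  obtain ⟨b, hb, hbits⟩ := exists_code n fun k => decide (ε (2 ^ k) ≠ 1)
  refine ⟨b, hb, ?_⟩
  have hgen : ∀ k < n, ε (2 ^ k) = sgnL L (sg n b (2 ^ k)) := by
    intro k hk
    rw [sg_two_pow b hk, hbits k hk]
    by_cases h : ε (2 ^ k) = 1
    · simp [h, sgnL]
    · rw [(h1 _ (Nat.pow_lt_pow_right one_lt_two hk)).resolve_left h]
      by_cases he : (-1 : L) = 1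
      · simp [he, sgnL]
      · simp [he, sgnL]
  have h0 : ε 0 = 1 := by
    have h := hmul 0 (Nat.two_pow_pos _) 0 (Nat.two_pow_pos _)
    rw [Nat.xor_self] at h
    rcases h1 0 (Nat.two_pow_pos _) with h' | h'
    · exact h'
    · rw [h'] at h ⊢; simpa using h
  have key : ∀ m ≤ n, ∀ i < 2 ^ m, ε i = sgnL L (sg n b i) := by
    intro m
    induction m with
    | zero => intro _ i hi; rw [show i = 0 by simpa using hi, h0, sg_zero_right]; rfl
    | succ m ih =>
      intro hm i hi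
      rcases Nat.lt_or_ge i (2 ^ m) with h | h
      · exact ih (by omega) i h
      have hbit : i.testBit m = true := by
        by_contra hc
        have : i < 2 ^ m := Nat.lt_pow_two_of_testBit i fun j hj => by
          rcases eq_or_lt_of_le hj with rfl | hlt
          · simpa using hc
          · exact Nat.testBit_eq_false_of_lt (hi.trans_le (Nat.pow_le_pow_right (by norm_num) hlt))
        omega
      set i' := i ^^^ 2 ^ m with hi'
      have hi'lt : i' < 2 ^ m := Nat.lt_pow_two_of_testBit i' fun j hj => by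
        rw [hi', Nat.testBit_xor, Nat.testBit_two_pow]
        rcases eq_or_lt_of_le hj with rfl | hlt
        · simp [hbit]
        · rw [Nat.testBit_eq_false_of_lt (hi.trans_le (Nat.pow_le_pow_right (by norm_num) hlt))]
          simp [hlt.ne]
      have hii : i = i' ^^^ 2 ^ m := by rw [hi', Nat.xor_assoc, Nat.xor_self, Nat.xor_zero]
      have hmn : 2 ^ m < 2 ^ n := Nat.pow_lt_pow_right one_lt_two (by omega)
      rw [show ε i = ε (i' ^^^ 2 ^ m) by rw [← hii], hmul _ (hi'lt.trans hmn) _ hmn,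
        ih (by omega) i' hi'lt, hgen m (by omega), ← sgnL_xor, ← sg_xor_right, ← hii]
  exact key n le_rfl

set_option maxHeartbeats 1000000 in
/-- The symmetry given by a stabilising element. -/
theorem exists_sym {g : Aut V} (hg : g ∈ S.A) (h1 : g • X.v1 = X.v1) (h2 : g • X.v2 = X.v2) :
    Nonempty (X.Sym g) := by
  classical
  obtain ⟨τ, hsemi, hmemC⟩ := X.semi g hg
  have hσ0 : ∀ c : ℕ, ∃ d < D.P, ∃ e : S.E, cl S e = cl S (X.T.rep d) ∧
      g * (X.T.rep c : Aut V) * g⁻¹ = e := fun c => by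
    obtain ⟨d, hd, he⟩ := X.T.rep_surj (cl S ⟨_, S.e_norm g hg _ (X.T.rep c).2⟩)
    exact ⟨d, hd, _, he.symm, rfl⟩
  choose σ hσlt hσ using hσ0
  have hlam : ∀ c : ℕ, ∃ l : L, l ≠ 0 ∧
      ∀ v : V, g • (X.T.rep c : Aut V) • v = l • (X.T.rep (σ c) : Aut V) • g • v := fun c => by
    obtain ⟨e, he, hge⟩ := hσ c
    have hmem : (e : Aut V) * (X.T.rep (σ c) : Aut V)⁻¹ ∈ S.A0 :=
      (cl_eq_one S (e := e * (X.T.rep (σ c))⁻¹)).mp (by rw [map_mul, map_inv, he, mul_inv_cancel])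
    obtain ⟨l, hl, hlv⟩ := X.scal _ hmem
    refine ⟨l, hl, fun v => ?_⟩
    rw [← hlv, ← mul_smul, ← mul_smul, ← mul_smul, ← hge]
    congr 1
    group
  choose lam hlam0 hlam using hlam
  -- the vectors lie in the invariant range
  let xL : ℕ → L := fun i => X.K.φ (D.xf i)
  let yL : ℕ → L := fun i => X.K.φ (D.yf i)
  have hv1 : g • X.T.comb X.x xL = X.T.comb X.x xL := h1
  have hv2 : g • X.T.comb X.x yL = X.T.comb X.x yL := h2
  have hop : ∀ c, g • X.T.comb X.x (opc D.n c xL) =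
      X.T.comb X.x fun i => lam c * opc D.n (σ c) xL i := fun c => by
    rw [← X.T.rep_comb X.lin X.xW, hlam, hv1, X.T.rep_comb X.lin X.xW, X.comb_smul]
  obtain ⟨hlt, -, -, -⟩ := SmallData.tblOK_spec X.tbl
  obtain ⟨i0, hi0, hne0⟩ := X.nz
  have hx0 : xL i0 ≠ 0 := X.K.ne_zero (hlt i0 hi0).1 hne0
  have hN0 : (2 : L) ^ D.n ≠ 0 := pow_ne_zero _ X.two
  have hvec : ∀ i < 2 ^ D.n, ∃ z : ℕ → L, g • X.T.vec X.x i = X.T.comb X.x z := by
    intro i hi
    -- a vector is a combination of translates of the first vector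
    have hcode : i ^^^ i0 < 2 ^ D.n := Nat.xor_lt_two_pow hi hi0
    let co : ℕ → L := fun b => ((2 : L) ^ D.n * xL i0)⁻¹ * sgnL L (sg D.n b i0)
    have hexp : X.T.vec X.x i = ∑ b ∈ Finset.range (2 ^ D.n),
        co b • X.T.comb X.x (opc D.n ((i ^^^ i0) + 2 ^ D.n * b) xL) := by
      simp only [Lifts.comb, Finset.smul_sum, smul_smul]
      rw [Finset.sum_comm]
      simp only [← Finset.sum_smul]
      rw [Finset.sum_eq_single i]
      · have h := X.coeff hi0 xL
        simp only [co, opc, (code_parts (D := D) _ hcode).1, (code_parts (D := D) _ hcode).2,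
          show i ^^^ (i ^^^ i0) = i0 by rw [← Nat.xor_assoc, Nat.xor_self, Nat.zero_xor], mul_assoc,
          ← Finset.mul_sum]
        simp only [← mul_assoc (sgnL L _) (sgnL L _), sgnL_sq, one_mul, Finset.sum_const,
          Finset.card_range, nsmul_eq_mul]
        push_cast
        rw [inv_mul_cancel₀ (mul_ne_zero hN0 hx0), one_smul]
      · intro j hj hne
        have hj' := Finset.mem_range.mp hj
        simp only [co, opc, (code_parts (D := D) _ hcode).1, (code_parts (D := D) _ hcode).2,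
          mul_assoc, ← Finset.mul_sum]
        simp only [← mul_assoc (sgnL L _) (sgnL L _), ← sgnL_xor, ← sg_xor_right, ← Finset.sum_mul]
        rw [sum_sgn (Nat.xor_lt_two_pow hi0 (Nat.xor_lt_two_pow hj' hcode)) X.two, if_neg ?_,
          zero_mul, mul_zero, zero_smul]
        intro h
        have h3 := Nat.xor_eq_zero_iff.mp h
        apply hne
        calc j = (j ^^^ (i ^^^ i0)) ^^^ (i ^^^ i0) := by rw [Nat.xor_assoc, Nat.xor_self, Nat.xor_zero]
          _ = i0 ^^^ (i ^^^ i0) := by rw [← h3]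
          _ = i := by rw [Nat.xor_comm i i0, ← Nat.xor_assoc, Nat.xor_self, Nat.zero_xor]
      · exact fun h => absurd (Finset.mem_range.mpr hi) h
    refine ⟨fun j => ∑ b ∈ Finset.range (2 ^ D.n),
      τ (co b) * (lam ((i ^^^ i0) + 2 ^ D.n * b) * opc D.n (σ ((i ^^^ i0) + 2 ^ D.n * b)) xL j), ?_⟩
    rw [hexp]
    simp only [Lifts.comb, Finset.sum_smul]
    rw [Finset.smul_sum, Finset.sum_comm]
    refine Finset.sum_congr rfl fun b _ => ?_
    have := hop ((i ^^^ i0) + 2 ^ D.n * b)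
    simp only [Lifts.comb] at this
    rw [hsemi, this, Finset.smul_sum]
    exact Finset.sum_congr rfl fun j _ => smul_smul _ _ _
  choose! M hM using hvec
  let G : (ℕ → L) → ℕ → L := fun z j => ∑ i ∈ Finset.range (2 ^ D.n), τ (z i) * M i j
  have hG : ∀ z, g • X.T.comb X.x z = X.T.comb X.x (G z) := fun z => by
    have h1 : g • X.T.comb X.x z =
        ∑ i ∈ Finset.range (2 ^ D.n), τ (z i) • X.T.comb X.x (M i) := by
      simp only [Lifts.comb, Finset.smul_sum, hsemi]
      refine Finset.sum_congr rfl fun i hi => ?_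
      rw [hM i (Finset.mem_range.mp hi), Lifts.comb, Finset.smul_sum]
    rw [h1]
    simp only [Lifts.comb, Finset.smul_sum, smul_smul, G, Finset.sum_smul]
    exact Finset.sum_comm
  have hGop : ∀ c z, ∀ j < 2 ^ D.n, G (opc D.n c z) j = lam c * opc D.n (σ c) (G z) j := fun c z =>
    X.comb_eq (by
      rw [← hG, ← X.T.rep_comb X.lin X.xW, hlam, hG, X.T.rep_comb X.lin X.xW, X.comb_smul])
  have hGx : ∀ j < 2 ^ D.n, G xL j = xL j := X.comb_eq (by rw [← hG, hv1])
  have hGy : ∀ j < 2 ^ D.n, G yL j = yL j := X.comb_eq (by rw [← hG, hv2])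
  have hGsmul : ∀ k z j, G (fun i => k * z i) j = τ k * G z j := fun k z j => by
    simp only [G, map_mul, Finset.mul_sum, mul_assoc]
  -- the squares of the scalars
  have hsq : ∀ c, lam c * lam c = 1 ∨ lam c * lam c = -1 := by
    intro c
    set s := sg D.n (c / 2 ^ D.n) (c % 2 ^ D.n)
    set s' := sg D.n (σ c / 2 ^ D.n) (σ c % 2 ^ D.n)
    have hself : ∀ (d : ℕ) (z : ℕ → L) (j : ℕ),
        opc D.n d (opc D.n d z) j = sgnL L (sg D.n (d / 2 ^ D.n) (d % 2 ^ D.n)) * z j := fun d z j => by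
      rw [opc_opc, Nat.xor_self]
      simp [opc, sg_comm D.n 0, sg_zero_right, sgnL]
    have h := hGop c (opc D.n c xL) i0 hi0
    have hL : G (opc D.n c (opc D.n c xL)) i0 = τ (sgnL L s) * G xL i0 := by
      rw [show opc D.n c (opc D.n c xL) = fun i => sgnL L s * xL i from funext (hself c xL), hGsmul]
    have hR : opc D.n (σ c) (G (opc D.n c xL)) i0 = lam c * (sgnL L s' * xL i0) := by
      rw [opc_congr (hGop c xL) i0 hi0]
      have : opc D.n (σ c) (fun j => lam c * opc D.n (σ c) (G xL) j) i0 =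
          lam c * opc D.n (σ c) (opc D.n (σ c) (G xL)) i0 := by simp only [opc]; ring
      rw [this, hself, hGx i0 hi0]
    rw [hL, hR, hGx i0 hi0] at h
    have h' : τ (sgnL L s) = lam c * lam c * sgnL L s' := mul_right_cancel₀ hx0 (by rw [h]; ring)
    cases hs : s <;> cases hs' : s' <;> simp [hs, hs', sgnL] at h'
    · exact Or.inl h'.symm
    · exact Or.inr (by linear_combination h')
    · exact Or.inr h'.symm
    · exact Or.inl h'.symm
  have hdot : ∀ c u w, dot D.n (G (opc D.n c u)) (G (opc D.n c w)) = lam c * lam c * dot D.n (G u) (G w) := by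
    intro c u w
    rw [dot_congr (hGop c u) (hGop c w), ← dot_opc_self D.n (σ c) (G u) (G w)]
    simp only [dot, Finset.mul_sum]
    exact Finset.sum_congr rfl fun i _ => by ring
  let e : ℕ → ℕ → L := fun i j => if j = i then 1 else 0
  let Nm : ℕ → ℕ → L := fun i j => dot D.n (M i) (M j)
  have hGe : ∀ i < 2 ^ D.n, ∀ j, G (e i) j = M i j := fun i hi j => by
    simp only [G, e]
    rw [Finset.sum_eq_single i (fun b _ hb => by simp [hb])
      (fun h => absurd (Finset.mem_range.mpr hi) h)]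
    simp
  have hexpand : ∀ u w, dot D.n (G u) (G w) =
      ∑ i ∈ Finset.range (2 ^ D.n), ∑ j ∈ Finset.range (2 ^ D.n), τ (u i) * τ (w j) * Nm i j := by
    intro u w
    simp only [dot, G, Nm]
    simp only [Finset.sum_mul_sum]
    rw [Finset.sum_comm]
    refine Finset.sum_congr rfl fun i _ => ?_
    rw [Finset.sum_comm]
    refine Finset.sum_congr rfl fun j _ => ?_
    rw [Finset.mul_sum]
    exact Finset.sum_congr rfl fun k _ => by ring
  have hNe : ∀ i < 2 ^ D.n, ∀ j < 2 ^ D.n, dot D.n (G (e i)) (G (e j)) = Nm i j := fun i hi j hj =>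
    dot_congr (fun k _ => hGe i hi k) (fun k _ => hGe j hj k)
  have hdiag : ∀ i < 2 ^ D.n, ∀ j < 2 ^ D.n, ∀ b < 2 ^ D.n,
      (sgnL L (sg D.n b i) * sgnL L (sg D.n b j) - lam (2 ^ D.n * b) * lam (2 ^ D.n * b)) * Nm i j = 0 := by
    intro i hi j hj b hb
    have hop' : ∀ i, opc D.n (2 ^ D.n * b) (e i) = fun k => sgnL L (sg D.n b i) * e i k := fun i => by
      funext k
      simp only [opc, Nat.mul_mod_right, Nat.mul_div_cancel_left _ (Nat.two_pow_pos D.n), Nat.xor_zero, e]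
      by_cases h : k = i
      · subst h; rfl
      · simp [h]
    have h := hdot (2 ^ D.n * b) (e i) (e j)
    rw [hop', hop'] at h
    have h2 : dot D.n (G fun k => sgnL L (sg D.n b i) * e i k) (G fun k => sgnL L (sg D.n b j) * e j k) =
        sgnL L (sg D.n b i) * sgnL L (sg D.n b j) * Nm i j := by
      have hs : ∀ s : Bool, τ (sgnL L s) = sgnL L s := fun s => by cases s <;> simp [sgnL]
      rw [dot_congr (fun k _ => hGsmul _ _ k) (fun k _ => hGsmul _ _ k), hs, hs, ← hNe i hi j hj]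
      simp only [dot, Finset.mul_sum]
      exact Finset.sum_congr rfl fun k _ => by ring
    rw [h2, hNe i hi j hj] at h
    linear_combination h
  have hperm : ∀ i < 2 ^ D.n, ∀ j < 2 ^ D.n, ∀ a < 2 ^ D.n,
      Nm (i ^^^ a) (j ^^^ a) = lam a * lam a * Nm i j := by
    intro i hi j hj a ha
    have hop' : ∀ i, opc D.n a (e i) = e (i ^^^ a) := fun i => by
      funext k
      simp only [opc, Nat.mod_eq_of_lt ha, Nat.div_eq_of_lt ha, sg_comm D.n 0, sg_zero_right, e, sgnL,
        Bool.false_eq_true, if_false, one_mul]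
      exact if_congr ⟨fun h => by rw [← h, Nat.xor_assoc, Nat.xor_self, Nat.xor_zero],
        fun h => by rw [h, Nat.xor_assoc, Nat.xor_self, Nat.xor_zero]⟩ rfl rfl
    have h := hdot a (e i) (e j)
    rw [hop', hop', hNe i hi j hj,
      hNe _ (Nat.xor_lt_two_pow hi ha) _ (Nat.xor_lt_two_pow hj ha)] at h
    exact h
  -- some entry is nonzero
  have hNexists : ∃ i < 2 ^ D.n, ∃ j < 2 ^ D.n, Nm i j ≠ 0 := by
    by_contra hall
    push Not at hall
    have hzero : ∀ u w, dot D.n (G u) (G w) = 0 := fun u w => by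
      rw [hexpand]
      exact Finset.sum_eq_zero fun i hi => Finset.sum_eq_zero fun j hj => by
        rw [hall i (Finset.mem_range.mp hi) j (Finset.mem_range.mp hj), mul_zero]
    have hform : ∀ c, formL D.n (σ c) xL xL = 0 := fun c => by
      have h := hzero (opc D.n c xL) xL
      have h' : dot D.n (G (opc D.n c xL)) (G xL) = lam c * formL D.n (σ c) xL xL := by
        rw [dot_congr (hGop c xL) hGx, dot_smul, dot_congr (opc_congr hGx) (fun _ _ => rfl), dot_opc]
      rw [h'] at h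
      exact (mul_eq_zero.mp h).resolve_left (hlam0 c)
    have hsurj : ∀ d < D.P, ∃ c, σ c = d := by
      have hinj : Function.Injective fun c : Fin D.P => (⟨σ c, hσlt c⟩ : Fin D.P) := by
        intro c d hcd
        obtain ⟨e1, he1, hg1⟩ := hσ c
        obtain ⟨e2, he2, hg2⟩ := hσ d
        have hcd' : σ c = σ d := congrArg Fin.val hcd
        have hee : cl S e1 = cl S e2 := by rw [he1, he2, hcd']
        have hmem : (e1 : Aut V)⁻¹ * e2 ∈ S.A0 :=
          (cl_eq_one S (e := e1⁻¹ * e2)).mp (by rw [map_mul, map_inv, hee, inv_mul_cancel])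
        have hmem' : ((X.T.rep c : Aut V))⁻¹ * X.T.rep d ∈ S.A0 := by
          have h := S.a0_norm g⁻¹ (S.A.inv_mem hg) _ hmem
          rw [← hg1, ← hg2] at h
          convert h using 1
          group
        refine Fin.ext (X.T.rep_inj X.hU c.2 d.2 (inv_mul_eq_one.mp ?_))
        rw [← map_inv, ← map_mul]
        exact (cl_eq_one S).mpr hmem'
      intro d hd
      obtain ⟨c, hc⟩ := (Finite.injective_iff_surjective.mp hinj) ⟨d, hd⟩
      exact ⟨c, congrArg Fin.val hc⟩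
    have h := X.coeff hi0 fun i => xL i * xL i
    rw [Finset.sum_eq_zero] at h
    · exact mul_ne_zero hN0 (mul_ne_zero hx0 hx0) h.symm
    intro b hb
    obtain ⟨c, hc⟩ := hsurj (0 + 2 ^ D.n * b)
      (code_lt (Nat.two_pow_pos _) (Finset.mem_range.mp hb))
    have h := hform c
    rw [hc] at h
    simp only [formL, (code_parts (D := D) b (Nat.two_pow_pos _)).1,
      (code_parts (D := D) b (Nat.two_pow_pos _)).2, Nat.xor_zero] at h
    rw [h, mul_zero]
  obtain ⟨i1, hi1, j1, hj1, hN1⟩ := hNexists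
  set a0 := i1 ^^^ j1
  have ha0 : a0 < 2 ^ D.n := Nat.xor_lt_two_pow hi1 hj1
  have hoff : ∀ i < 2 ^ D.n, ∀ j < 2 ^ D.n, i ^^^ j ≠ a0 → Nm i j = 0 := by
    intro i hi j hj hne
    obtain ⟨k, hk⟩ := Nat.exists_testBit_of_ne_zero
      (fun h => hne (Nat.xor_eq_zero_iff.mp h) : i ^^^ j ^^^ a0 ≠ 0)
    have hkn : k < D.n := by
      by_contra hkn
      rw [Nat.testBit_eq_false_of_lt ((Nat.xor_lt_two_pow (Nat.xor_lt_two_pow hi hj) ha0).trans_le
        (Nat.pow_le_pow_right (by norm_num) (Nat.le_of_not_lt hkn)))] at hk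
      simp at hk
    have hb := Nat.pow_lt_pow_right one_lt_two hkn
    have e1 : sgnL L (sg D.n (2 ^ k) i1) * sgnL L (sg D.n (2 ^ k) j1) = lam (2 ^ D.n * 2 ^ k) * lam (2 ^ D.n * 2 ^ k) :=
      sub_eq_zero.mp ((mul_eq_zero.mp (hdiag i1 hi1 j1 hj1 _ hb)).resolve_right hN1)
    refine (mul_eq_zero.mp (hdiag i hi j hj _ hb)).resolve_left ?_
    rw [sub_eq_zero, ← e1, ← sgnL_xor, ← sgnL_xor, ← sg_xor_right, ← sg_xor_right,
      sg_comm D.n (2 ^ k), sg_comm D.n (2 ^ k), sg_two_pow _ hkn, sg_two_pow _ hkn]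
    rw [Nat.testBit_xor] at hk
    intro h
    cases h3 : (i ^^^ j).testBit k <;> cases h4 : a0.testBit k <;>
      simp [h3, h4, sgnL, a0] at hk h ⊢
    · exact X.two (by linear_combination h)
    · exact X.two (by linear_combination -h)
  set μ := Nm 0 a0
  have hμ : μ ≠ 0 := by
    intro h
    refine hN1 ?_
    have := hperm 0 (Nat.two_pow_pos _) a0 ha0 i1 hi1
    rwa [Nat.zero_xor, show a0 ^^^ i1 = j1 by
      rw [Nat.xor_comm, ← Nat.xor_assoc, Nat.xor_self, Nat.zero_xor],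
      show Nm 0 a0 = 0 from h, mul_zero] at this
  let ε : ℕ → L := fun i => lam i * lam i
  have hrow : ∀ i < 2 ^ D.n, Nm i (i ^^^ a0) = ε i * μ := fun i hi => by
    have := hperm 0 (Nat.two_pow_pos _) a0 ha0 i hi
    rwa [Nat.zero_xor, Nat.xor_comm a0] at this
  obtain ⟨b0, hb0, hbε⟩ := exists_sign_code (ε := ε) D.n (fun i _ => hsq i) fun i hi j hj => by
    refine mul_right_cancel₀ hμ ?_
    have h := hperm i hi (i ^^^ a0) (Nat.xor_lt_two_pow hi ha0) j hj
    rw [hrow i hi, show i ^^^ a0 ^^^ j = i ^^^ j ^^^ a0 by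
      rw [Nat.xor_assoc, Nat.xor_comm a0, ← Nat.xor_assoc],
      hrow _ (Nat.xor_lt_two_pow hi hj)] at h
    rw [h]; ring
  set c0 := a0 + 2 ^ D.n * b0
  obtain ⟨hc0m, hc0d⟩ := code_parts (D := D) b0 ha0
  have hform : ∀ u w, dot D.n (G u) (G w) = μ * τ (formL D.n c0 u w) := by
    intro u w
    rw [hexpand, formL, map_sum, Finset.mul_sum]
    refine Finset.sum_congr rfl fun i hi => ?_
    have hi' := Finset.mem_range.mp hi
    rw [Finset.sum_eq_single (i ^^^ a0)]
    · rw [hrow i hi', hbε i hi', hc0m, hc0d, map_mul, map_mul]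
      have hs : τ (sgnL L (sg D.n b0 i)) = sgnL L (sg D.n b0 i) := by cases sg D.n b0 i <;> simp [sgnL]
      rw [hs]; ring
    · intro j hj hne
      rw [hoff i hi' j (Finset.mem_range.mp hj) (fun h => hne ?_), mul_zero]
      rw [← h, ← Nat.xor_assoc, Nat.xor_self, Nat.zero_xor]
    · exact fun h => absurd (Finset.mem_range.mpr (Nat.xor_lt_two_pow hi' ha0)) h
  refine ⟨⟨τ, hsemi, hmemC, σ, fun c _ => hσlt c, fun c _ => hσ c, c0,
    code_lt ha0 hb0, fun c _ => ?_⟩⟩
  set d := c ^^^ c0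
  refine ⟨(lam d)⁻¹ * μ * sgnL L (sg D.n (c0 / 2 ^ D.n) (d % 2 ^ D.n)), ?_, fun u hu w hw => ?_⟩
  · exact mul_ne_zero (mul_ne_zero (inv_ne_zero (hlam0 d)) hμ) (sgnL_ne L _)
  have hfixed : ∀ u ∈ [D.xf, D.yf], ∀ j < 2 ^ D.n, G (fun i => X.K.φ (u i)) j = X.K.φ (u j) := by
    intro u hu
    rcases List.mem_cons.mp hu with rfl | hu
    · exact hGx
    · rw [List.mem_singleton] at hu; subst hu; exact hGy
  set uL : ℕ → L := fun i => X.K.φ (u i)
  set wL : ℕ → L := fun i => X.K.φ (w i)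
  have h := hform (opc D.n d uL) wL
  rw [dot_congr (hGop d uL) (hfixed w hw), dot_smul,
    dot_congr (opc_congr (hfixed u hu)) (fun _ _ => rfl), dot_opc] at h
  have hc : formL D.n c0 (opc D.n d uL) wL =
      sgnL L (sg D.n (c0 / 2 ^ D.n) (d % 2 ^ D.n)) * formL D.n c uL wL := by
    rw [← dot_opc, dot_congr (fun i _ => opc_opc D.n c0 d uL i) (fun _ _ => rfl), dot_smul, dot_opc,
      show c0 ^^^ d = c by simp only [d]; rw [Nat.xor_comm c c0, ← Nat.xor_assoc, Nat.xor_self, Nat.zero_xor]]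
  rw [hc, map_mul, show τ (sgnL L (sg D.n (c0 / 2 ^ D.n) (d % 2 ^ D.n))) = sgnL L (sg D.n (c0 / 2 ^ D.n) (d % 2 ^ D.n)) by
    cases sg D.n (c0 / 2 ^ D.n) (d % 2 ^ D.n) <;> simp [sgnL]] at h
  rw [← inv_mul_cancel_left₀ (hlam0 d) (formL D.n (σ d) uL wL), h]
  ring

end Ctx

end CfsgLib.SolvBase.SmallModel
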