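import Cfsg.Agent.SolvBase.Saturate

/-!
A vector and a second vector in its component pinning down the centraliser of the scalars.
-/

set_option autoImplicit false
set_option linter.style.haveILetI false
set_option linter.unusedSectionVars false

universe u

namespace CfsgLib.SolvBase

open OddBase Polynomial
open scoped commutatorElement

variable {V : Type u} [AddCommGroup V] [Finite V] [Nontrivial V] {S : Setup (Aut V)}

/-- What is used of the two vectors in the trivial component. -/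
structure Witness (F : Frame S) where
  x : V
  w : V
  m1 : S.E
  m2 : S.E
  x_ne : x ≠ 0
  w_ne : w ≠ 0
  x_W : InW F.K x
  w_W : InW F.K w
  m1_D : cl S m1 ∈ F.D
  m2_D : cl S m2 ∈ F.D
  gen : F.D ≤ F.X ⊔ Subgroup.closure {cl S m1, cl S m2}
  pin : ∀ g ∈ S.A, g • x = x → g • w = w →
    g ∈ S.C ∧ g • (m1 : Aut V) • x = (m1 : Aut V) • x ∧ g • (m2 : Aut V) • x = (m2 : Aut V) • x

set_option maxHeartbeats 1000000 in
/-- Witnesses exist. -/
theorem exists_witness (hAn : NormSub S.A S.A0)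
    (hC : S.C = S.A ⊓ Subgroup.centralizer (S.A0 : Set (Aut V))) (hf : Fpf S) (hfull : Full S)
    (hfl : ∀ x ∈ spanRing S.A0, x ≠ 0 → ∃ y ∈ spanRing S.A0, x * y = 1) (F : Frame S) :
    Nonempty (Witness F) := by
  classical
  have hAc : ∀ a ∈ S.A0, ∀ b ∈ S.A0, a * b = b * a := fun a ha b hb =>
    S.cen a (S.e_le (S.a0_le ha)) b hb
  set L := spanRing S.A0 with hLdef
  letI instF : Field L := fieldOf hAc hfl
  have : Fintype L := Fintype.ofFinite _
  letI : Module L V := inferInstance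
  have hlin : ∀ c ∈ S.C, ∀ (s : L) (v : V), c • (s • v) = s • (c • v) :=
    fun c hc s v => DFunLike.congr_fun (comm_spanRing (S.cen c hc) s.2) v
  obtain ⟨γ, hγ⟩ := IsCyclic.exists_monoid_generator (α := Lˣ)
  -- fixing a generator means centralising the scalars
  have hgC : ∀ g ∈ S.A, cj g ((γ : L) : AddMonoid.End V) = ((γ : L) : AddMonoid.End V) → g ∈ S.C := by
    intro g hg hfix
    rw [hC]
    refine ⟨hg, Subgroup.mem_centralizer_iff.mpr fun a ha => ?_⟩
    have hu : IsUnit (⟨_, coe_mem_spanRing ha⟩ : L) := isUnit_iff_ne_zero.mpr fun e => by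
      obtain ⟨v, hv⟩ := exists_ne (0 : V)
      have : a • v = 0 := DFunLike.congr_fun (congrArg Subtype.val e) v
      exact hv ((smul_eq_zero_iff_eq _).mp this)
    obtain ⟨j, hj⟩ := (Submonoid.mem_powers_iff _ _).mp (hγ hu.unit)
    have h5 : ((γ : L) : AddMonoid.End V) ^ j = (a : AddMonoid.End V) := by
      have := congrArg (fun z : Lˣ => ((z : L) : AddMonoid.End V)) hj
      simpa using this
    have h6 : cj g (a : AddMonoid.End V) = (a : AddMonoid.End V) := by rw [← h5, map_pow, hfix]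
    rw [cj_coe] at h6
    exact (mul_inv_eq_iff_eq_mul.mp (Units.ext h6)).symm
  obtain ⟨x0, hx0, hx0W⟩ := F.wit
  rcases F.exists_gens hf with hle | ⟨m1, m2, hm1, hm2, hs1, hs2, hanti, ⟨c, hc, hc1, hcneg⟩, hgen⟩
  · have hwW : InW F.K ((γ : L) • x0) := fun k hk => by rw [hlin k (S.e_le (F.le hk)), hx0W k hk]
    refine ⟨⟨x0, (γ : L) • x0, 1, 1, hx0,
      fun h => hx0 ((smul_eq_zero.mp h).resolve_left γ.ne_zero), hx0W, hwW,
      by rw [map_one]; exact F.D.one_mem, by rw [map_one]; exact F.D.one_mem,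
      hle.trans le_sup_left, fun g hg hgx hgw => ⟨hgC g hg ?_, by simp [hgx], by simp [hgx]⟩⟩⟩
    have h2 := cj_apply_smul g ((γ : L) : AddMonoid.End V) x0
    rw [hgx] at h2
    have h3 : (⟨_, spanRing_cj hAn hg (γ : L).2⟩ : L) • x0 = (γ : L) • x0 := h2.trans hgw
    have h4 : ((⟨_, spanRing_cj hAn hg (γ : L).2⟩ : L) - (γ : L)) • x0 = 0 := by
      rw [sub_smul, h3, sub_self]
    exact congrArg Subtype.val (sub_eq_zero.mp ((smul_eq_zero.mp h4).resolve_right hx0))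
  have hodd : Fintype.card L % 2 = 1 := by
    by_contra h
    have h2 : 2 ∣ Fintype.card L := Nat.dvd_of_mod_eq_zero (by omega)
    rw [← Nat.card_eq_fintype_card] at h2
    haveI := Fact.mk Nat.prime_two
    obtain ⟨t, ht⟩ := exists_prime_addOrderOf_dvd_card' 2 h2
    have ht0 : t ≠ 0 := fun e => by rw [e, addOrderOf_zero] at ht; omega
    have h22 : (2 : L) = 0 := by
      have h1 : 2 • t = 0 := by rw [← ht]; exact addOrderOf_nsmul_eq_zero t
      rw [nsmul_eq_mul] at h1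
      exact (mul_eq_zero.mp h1).resolve_right ht0
    refine hc1 (aut_ext fun v => ?_)
    have h2v : v + v = 0 := by rw [← two_smul L v, h22, zero_smul]
    rw [hcneg, one_smul]
    exact neg_eq_of_add_eq_zero_left h2v
  have h2A : 2 ∣ Nat.card S.A0 := by
    have hcc : (⟨c, hc⟩ : S.A0) ^ 2 = 1 := by
      refine Subtype.ext (aut_ext fun v => ?_)
      rw [Subgroup.coe_pow, sq, mul_smul, hcneg, hcneg, neg_neg, OneMemClass.coe_one, one_smul]
    haveI := Fact.mk Nat.prime_two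
    rw [← orderOf_eq_prime hcc fun e => hc1 (congrArg Subtype.val e)]
    exact orderOf_dvd_natCard _
  have hneg : ∀ v : V, v = -v → v = 0 := fun v hv => hf c hc hc1 v ((hcneg v).trans hv.symm)
  -- elements outside `X` have non-square squares
  have hnX1 : cl S m1 ∉ F.X := fun h => by
    have h12 : (m2 : Aut V) * m1 = m1 * m2 := (beta_cl_eq_one S m2 m1).mp (hm2 _ h)
    obtain ⟨v, hv⟩ := exists_ne (0 : V)
    have h := hanti v
    rw [← mul_smul, ← mul_smul, h12] at h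
    exact hv ((smul_eq_zero_iff_eq _).mp (hneg _ h))
  have hnX12 : cl S (m1 * m2) ∉ F.X := fun h => by
    have h12 : (m2 : Aut V) * (m1 * m2 : S.E) = (m1 * m2 : S.E) * m2 :=
      (beta_cl_eq_one S m2 (m1 * m2)).mp (hm2 _ h)
    rw [Subgroup.coe_mul, ← mul_assoc] at h12
    obtain ⟨v, hv⟩ := exists_ne (0 : V)
    have h := hanti v
    rw [← mul_smul, ← mul_smul, mul_right_cancel h12] at h
    exact hv ((smul_eq_zero_iff_eq _).mp (hneg _ h))
  have hnX2 : cl S m2 ∉ F.X := fun h => by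
    have h12 : (m1 : Aut V) * m2 = m2 * m1 := (beta_cl_eq_one S m1 m2).mp (hm1 _ h)
    obtain ⟨v, hv⟩ := exists_ne (0 : V)
    have h := hanti v
    rw [← mul_smul, ← mul_smul, h12] at h
    exact hv ((smul_eq_zero_iff_eq _).mp (hneg _ h))
  let a1 : L := ⟨((m1 : Aut V) * m1 : Aut V), coe_mem_spanRing hs1⟩
  let a2 : L := ⟨((m2 : Aut V) * m2 : Aut V), coe_mem_spanRing hs2⟩
  have e11 : ∀ v : V, (m1 : Aut V) • (m1 : Aut V) • v = a1 • v := fun v => (mul_smul _ _ v).symm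
  have e22 : ∀ v : V, (m2 : Aut V) • (m2 : Aut V) • v = a2 • v := fun v => (mul_smul _ _ v).symm
  have hC1 : (m1 : Aut V) ∈ S.C := S.e_le m1.2
  have hC2 : (m2 : Aut V) ∈ S.C := S.e_le m2.2
  have hne : ∀ a : L, (∀ v : V, a • v = 0 → v = 0) → a ≠ 0 := fun a h e =>
    hx0 (h x0 (by rw [e, zero_smul]))
  have ha1 : a1 ≠ 0 := hne a1 fun v hv => by
    rw [← e11] at hv
    exact (smul_eq_zero_iff_eq _).mp ((smul_eq_zero_iff_eq _).mp hv)
  have ha2 : a2 ≠ 0 := hne a2 fun v hv => by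
    rw [← e22] at hv
    exact (smul_eq_zero_iff_eq _).mp ((smul_eq_zero_iff_eq _).mp hv)
  have hnsq : ∀ (e : S.E) (a : L), cl S e ∈ F.D → cl S e ∉ F.X →
      (∀ v : V, (e : Aut V) • (e : Aut V) • v = a • v) → a ≠ 0 → ∀ b : L, a ≠ b * b := by
    intro e a heD heX he ha b hb
    have hb0 : b ≠ 0 := fun h => ha (by rw [hb, h, mul_zero])
    obtain ⟨β, hβ, hβb⟩ := hfull b b.2 (fun h => hb0 (Subtype.ext h))
    refine heX (F.eigen_A0 hf Nat.prime_two h2A heD hβ (aut_ext fun v => ?_))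
    rw [sq, sq, mul_smul, mul_smul, he, hb, mul_smul (b : L) b v]
    show (b : AddMonoid.End V) ((b : AddMonoid.End V) v) = _
    rw [← hβb]
    rfl
  have hsq1 := hnsq m1 a1 hm1 hnX1 e11 ha1
  have hsq2 := hnsq m2 a2 hm2 hnX2 e22 ha2
  have hsq12 := hnsq (m1 * m2) (-(a1 * a2)) (by rw [map_mul]; exact F.D.mul_mem hm1 hm2) hnX12
    (fun v => by
      have k1 : (m2 : Aut V) • (m1 : Aut V) • (m2 : Aut V) • v =
          -((m1 : Aut V) • (m2 : Aut V) • (m2 : Aut V) • v) := by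
        rw [hanti ((m2 : Aut V) • v), neg_neg]
      rw [Subgroup.coe_mul, mul_smul, mul_smul, k1, smul_neg, e22, hlin _ hC1, hlin _ hC1, e11,
        smul_smul, mul_comm a2 a1, neg_smul])
    (neg_ne_zero.mpr (mul_ne_zero ha1 ha2))
  obtain ⟨s, t, hst⟩ := FiniteField.exists_root_sum_quadratic (R := L) (f := X ^ 2)
    (g := C (-a1) * X ^ 2 + C (-a2⁻¹)) (degree_X_pow 2)
    (by rw [degree_add_C (by rw [degree_C_mul_X_pow 2 (neg_ne_zero.mpr ha1)]; norm_num),
        degree_C_mul_X_pow 2 (neg_ne_zero.mpr ha1)]; norm_num) hodd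
  simp only [eval_pow, eval_X, eval_add, eval_mul, eval_C] at hst
  have hst' : s * s - a1 * (t * t) = a2⁻¹ := by linear_combination hst
  have ht : t ≠ 0 := fun h => by
    rw [h, mul_zero, mul_zero, sub_zero] at hst'
    exact hsq2 s⁻¹ (by rw [← mul_inv, hst', inv_inv])
  have hs : s ≠ 0 := fun h => by
    rw [h, mul_zero, zero_sub] at hst'
    refine hsq12 t⁻¹ ?_
    have h1 : a2 = -(a1 * (t * t))⁻¹ := by rw [← inv_neg, hst', inv_inv]
    rw [h1, mul_neg, neg_neg, mul_inv, ← mul_assoc, mul_inv_cancel₀ ha1, one_mul, mul_inv]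
  let um : V → V := fun v => s • ((m2 : Aut V) • v) + t • ((m1 : Aut V) • (m2 : Aut V) • v)
  have hum2 : um (um x0) = x0 := by
    have k1 : (m2 : Aut V) • (m1 : Aut V) • (m2 : Aut V) • x0 =
        -((m1 : Aut V) • (m2 : Aut V) • (m2 : Aut V) • x0) := by
      rw [hanti ((m2 : Aut V) • x0), neg_neg]
    simp only [um, smul_add, hlin _ hC1, hlin _ hC2, k1, e22, smul_neg, e11]
    have : (s * s * a2 - t * t * a2 * a1) • x0 = x0 := by
      rw [show s * s * a2 - t * t * a2 * a1 = (s * s - a1 * (t * t)) * a2 by ring, hst',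
        inv_mul_cancel₀ ha2, one_smul]
    conv_rhs => rw [← this]
    generalize (m1 : Aut V) • x0 = y1
    module
  have humadd : ∀ v w, um (v + w) = um v + um w := fun v w => by
    simp only [um, smul_add]; abel
  have humW : ∀ v, InW F.K v → InW F.K (um v) := fun v hv k hk => by
    simp only [um, smul_add, hlin k (S.e_le (F.le hk))]
    rw [F.inW_smul hm2 hv k hk, F.inW_smul hm1 (F.inW_smul hm2 hv) k hk]
  obtain ⟨x, hx, hxW, ε, hε0, hε⟩ : ∃ x, x ≠ 0 ∧ InW F.K x ∧ ∃ ε : L, ε ≠ 0 ∧ um x = ε • x := by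
    by_cases h : x0 + um x0 = 0
    · refine ⟨x0, hx0, hx0W, -1, neg_ne_zero.mpr one_ne_zero, ?_⟩
      rw [neg_smul, one_smul]
      exact eq_neg_of_add_eq_zero_right h
    · refine ⟨x0 + um x0, h, fun k hk => by rw [smul_add, hx0W k hk, humW _ hx0W k hk], 1,
        one_ne_zero, ?_⟩
      rw [one_smul, humadd, hum2, add_comm]
  set y1 := (m1 : Aut V) • x with hy1
  clear_value y1
  have hm2x : (m2 : Aut V) • x = (a2 * ε * s) • x + (-(a2 * ε * t)) • y1 := by
    have h1 : s • um x - t • ((m1 : Aut V) • um x) = ε • (s • x - t • y1) := by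
      rw [hy1, hε, hlin _ hC1, smul_sub, smul_comm s ε, smul_comm t ε]
    simp only [um, smul_add, hlin _ hC1, e11] at h1
    have h3 : (a2 * ε * s) • x + (-(a2 * ε * t)) • y1 = a2 • (ε • (s • x - t • y1)) := by module
    rw [h3, ← h1]
    have h2 : (m2 : Aut V) • x = (a2 * (s * s - a1 * (t * t))) • ((m2 : Aut V) • x) := by
      rw [hst', mul_inv_cancel₀ ha2, one_smul]
    conv_lhs => rw [h2]
    generalize (m1 : Aut V) • (m2 : Aut V) • x = y12
    generalize (m2 : Aut V) • x = y2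
    module
  have hind : ∀ a b : L, a • x + b • y1 = 0 → a = 0 ∧ b = 0 := by
    intro a b hab
    by_cases hb : b = 0
    · rw [hb, zero_smul, add_zero] at hab
      exact ⟨(smul_eq_zero.mp hab).resolve_right hx, hb⟩
    exfalso
    have hy : y1 = (-(b⁻¹ * a)) • x := by
      have h1 : b • y1 = -(a • x) := eq_neg_of_add_eq_zero_right hab
      rw [neg_smul, mul_smul, ← smul_neg, ← h1, inv_smul_smul₀ hb]
    have hc0 : (-(b⁻¹ * a)) ≠ 0 := fun h => hx ((smul_eq_zero_iff_eq (m1 : Aut V)).mp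
      (show (m1 : Aut V) • x = 0 by rw [← hy1, hy, h, zero_smul]))
    obtain ⟨β, hβ, hβb⟩ := hfull _ (-(b⁻¹ * a) : L).2 fun e => hc0 (Subtype.ext e)
    let e : S.E := ⟨β⁻¹, S.a0_le (S.A0.inv_mem hβ)⟩ * m1
    have hex : (e : Aut V) • x = x := by
      show (β⁻¹ * (m1 : Aut V)) • x = x
      rw [mul_smul, ← hy1, hy, inv_smul_eq_iff]
      show ((-(b⁻¹ * a) : L) : AddMonoid.End V) x = (β : AddMonoid.End V) x
      rw [hβb]
    refine hnX1 ?_
    have h1 : cl S e = cl S m1 := by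
      rw [map_mul, mul_eq_right, cl_eq_one]
      exact S.A0.inv_mem hβ
    rw [← h1]
    exact ⟨e, F.max x hx hxW _ e.2 hex, rfl⟩
  -- the second vector
  have hγsq : ∀ b : L, (γ : L) ≠ b * b := by
    intro b hb
    have hb0 : b ≠ 0 := fun h => γ.ne_zero (by rw [hb, h, mul_zero])
    obtain ⟨j, hj⟩ := (Submonoid.mem_powers_iff _ _).mp (hγ (Units.mk0 a1 ha1))
    refine hsq1 (b ^ j) ?_
    rw [← mul_pow, ← hb, ← Units.val_pow_eq_pow_val, hj, Units.val_mk0]
  obtain ⟨δ, hδ0, hδ⟩ : ∃ δ : L, δ ≠ 0 ∧ δ * δ * a1 = (γ : L) := by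
    obtain ⟨j, hj⟩ := (Submonoid.mem_powers_iff _ _).mp (hγ (Units.mk0 a1 ha1))
    have hja : (γ : L) ^ j = a1 := by rw [← Units.val_pow_eq_pow_val, hj, Units.val_mk0]
    obtain ⟨i, hi⟩ : ∃ i, j = 2 * i + 1 := by
      rcases Nat.even_or_odd j with ⟨i, rfl⟩ | ⟨i, rfl⟩
      · exact absurd (by rw [← hja, pow_add]) (hsq1 ((γ : L) ^ i))
      · exact ⟨i, rfl⟩
    refine ⟨((γ : L) ^ i)⁻¹, inv_ne_zero (pow_ne_zero _ γ.ne_zero), ?_⟩
    rw [← hja, hi, pow_succ, two_mul, pow_add]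
    field_simp [γ.ne_zero]
  have hy1W : InW F.K y1 := by rw [hy1]; exact F.inW_smul hm1 hxW
  have hwW : InW F.K (δ • y1) := fun k hk => by rw [hlin k (S.e_le (F.le hk)), hy1W k hk]
  have hy10 : y1 ≠ 0 := fun h => hx ((smul_eq_zero_iff_eq _).mp (hy1 ▸ h))
  refine ⟨⟨x, δ • y1, m1, m2, hx, fun h => hy10 ((smul_eq_zero.mp h).resolve_left hδ0), hxW, hwW,
    hm1, hm2, hgen, fun g hg hgx hgw => ?_⟩⟩
  let τ : L → L := fun z => ⟨cj g z, spanRing_cj hAn hg z.2⟩
  have hτs : ∀ (z : L) (v : V), g • (z • v) = τ z • (g • v) := fun z v =>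
    (cj_apply_smul g (z : AddMonoid.End V) v).symm
  have hτmul : ∀ z z' : L, τ (z * z') = τ z * τ z' := fun z z' =>
    Subtype.ext (map_mul (cj g) (z : AddMonoid.End V) z')
  have hτ0 : τ δ ≠ 0 := fun h => by
    have h1 : g • (δ • y1) = 0 := by rw [hτs, h, zero_smul]
    rw [hgw] at h1
    exact hy10 ((smul_eq_zero.mp h1).resolve_left hδ0)
  have hgK : ∀ k ∈ F.K, g * k * g⁻¹ ∈ F.K := fun k hk => by
    refine F.max x hx hxW _ (S.e_norm g hg k (F.le hk)) ?_
    rw [mul_smul, mul_smul, inv_smul_eq_iff.mpr hgx.symm, hxW k hk, hgx]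
  let e : S.E := ⟨g * m1 * g⁻¹, S.e_norm g hg m1 m1.2⟩
  have heD : cl S e ∈ F.D := F.mem_D.mpr fun k hk => by
    have hk' : g⁻¹ * k * g ∈ F.K := by
      have hgx' : g⁻¹ • x = x := inv_smul_eq_iff.mpr hgx.symm
      refine F.max x hx hxW _ (by simpa using S.e_norm g⁻¹ (S.A.inv_mem hg) k (F.le hk)) ?_
      rw [mul_smul, mul_smul, hgx, hxW k hk, hgx']
    show g * (m1 : Aut V) * g⁻¹ * k = k * (g * (m1 : Aut V) * g⁻¹)
    calc g * (m1 : Aut V) * g⁻¹ * k = g * ((m1 : Aut V) * (g⁻¹ * k * g)) * g⁻¹ := by group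
      _ = g * ((g⁻¹ * k * g) * (m1 : Aut V)) * g⁻¹ := by rw [(F.mem_D.mp hm1 _ hk')]
      _ = _ := by group
  have hex : (e : Aut V) • x = ((τ δ)⁻¹ * δ) • y1 := by
    show (g * (m1 : Aut V) * g⁻¹) • x = _
    rw [mul_smul, mul_smul, inv_smul_eq_iff.mpr hgx.symm, mul_smul, ← hgw, hτs, inv_smul_smul₀ hτ0,
      hy1]
  -- the class of the conjugate
  obtain ⟨u, hu, v, hv, huv⟩ := Subgroup.mem_sup.mp (hgen heD)
  obtain ⟨k, hk, rfl⟩ := hu
  have hsqc : ∀ m : S.E, (m : Aut V) * m ∈ S.A0 → cl S m * cl S m = 1 := fun m h => by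
    rw [← map_mul, cl_eq_one]
    exact h
  obtain ⟨μ, hμ, hμv⟩ : ∃ μ : S.E, (μ = 1 ∨ μ = m1 ∨ μ = m2 ∨ μ = m1 * m2) ∧ cl S μ = v := by
    obtain ⟨i, j, rfl⟩ := Subgroup.mem_closure_pair.mp hv
    have hpow : ∀ m : S.E, (m : Aut V) * m ∈ S.A0 → ∀ i : ℤ, cl S m ^ i = 1 ∨ cl S m ^ i = cl S m := by
      intro m h i
      rcases Int.even_or_odd' i with ⟨l, rfl | rfl⟩
      · left
        rw [zpow_mul, zpow_two, hsqc m h, one_zpow]
      · right
        rw [zpow_add, zpow_mul, zpow_two, hsqc m h, one_zpow, one_mul, zpow_one]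
    rcases hpow m1 hs1 i with h | h <;> rcases hpow m2 hs2 j with h' | h' <;> rw [h, h']
    · exact ⟨1, Or.inl rfl, by simp⟩
    · exact ⟨m2, Or.inr (Or.inr (Or.inl rfl)), by simp⟩
    · exact ⟨m1, Or.inr (Or.inl rfl), by simp⟩
    · exact ⟨m1 * m2, Or.inr (Or.inr (Or.inr rfl)), by simp⟩
  let α : S.E := (k * μ)⁻¹ * e
  have hαA : (α : Aut V) ∈ S.A0 := (cl_eq_one S).mp (by rw [map_mul, map_inv, map_mul, hμv, huv, inv_mul_cancel])
  have he' : (e : Aut V) = (k : Aut V) * μ * α := by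
    show _ = (k : Aut V) * μ * (((k * μ : S.E) : Aut V)⁻¹ * e)
    rw [Subgroup.coe_mul, mul_inv_cancel_left]
  let al : L := ⟨_, coe_mem_spanRing hαA⟩
  have hal0 : al ≠ 0 := fun h => hx ((smul_eq_zero_iff_eq (α : Aut V)).mp
    (show (α : Aut V) • x = 0 from DFunLike.congr_fun (congrArg Subtype.val h) x))
  have hμx : ((k : Aut V) * μ * α) • x = al • ((μ : Aut V) • x) := by
    rw [mul_assoc, S.cen _ (S.e_le μ.2) _ hαA, ← mul_assoc, S.cen (k : Aut V) (S.e_le k.2) _ hαA, mul_assoc,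
      mul_smul, mul_smul]
    rw [F.inW_smul (e := μ) (by
      rcases hμ with rfl | rfl | rfl | rfl
      · rw [map_one]; exact F.D.one_mem
      · exact hm1
      · exact hm2
      · rw [map_mul]; exact F.D.mul_mem hm1 hm2) hxW k hk]
    rfl
  have hkey : al • ((μ : Aut V) • x) = ((τ δ)⁻¹ * δ) • y1 := by rw [← hμx, ← he', hex]
  have hcoef : μ = m1 ∧ al = (τ δ)⁻¹ * δ := by
    have hT : a2 * ε * t ≠ 0 := mul_ne_zero (mul_ne_zero ha2 hε0) ht
    have hS : a2 * ε * s ≠ 0 := mul_ne_zero (mul_ne_zero ha2 hε0) hs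
    rcases hμ with rfl | rfl | rfl | rfl
    · exfalso
      rw [OneMemClass.coe_one, one_smul] at hkey
      exact hal0 (hind al (-((τ δ)⁻¹ * δ)) (by rw [hkey, neg_smul, add_neg_cancel])).1
    · refine ⟨rfl, ?_⟩
      rw [← hy1] at hkey
      have h1 : (al - (τ δ)⁻¹ * δ) • y1 = 0 := by rw [sub_smul, hkey, sub_self]
      exact sub_eq_zero.mp ((smul_eq_zero.mp h1).resolve_right hy10)
    · exfalso
      rw [hm2x] at hkey
      have h := (hind (al * (a2 * ε * s)) (al * (-(a2 * ε * t)) - (τ δ)⁻¹ * δ) (by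
        rw [sub_smul, ← hkey]; module)).1
      exact mul_ne_zero hal0 hS h
    · exfalso
      rw [Subgroup.coe_mul, mul_smul, hm2x, smul_add, hlin _ hC1, hlin _ hC1, ← hy1, hy1, e11,
        ← hy1] at hkey
      have h := (hind (al * (-(a2 * ε * t)) * a1) (al * (a2 * ε * s) - (τ δ)⁻¹ * δ) (by
        rw [sub_smul, ← hkey]; module)).1
      exact mul_ne_zero (mul_ne_zero hal0 (neg_ne_zero.mpr hT)) ha1 h
  obtain ⟨rfl, hal⟩ := hcoef
  -- squares
  have hkc : (k : Aut V) * μ = μ * k := (F.mem_D.mp hm1 _ hk).symm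
  have hak : (k : Aut V) * α = α * k := S.cen _ (S.e_le k.2) _ hαA
  have ham : (μ : Aut V) * α = α * μ := S.cen _ (S.e_le μ.2) _ hαA
  have hsquare : (e : Aut V) * e = (k : Aut V) * k * ((μ : Aut V) * μ * ((α : Aut V) * α)) := by
    rw [he']
    calc (k : Aut V) * μ * α * ((k : Aut V) * μ * α) = (k : Aut V) * μ * ((α : Aut V) * k) * μ * α := by group
      _ = (k : Aut V) * ((μ : Aut V) * k) * α * μ * α := by rw [← hak]; group
      _ = (k : Aut V) * k * μ * ((α : Aut V) * μ) * α := by rw [← hkc]; group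
      _ = _ := by rw [← ham]; group
  have hee : (e : Aut V) * e = g * ((μ : Aut V) * μ) * g⁻¹ := by
    show g * (μ : Aut V) * g⁻¹ * (g * (μ : Aut V) * g⁻¹) = _
    group
  have hkk : (k : Aut V) * k = 1 := by
    refine F.eq_one_of_mem_A0 hf (F.K.mul_mem hk hk) ?_
    have h1 : g * ((μ : Aut V) * μ) * g⁻¹ ∈ S.A0 := S.a0_norm g hg _ hs1
    rw [← hee, hsquare] at h1
    have h2 : (μ : Aut V) * μ * ((α : Aut V) * α) ∈ S.A0 := S.A0.mul_mem hs1 (S.A0.mul_mem hαA hαA)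
    have h3 := S.A0.mul_mem h1 (S.A0.inv_mem h2)
    rwa [mul_inv_cancel_right] at h3
  have hτa : τ a1 = a1 * (al * al) := by
    refine Subtype.ext ?_
    show cj g (((μ : Aut V) * μ : Aut V) : AddMonoid.End V) = _
    rw [cj_coe, ← hee, hsquare, hkk, one_mul]
    rfl
  have hτγ : τ (γ : L) = (γ : L) := by
    rw [← hδ, hτmul, hτmul, hτa, hal]
    field_simp [hτ0]
  have hgC' : g ∈ S.C := hgC g hg (congrArg Subtype.val hτγ)
  have hfixy : g • y1 = y1 := by
    rw [hlin g hgC'] at hgw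
    exact smul_right_injective V hδ0 hgw
  refine ⟨hgC', by rw [← hy1]; exact hfixy, ?_⟩
  rw [hm2x, smul_add, hlin g hgC', hlin g hgC', hgx, hfixy]

end CfsgLib.SolvBase
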